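import Cfsg.Agent.Lib.LeechAut.Triples
import Cfsg.Agent.Lib.Leech.Shapes
import Cfsg.Agent.S0394
import Cfsg.Agent.S0395

/-!
The second and fourth moments of the minimal vectors and the census of inner products they give.
-/

set_option autoImplicit false
set_option maxRecDepth 10000

namespace Cfsg.Agent.LeechAut.Moments

open Cfsg Cfsg.Agent.Golay.Basic Cfsg.Agent.Golay.Design Cfsg.Agent.Leech.Basic Cfsg.Agent.Leech.Index
  Cfsg.Agent.LeechAut.Gens Cfsg.Agent.LeechAut.Basic Cfsg.Agent.LeechAut.Xi
  Cfsg.Agent.LeechAut.Shells Cfsg.Agent.LeechAut.Cross Cfsg.Agent.LeechAut.Pairs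
  Cfsg.Agent.LeechAut.Triples Finset
open scoped Pointwise

theorem shell_finite {N : ℕ} (hN : N ≤ 64) : {v : leechLattice | sqNorm (v : Vec) = N}.Finite := by
  refine Set.Finite.of_finite_image (f := fun v : leechLattice => (v : Vec))
    ((Cfsg.Agent.Leech.Shapes.finite_norm hN).subset ?_) Subtype.val_injective.injOn
  rintro x ⟨v, hv, rfl⟩
  exact ⟨v.2, hv⟩

theorem ncard_raw (P : Vec → Prop) :
    {x : Vec | x ∈ leechLattice ∧ P x}.ncard = {v : leechLattice | P (v : Vec)}.ncard := by
  rw [← Set.ncard_image_of_injective {v : leechLattice | P (v : Vec)} Subtype.val_injective]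
  refine congrArg Set.ncard (Set.ext fun x => ?_)
  simp only [Set.mem_ofPred_eq, Set.mem_image, Subtype.exists, exists_and_left, exists_prop]
  exact ⟨fun h => ⟨x, h.2, h.1, rfl⟩, fun ⟨y, hy, hy', e⟩ => e ▸ ⟨hy', hy⟩⟩

/-- The minimal vectors. -/
noncomputable def short : Finset leechLattice := (shell_finite (N := 32) (by norm_num)).toFinset

theorem mem_short {v : leechLattice} : v ∈ short ↔ sqNorm (v : Vec) = 32 := by
  simp [short]

theorem card_short : short.card = 196560 := by
  rw [short, ← Set.ncard_eq_toFinset_card _ (shell_finite (N := 32) (by norm_num))]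
  exact (ncard_raw fun x => sqNorm x = 32).symm.trans S0394.result

theorem smul_short {g : Co0} {v : leechLattice} : g • v ∈ short ↔ v ∈ short := by
  rw [mem_short, mem_short, sqNorm_smul]

theorem neg_norm (v : leechLattice) : sqNorm ((-v : leechLattice) : Vec) = sqNorm (v : Vec) := by
  rw [AddSubgroup.coe_neg]; exact sum_congr rfl fun i _ => neg_sq _

theorem sum_reindex {A : Type*} [AddCommMonoid A] (g : Co0) (f : leechLattice → A) :
    ∑ w ∈ short, f (g • w) = ∑ w ∈ short, f w :=
  Finset.sum_nbij' (fun w => g • w) (fun w => g⁻¹ • w) (fun w hw => smul_short.2 hw)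
    (fun w hw => smul_short.2 hw) (fun w _ => inv_smul_smul g w) (fun w _ => smul_inv_smul g w)
    (fun _ _ => rfl)

/-- The second moment tensor. -/
noncomputable def T2 (i j : GolayPt) : ℤ := ∑ w ∈ short, (w : Vec) i * (w : Vec) j

/-- The fourth moment tensor. -/
noncomputable def T4 (i j k l : GolayPt) : ℤ :=
  ∑ w ∈ short, (w : Vec) i * (w : Vec) j * (w : Vec) k * (w : Vec) l

theorem separate {i : GolayPt} {t : Finset GolayPt} (hi : i ∉ t) (ht : t.card ≤ 4) :
    ∃ d ∈ codeSets, i ∈ d ∧ ∀ j ∈ t, j ∉ d := by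
  classical
  have base : ∀ n ≤ 5, ∃ m, isCode m = true ∧ m < 2 ^ 24 ∧
      (n = 0 ∨ (m.testBit (ix (pt 0)) = true ∧ ∀ k < n, 1 ≤ k → m.testBit (ix (pt k)) = false)) := by
    intro n hn
    have h : ∃ m ∈ codeList, m < 2 ^ 24 ∧ m.testBit (ix (pt 0)) = true ∧
        ∀ k < 5, 1 ≤ k → m.testBit (ix (pt k)) = false := by decide +kernel
    obtain ⟨m, hm, hlt, h0, hk⟩ := h
    exact ⟨m, isCode_of_mem_codeList hm, hlt, Or.inr ⟨h0, fun k a b => hk k (by omega) b⟩⟩
  obtain ⟨σ, hσ, hl⟩ := exists_map_list ((List.range (t.card + 1)).map pt) (i :: t.toList)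
    ((List.nodup_range).map_on fun a ha b hb e => by
      rw [← ix_pt (i := a) (by rw [List.mem_range] at ha; omega), e,
        ix_pt (by rw [List.mem_range] at hb; omega)])
    (by simp [hi, Finset.nodup_toList]) (by simp) (by simp; omega)
  obtain ⟨m, hm, hlt, hcase⟩ := base (t.card + 1) (by omega)
  obtain ⟨h0, hk⟩ := hcase.resolve_left (by omega)
  refine ⟨σ • maskSet m, Cfsg.Agent.Golay.M24.smul_mem_supports hσ
    (mem_supports_iff.2 (by rw [mask_maskSet hlt]; exact hm)), ?_, fun j hj => ?_⟩
  · have e : σ (pt 0) = i := by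
      have := congrArg (fun L : List GolayPt => L[0]?) hl
      simpa using this
    rw [← e, Cfsg.Agent.Golay.M24.mem_smul_iff, mem_maskSet, h0]
  · obtain ⟨q, hq, e⟩ := List.getElem_of_mem (mem_toList.2 hj)
    have e' : σ (pt (q + 1)) = j := by
      have := congrArg (fun L : List GolayPt => L[q + 1]?) hl
      rw [length_toList] at hq
      simpa [List.getElem?_range (show q + 1 < t.card + 1 by omega), hq, e] using this
    rw [← e', Cfsg.Agent.Golay.M24.mem_smul_iff, mem_maskSet,
      hk (q + 1) (by rw [length_toList] at hq; omega) (by omega)]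
    simp

theorem T2_zero {i j : GolayPt} (h : i ≠ j) : T2 i j = 0 := by
  classical
  obtain ⟨d, hd, hid, hjd⟩ := separate (i := i) (t := {j}) (by simpa using h) (by simp)
  have e := sum_reindex (sign d hd) fun w => (w : Vec) i * (w : Vec) j
  simp only [sign_smul, Basic.flip, if_pos hid, if_neg (hjd j (mem_singleton_self j)), neg_mul,
    sum_neg_distrib] at e
  unfold T2
  omega

theorem T4_zero {i j k l : GolayPt} (h1 : i ≠ j) (h2 : i ≠ k) (h3 : i ≠ l) : T4 i j k l = 0 := by
  classical
  obtain ⟨d, hd, hid, hjd⟩ := separate (i := i) (t := {j, k, l}) (by simp [h1, h2, h3])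
    (le_trans card_le_three (by norm_num))
  have e := sum_reindex (sign d hd) fun w => (w : Vec) i * (w : Vec) j * (w : Vec) k * (w : Vec) l
  simp only [sign_smul, Basic.flip, if_pos hid, if_neg (hjd j (by simp)), if_neg (hjd k (by simp)),
    if_neg (hjd l (by simp)), neg_mul, sum_neg_distrib] at e
  unfold T4
  omega

theorem T4_swap1 (i j k l : GolayPt) : T4 j i k l = T4 i j k l := sum_congr rfl fun _ _ => by ring
theorem T4_swap2 (i j k l : GolayPt) : T4 i k j l = T4 i j k l := sum_congr rfl fun _ _ => by ring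
theorem T4_swap3 (i j k l : GolayPt) : T4 i j l k = T4 i j k l := sum_congr rfl fun _ _ => by ring

theorem move_two {i j i' j' : GolayPt} (h : i ≠ j) (h' : i' ≠ j') :
    ∃ σ, ∃ _ : σ ∈ M24, σ i' = i ∧ σ j' = j := by
  obtain ⟨σ, hσ, hl⟩ := exists_map_list [i', j'] [i, j] (by simp [h']) (by simp [h]) rfl (by simp)
  simp only [List.map_cons, List.map_nil, List.cons.injEq, and_true] at hl
  exact ⟨σ, hσ, hl.1, hl.2⟩

theorem diag2_const (i : GolayPt) : T2 i i = T2 none none := by
  obtain ⟨σ, hσ, hl⟩ := exists_map_list [none] [i] (by simp) (by simp) rfl (by simp)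
  simp only [List.map_cons, List.map_nil, List.cons.injEq, and_true] at hl
  have e := sum_reindex (perm σ hσ) fun w => (w : Vec) none * (w : Vec) none
  simp only [perm_smul, hl] at e
  exact e

theorem diag4_const (i : GolayPt) : T4 i i i i = T4 none none none none := by
  obtain ⟨σ, hσ, hl⟩ := exists_map_list [none] [i] (by simp) (by simp) rfl (by simp)
  simp only [List.map_cons, List.map_nil, List.cons.injEq, and_true] at hl
  have e := sum_reindex (perm σ hσ) fun w =>
    (w : Vec) none * (w : Vec) none * (w : Vec) none * (w : Vec) none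
  simp only [perm_smul, hl] at e
  exact e

theorem pair4_const {i j : GolayPt} (h : i ≠ j) : T4 i i j j = T4 none none (pt 0) (pt 0) := by
  obtain ⟨σ, hσ, h1, h2⟩ := move_two h (pt0_ne_none.symm)
  have e := sum_reindex (perm σ hσ) fun w =>
    (w : Vec) none * (w : Vec) none * (w : Vec) (pt 0) * (w : Vec) (pt 0)
  simp only [perm_smul, h1, h2] at e
  exact e

/-- The Kronecker symbol. -/
def dl (i j : GolayPt) : ℤ := if i = j then 1 else 0

/-- The value off the all-equal entries. -/
noncomputable def cB : ℤ := T4 none none (pt 0) (pt 0)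

/-- The excess on the all-equal entries. -/
noncomputable def cE : ℤ := T4 none none none none - 3 * cB

theorem T4_pair {i k l : GolayPt} :
    T4 i i k l = cB * (dl i i * dl k l + dl i k * dl i l + dl i l * dl i k) +
      cE * (dl i i * dl i k * dl i l) := by
  by_cases h1 : k = l
  · subst h1
    by_cases h2 : i = k
    · subst h2; simp [dl, cE, diag4_const i]; ring
    · simp [dl, h2, pair4_const h2, cB]
  · by_cases h2 : i = k
    · subst h2
      have e : T4 i i i l = 0 := by
        rw [← T4_swap3, ← T4_swap2, ← T4_swap1]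
        exact T4_zero (Ne.symm h1) (Ne.symm h1) (Ne.symm h1)
      simp [dl, h1, e]
    · have e : T4 i i k l = 0 := by
        rw [← T4_swap2, ← T4_swap1]
        exact T4_zero (Ne.symm h2) (Ne.symm h2) h1
      simp [dl, h2, h1, e]

theorem T4_eq (i j k l : GolayPt) :
    T4 i j k l = cB * (dl i j * dl k l + dl i k * dl j l + dl i l * dl j k) +
      cE * (dl i j * dl i k * dl i l) := by
  by_cases h1 : i = j
  · subst h1; exact T4_pair
  by_cases h2 : i = k
  · subst h2
    rw [← T4_swap2, T4_pair]
    simp only [dl, h1, if_true, if_false]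
    by_cases h3 : i = l <;> by_cases h4 : j = l <;> simp_all [eq_comm]
  by_cases h3 : i = l
  · subst h3
    rw [← T4_swap3, ← T4_swap2, T4_pair]
    simp only [dl, h1, h2, if_true, if_false]
    by_cases h4 : j = k <;> simp_all [eq_comm]
  rw [T4_zero h1 h2 h3]
  simp [dl, h1, h2, h3]

theorem sum_dl (i : GolayPt) (f : GolayPt → ℤ) : ∑ j, dl i j * f j = f i := by
  simp [dl]

theorem Q2_eq (u : Vec) :
    ∑ w ∈ short, dotInt u (w : Vec) ^ 2 = T2 none none * sqNorm u := by
  have e : ∀ i j, T2 i j = T2 none none * dl i j := fun i j => by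
    by_cases h : i = j
    · subst h; simp [dl, diag2_const i]
    · simp [dl, h, T2_zero h]
  calc ∑ w ∈ short, dotInt u (w : Vec) ^ 2
      = ∑ i, ∑ j, u i * u j * T2 i j := by
        simp only [dotInt, sq, T2, sum_mul, mul_sum]
        rw [sum_comm]
        refine sum_congr rfl fun i _ => ?_
        rw [sum_comm]
        exact sum_congr rfl fun j _ => sum_congr rfl fun w _ => by ring
    _ = T2 none none * sqNorm u := by
        simp only [sqNorm, mul_sum]
        refine sum_congr rfl fun i _ => ?_
        rw [sum_congr rfl fun j _ => show u i * u j * T2 i j =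
          dl i j * (T2 none none * (u i * u j)) by rw [e i j]; ring, sum_dl]
        ring

theorem Q4_eq (u : Vec) :
    ∑ w ∈ short, dotInt u (w : Vec) ^ 4 = 3 * cB * sqNorm u ^ 2 + cE * ∑ i, u i ^ 4 := by
  have split4 : ∀ a : GolayPt → ℤ, (∑ i, a i) ^ 4 = ∑ i, ∑ j, ∑ k, ∑ l, a i * a j * a k * a l := by
    intro a
    rw [show (∑ i, a i) ^ 4 = (∑ i, a i) * ((∑ i, a i) * ((∑ i, a i) * ∑ i, a i)) by ring]
    simp only [sum_mul]
    simp only [mul_sum]
    exact sum_congr rfl fun i _ => sum_congr rfl fun j _ => sum_congr rfl fun k _ =>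
      sum_congr rfl fun l _ => by ring
  calc ∑ w ∈ short, dotInt u (w : Vec) ^ 4
      = ∑ i, ∑ j, ∑ k, ∑ l, u i * u j * u k * u l * T4 i j k l := by
        simp only [dotInt, split4, T4, mul_sum]
        rw [sum_comm]; refine sum_congr rfl fun i _ => ?_
        rw [sum_comm]; refine sum_congr rfl fun j _ => ?_
        rw [sum_comm]; refine sum_congr rfl fun k _ => ?_
        rw [sum_comm]; refine sum_congr rfl fun l _ => ?_
        exact sum_congr rfl fun w _ => by ring
    _ = ∑ i, ∑ j, ∑ k, ∑ l, (dl i j * (dl k l * (cB * (u i * u j * u k * u l))) +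
          dl i k * (dl j l * (cB * (u i * u j * u k * u l))) +
          dl i l * (dl j k * (cB * (u i * u j * u k * u l))) +
          dl i j * (dl i k * (dl i l * (cE * (u i * u j * u k * u l))))) := by
        refine sum_congr rfl fun i _ => sum_congr rfl fun j _ => sum_congr rfl fun k _ =>
          sum_congr rfl fun l _ => ?_
        rw [T4_eq]; ring
    _ = 3 * cB * sqNorm u ^ 2 + cE * ∑ i, u i ^ 4 := by
        simp only [sum_add_distrib]
        have p1 : ∀ i, ∑ j, ∑ k, ∑ l, dl i j * (dl k l * (cB * (u i * u j * u k * u l))) =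
            cB * u i ^ 2 * sqNorm u := by
          intro i
          simp only [← mul_sum, sum_dl]
          simp only [sqNorm, mul_sum]
          exact sum_congr rfl fun k _ => by ring
        have p2 : ∀ i, ∑ j, ∑ k, ∑ l, dl i k * (dl j l * (cB * (u i * u j * u k * u l))) =
            cB * u i ^ 2 * sqNorm u := by
          intro i
          simp only [← mul_sum, sum_dl]
          simp only [sqNorm, mul_sum]
          exact sum_congr rfl fun k _ => by ring
        have p3 : ∀ i, ∑ j, ∑ k, ∑ l, dl i l * (dl j k * (cB * (u i * u j * u k * u l))) =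
            cB * u i ^ 2 * sqNorm u := by
          intro i
          simp only [sum_dl]
          simp only [sqNorm, mul_sum]
          exact sum_congr rfl fun j _ => by ring
        have p4 : ∀ i, ∑ j, ∑ k, ∑ l, dl i j * (dl i k * (dl i l * (cE * (u i * u j * u k * u l)))) =
            cE * u i ^ 4 := by
          intro i
          simp only [← mul_sum, sum_dl]
          ring
        rw [sum_congr rfl fun i _ => p1 i, sum_congr rfl fun i _ => p2 i, sum_congr rfl fun i _ => p3 i,
          sum_congr rfl fun i _ => p4 i, ← mul_sum univ (fun i => u i ^ 4) cE, ← sum_mul,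
          ← mul_sum univ (fun i => u i ^ 2) cB]
        show cB * sqNorm u * sqNorm u + cB * sqNorm u * sqNorm u + cB * sqNorm u * sqNorm u + _ = _
        ring

theorem moment2 (u : Vec) : ∑ w ∈ short, dotInt u (w : Vec) ^ 2 = 262080 * sqNorm u := by
  have h : 24 * T2 none none = 32 * 196560 := by
    calc 24 * T2 none none = ∑ i : GolayPt, T2 i i := by
          simp [diag2_const, show Fintype.card GolayPt = 24 by decide]
      _ = ∑ w ∈ short, sqNorm (w : Vec) := by
          simp only [T2, sqNorm, sq]; rw [sum_comm]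
      _ = 32 * 196560 := by
          rw [sum_congr rfl fun w hw => mem_short.1 hw, sum_const, card_short]; rfl
  rw [Q2_eq]
  have : T2 none none = 262080 := by omega
  rw [this]

theorem cE_eq : cE = 0 := by
  have a := Q4_eq ((frame none : leechLattice) : Vec)
  have b := Q4_eq ((xi • frame none : leechLattice) : Vec)
  have e : ∑ w ∈ short, dotInt ((xi • frame none : leechLattice) : Vec) (w : Vec) ^ 4 =
      ∑ w ∈ short, dotInt ((frame none : leechLattice) : Vec) (w : Vec) ^ 4 := by
    rw [← sum_reindex xi fun w => dotInt ((xi • frame none : leechLattice) : Vec) (w : Vec) ^ 4]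
    exact sum_congr rfl fun w _ => by rw [dot_smul]
  rw [e, a, sqNorm_smul] at b
  have f1 : ∑ i : GolayPt, (Pi.single none 8 : Vec) i ^ 4 = 4096 := by decide +kernel
  have f2 : ∑ i : GolayPt, xiFun (Pi.single none 8) i ^ 4 = 1024 := by decide +kernel
  rw [xi_smul, frame_coe, f1, f2] at b
  omega

theorem moment4 (u : Vec) : ∑ w ∈ short, dotInt u (w : Vec) ^ 4 = 967680 * sqNorm u ^ 2 := by
  have hd : T4 none none none none = 3 * cB := by have := cE_eq; unfold cE at this; omega
  have h : ∑ i : GolayPt, ∑ k : GolayPt, T4 i i k k = 1024 * 196560 := by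
    calc ∑ i : GolayPt, ∑ k : GolayPt, T4 i i k k
        = ∑ w ∈ short, sqNorm (w : Vec) ^ 2 := by
          simp only [T4]
          rw [sum_congr rfl fun i _ => sum_comm, sum_comm]
          refine sum_congr rfl fun w _ => ?_
          rw [sqNorm, sq (∑ i, (w : Vec) i ^ 2), sum_mul_sum]
          exact sum_congr rfl fun i _ => sum_congr rfl fun k _ => by ring
      _ = 1024 * 196560 := by
          rw [sum_congr rfl fun w hw => by rw [mem_short.1 hw], sum_const, card_short]; rfl
  have hv : ∀ i k : GolayPt, T4 i i k k = cB * (1 + 2 * dl i k) := fun i k => by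
    by_cases hik : i = k
    · subst hik; rw [diag4_const, hd]; simp [dl]; ring
    · rw [pair4_const hik]; simp [dl, hik, cB]
  simp only [hv, ← mul_sum, sum_add_distrib] at h
  rw [show ∑ i : GolayPt, ∑ k : GolayPt, dl i k = 24 by decide +kernel] at h
  simp only [sum_const, card_univ, show Fintype.card GolayPt = 24 by decide, smul_eq_mul] at h
  norm_num at h
  rw [Q4_eq, cE_eq, show cB = 322560 by omega]
  ring

theorem eight_dvd_dot {u w : leechLattice} : (8 : ℤ) ∣ dotInt (u : Vec) (w : Vec) := by
  have h1 := Cfsg.Agent.Leech.Basic.sixteen_dvd_sqNorm (u + w).2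
  have h2 := Cfsg.Agent.Leech.Basic.sixteen_dvd_sqNorm u.2
  have h3 := Cfsg.Agent.Leech.Basic.sixteen_dvd_sqNorm w.2
  rw [AddSubgroup.coe_add, sqNorm_add] at h1
  omega

theorem dot_neg_right (a b : Vec) : dotInt a (-b) = -dotInt a b := by
  simp [dotInt, sum_neg_distrib]

/-- The number of minimal vectors with a given inner product. -/
noncomputable def cnt (u : Vec) (T : ℤ) : ℕ := (short.filter fun w : leechLattice => dotInt u (w : Vec) = T).card

theorem cnt_neg (u : Vec) (T : ℤ) : cnt u (-T) = cnt u T := by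
  refine card_nbij' (fun w => -w) (fun w => -w) ?_ ?_ (fun w _ => neg_neg w) (fun w _ => neg_neg w) <;>
    · intro w hw
      simp only [coe_filter, Set.mem_ofPred_eq, mem_short, neg_norm, AddSubgroup.coe_neg,
        dot_neg_right] at hw ⊢
      rw [hw.2, ← AddSubgroup.coe_neg, neg_norm]
      exact ⟨hw.1, by simp⟩

theorem moment_split (u : Vec) (L : Finset ℤ) (hL : ∀ w ∈ short, dotInt u (w : Vec) ∈ L) (f : ℤ → ℤ) :
    ∑ w ∈ short, f (dotInt u (w : Vec)) = ∑ T ∈ L, (cnt u T : ℤ) * f T := by
  rw [← sum_fiberwise_of_maps_to hL]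
  refine sum_congr rfl fun T _ => ?_
  rw [sum_congr rfl fun w hw => by rw [(mem_filter.1 hw).2], sum_const, cnt, nsmul_eq_mul]

theorem far {u w : leechLattice} (hne : u ≠ w) :
    32 ≤ sqNorm (u : Vec) + sqNorm (w : Vec) - 2 * dotInt (u : Vec) (w : Vec) := by
  have h := Cfsg.Agent.Leech.Basic.min_norm (u - w).2
    (fun e => hne (sub_eq_zero.1 (Subtype.ext e)))
  rw [sub_eq_add_neg, AddSubgroup.coe_add, sqNorm_add, neg_norm, AddSubgroup.coe_neg,
    dot_neg_right] at h
  omega

theorem range48 {u : leechLattice} (hu : sqNorm (u : Vec) = 48) :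
    ∀ w ∈ short, dotInt (u : Vec) (w : Vec) ∈ ({-24, -16, -8, 0, 8, 16, 24} : Finset ℤ) := by
  intro w hw
  rw [mem_short] at hw
  have hd := eight_dvd_dot (u := u) (w := w)
  have h1 := far (u := u) (w := w) (fun e => by rw [e, hw] at hu; norm_num at hu)
  have h2 := far (u := u) (w := -w) (fun e => by rw [e, neg_norm, hw] at hu; norm_num at hu)
  rw [neg_norm, AddSubgroup.coe_neg, dot_neg_right] at h2
  simp only [mem_insert, mem_singleton]
  omega

theorem range32 {v : leechLattice} (hv : sqNorm (v : Vec) = 32) :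
    ∀ w ∈ short, dotInt (v : Vec) (w : Vec) ∈ ({-32, -16, -8, 0, 8, 16, 32} : Finset ℤ) := by
  intro w hw
  rw [mem_short] at hw
  have hd := eight_dvd_dot (u := v) (w := w)
  simp only [mem_insert, mem_singleton]
  by_cases e : v = w
  · subst e; rw [dot_self, hv]; simp
  by_cases e' : v = -w
  · have : dotInt (v : Vec) (w : Vec) = -32 := by
      rw [e', AddSubgroup.coe_neg, dot_comm, dot_neg_right, dot_self, hw]
    simp [this]
  have h1 := far e
  have h2 := far e'
  rw [neg_norm, AddSubgroup.coe_neg, dot_neg_right] at h2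
  omega

theorem cnt_self {v : leechLattice} (hv : sqNorm (v : Vec) = 32) : cnt (v : Vec) 32 = 1 := by
  rw [cnt, card_eq_one]
  refine ⟨v, ?_⟩
  ext (w : leechLattice)
  simp only [mem_filter, mem_short, mem_singleton]
  refine ⟨fun h => ?_, fun e => ?_⟩
  · by_contra hne
    have := far (u := v) (w := w) (Ne.symm hne)
    omega
  · subst e; exact ⟨hv, by rw [dot_self, hv]⟩

/-- The census at squared length 32. -/
theorem census32 {v : leechLattice} (hv : sqNorm (v : Vec) = 32) :
    cnt (v : Vec) 16 = 4600 ∧ cnt (v : Vec) 8 = 47104 ∧ cnt (v : Vec) 0 = 93150 := by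
  have m0 := moment_split _ _ (range32 hv) fun _ => 1
  have m2 := moment_split _ _ (range32 hv) fun a => a ^ 2
  rw [moment2, hv] at m2
  rw [sum_const, card_short] at m0
  have n1 := cnt_neg (v : Vec) 16
  have n2 := cnt_neg (v : Vec) 8
  have n3 := cnt_neg (v : Vec) 32
  have n4 := cnt_self hv
  have m4 := moment_split _ _ (range32 hv) fun a => a ^ 4
  rw [moment4, hv] at m4
  rw [sum_insert (by decide), sum_insert (by decide), sum_insert (by decide), sum_insert (by decide),
    sum_insert (by decide), sum_insert (by decide), sum_singleton] at m0 m2 m4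
  norm_num at m0 m2 m4
  omega

/-- The vectors of squared length 48. -/
noncomputable def mid : Finset leechLattice := (shell_finite (N := 48) (by norm_num)).toFinset

theorem mem_mid {v : leechLattice} : v ∈ mid ↔ sqNorm (v : Vec) = 48 := by
  simp [mid]

theorem card_mid : mid.card = 16773120 := by
  rw [mid, ← Set.ncard_eq_toFinset_card _ (shell_finite (N := 48) (by norm_num))]
  exact (ncard_raw fun x => sqNorm x = 48).symm.trans S0395.result

theorem cnt_smul (g : Co0) (u : leechLattice) (T : ℤ) :
    cnt ((g • u : leechLattice) : Vec) T = cnt (u : Vec) T := by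
  refine card_nbij' (fun w => g⁻¹ • w) (fun w => g • w) ?_ ?_ (fun w _ => smul_inv_smul g w)
    (fun w _ => inv_smul_smul g w)
  · intro w hw
    rw [mem_coe, mem_filter] at hw ⊢
    exact ⟨smul_short.2 hw.1, by rw [← dot_smul g, smul_inv_smul, hw.2]⟩
  · intro w hw
    rw [mem_coe, mem_filter] at hw ⊢
    exact ⟨smul_short.2 hw.1, by rw [dot_smul, hw.2]⟩

theorem cnt48_24 {u : leechLattice} (hu : sqNorm (u : Vec) = 48) : cnt (u : Vec) 24 = 552 := by
  classical
  have hA : ((short ×ˢ short).filter fun p : leechLattice × leechLattice =>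
      dotInt (p.1 : Vec) (p.2 : Vec) = -8).card = 196560 * 47104 := by
    rw [card_filter, sum_product]
    refine (sum_congr rfl (g := fun _ => 47104) fun v hv => ?_).trans
      (by rw [sum_const, card_short, smul_eq_mul])
    exact (card_filter _ _).symm.trans ((cnt_neg (v : Vec) 8).trans (census32 (mem_short.1 hv)).2.1)
  have hB : ((mid ×ˢ short).filter fun p : leechLattice × leechLattice =>
      dotInt (p.1 : Vec) (p.2 : Vec) = 24).card = 16773120 * cnt (u : Vec) 24 := by
    have key : ∀ u' ∈ mid, (short.filter fun w : leechLattice => dotInt (u' : Vec) (w : Vec) = 24).card =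
        cnt (u : Vec) 24 := by
      intro u' hu'
      obtain ⟨g, hg⟩ := transitive48 u u' hu (mem_mid.1 hu')
      rw [← hg]; exact cnt_smul g u 24
    rw [card_filter, sum_product]
    refine (sum_congr rfl (g := fun _ => cnt (u : Vec) 24) fun v hv => ?_).trans
      (by rw [sum_const, card_mid, smul_eq_mul])
    exact (card_filter _ _).symm.trans (key v hv)
  have h : ((short ×ˢ short).filter fun p : leechLattice × leechLattice =>
      dotInt (p.1 : Vec) (p.2 : Vec) = -8).card = ((mid ×ˢ short).filter fun p : leechLattice × leechLattice =>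
      dotInt (p.1 : Vec) (p.2 : Vec) = 24).card := by
    refine card_nbij' (fun p => (p.1 + p.2, p.1)) (fun p => (p.2, p.1 - p.2)) ?_ ?_
      (fun p _ => by simp) (fun p _ => by simp)
    · rintro ⟨v, w⟩ h
      simp only [mem_coe, mem_filter, mem_product, mem_short, mem_mid] at h ⊢
      obtain ⟨⟨hv, hw⟩, hd⟩ := h
      rw [AddSubgroup.coe_add, sqNorm_add, dot_add_left, dot_self, dot_comm (w : Vec)]
      exact ⟨⟨by omega, hv⟩, by omega⟩
    · rintro ⟨a, v⟩ h
      simp only [mem_coe, mem_filter, mem_product, mem_short, mem_mid] at h ⊢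
      obtain ⟨⟨ha, hv⟩, hd⟩ := h
      rw [sub_eq_add_neg, AddSubgroup.coe_add, sqNorm_add, neg_norm, AddSubgroup.coe_neg, dot_neg_right,
        dot_comm (v : Vec), dot_add_left, dot_comm (-(v : Vec)), dot_neg_right, dot_self]
      exact ⟨⟨hv, by omega⟩, by omega⟩
  omega

/-- The census at squared length 48. -/
theorem census48 {u : leechLattice} (hu : sqNorm (u : Vec) = 48) :
    cnt (u : Vec) 24 = 552 ∧ cnt (u : Vec) 16 = 11178 ∧ cnt (u : Vec) 8 = 48600 ∧
      cnt (u : Vec) 0 = 75900 := by
  have m0 := moment_split _ _ (range48 hu) fun _ => 1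
  have m2 := moment_split _ _ (range48 hu) fun a => a ^ 2
  have m4 := moment_split _ _ (range48 hu) fun a => a ^ 4
  rw [moment2, hu] at m2
  rw [moment4, hu] at m4
  rw [sum_const, card_short] at m0
  have n0 := cnt48_24 hu
  have n1 := cnt_neg (u : Vec) 24
  have n2 := cnt_neg (u : Vec) 16
  have n3 := cnt_neg (u : Vec) 8
  rw [sum_insert (by decide), sum_insert (by decide), sum_insert (by decide), sum_insert (by decide),
    sum_insert (by decide), sum_insert (by decide), sum_singleton] at m0 m2 m4
  norm_num at m0 m2 m4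
  omega

end Cfsg.Agent.LeechAut.Moments
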