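import Cfsg.Agent.Lib.LeechAut.McLData

/-!
The stabiliser in `M24` of two points and an octad through them, on the other octads through the two
points: one orbit for each intersection size. Witnesses for the octads missing one of the points.
-/

set_option autoImplicit false
set_option maxRecDepth 10000

namespace Cfsg.Agent.LeechAut.McL275Data

open Cfsg Cfsg.Agent.Golay.Basic Cfsg.Agent.Golay.Design Cfsg.Agent.Golay.Cert Cfsg.Agent.Golay.Orbit
open scoped Pointwise

/-- The fixed octad. -/
def block : ℕ := 13062145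

/-- Generators fixing the two points and the octad. -/
def blockGens : List ℕ := [984270297575775146050809437642379456, 976583155318165995546148563220344416]

/-- The root at intersection two. -/
def twoRoot : ℕ := 8391797

/-- The root at intersection four. -/
def fourRoot : ℕ := 8412681

/-- The tree at intersection two. -/
def twoTree : List (ℕ × ℕ) := [(0, 0), (0, 0), (0, 0), (0, 0), (1, 1), (0, 0), (0, 0), (0, 0), (0, 0), (0, 1), (2, 1), (0, 0), (0, 0), (0, 0), (0, 0)]

/-- The tree at intersection four. -/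
def fourTree : List (ℕ × ℕ) := [(0, 0), (0, 0), (0, 0), (0, 0), (0, 1), (0, 0), (0, 0), (0, 0), (0, 0), (0, 1), (0, 0), (0, 0), (0, 0), (0, 0), (0, 1), (0, 0), (0, 0), (0, 0), (0, 0), (0, 1), (0, 0), (0, 0), (0, 0), (0, 0), (1, 1), (0, 0), (0, 0), (0, 0), (0, 0), (2, 1), (0, 0), (0, 0), (0, 0), (0, 0), (0, 1), (0, 0), (0, 0), (0, 0), (0, 0), (0, 1), (0, 0), (0, 0), (0, 0), (0, 0), (9, 1), (0, 0), (0, 0), (0, 0), (0, 0), (0, 1), (0, 0), (0, 0), (0, 0), (0, 0), (2, 1), (0, 0), (0, 0), (0, 0), (0, 0)]

/-- Octads through both points, other than the fixed one. -/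
def nearCands : List ℕ := (weightList 8).filter fun m => m.testBit 23 && m.testBit 0 && !(m == block)

/-- Octads through the extra point only. -/
def midCands : List ℕ := (weightList 8).filter fun m => m.testBit 23 && !m.testBit 0

/-- Octads missing both points and disjoint from the fixed one. -/
def zCands : List ℕ := McLData.farCands.filter fun m => m &&& block == 0

theorem block_ok : (blockGens.all tabOK = true ∧ fixOK blockGens [23, 0] = true ∧
      (blockGens.all fun t => imgTab t block == block) = true) ∧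
    (coverOK blockGens twoTree twoRoot (nearCands.filter fun m => pc (m &&& block) == 2) = true ∧
      coverOK blockGens fourTree fourRoot (nearCands.filter fun m => pc (m &&& block) == 4) = true) ∧
    (nearCands.all fun m => pc (m &&& block) == 2 || pc (m &&& block) == 4) = true ∧
    (midCands.all fun m => (pc (m &&& block) == 2 || pc (m &&& block) == 4) &&
      zCands.any fun z => pc (z &&& m) == 4) = true ∧
    ((List.range 23).all fun i => i == 0 || zCands.any fun z => !z.testBit i) = true := by decide +kernel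

theorem mem_nearCands {o : Finset GolayPt} (ho : o ∈ octads) (hn : none ∈ o) (h0 : pt 0 ∈ o)
    (hne : o ≠ maskSet block) : mask o ∈ nearCands := by
  rw [nearCands, weightList, List.mem_filter, List.mem_filter]
  obtain ⟨h1, h2⟩ := mem_octads_iff.1 ho
  have e1 : (mask o).testBit 23 = decide (none ∈ o) := testBit_mask o none
  have e2 : (mask o).testBit 0 = decide (pt 0 ∈ o) := testBit_mask o (pt 0)
  rw [card_eq_pc] at h2
  have h3 : mask o ≠ block := fun e => hne (by rw [← e, maskSet_mask])
  simp [mem_codeList h1, h2, e1, e2, hn, h0, h3]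

theorem mem_midCands {o : Finset GolayPt} (ho : o ∈ octads) (hn : none ∈ o) (h0 : pt 0 ∉ o) :
    mask o ∈ midCands := by
  rw [midCands, weightList, List.mem_filter, List.mem_filter]
  obtain ⟨h1, h2⟩ := mem_octads_iff.1 ho
  have e1 : (mask o).testBit 23 = decide (none ∈ o) := testBit_mask o none
  have e2 : (mask o).testBit 0 = decide (pt 0 ∈ o) := testBit_mask o (pt 0)
  rw [card_eq_pc] at h2
  simp [mem_codeList h1, h2, e1, e2, hn, h0]

theorem mem_zCands {m : ℕ} (hm : m ∈ zCands) : maskSet m ∈ octads ∧ none ∉ maskSet m ∧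
    pt 0 ∉ maskSet m ∧ m < 2 ^ 24 ∧ m &&& block = 0 := by
  have h : (zCands.all fun m => isCode m && pc m == 8 && !m.testBit 23 && !m.testBit 0 &&
      decide (m < 2 ^ 24) && m &&& block == 0) = true := by decide +kernel
  have h' := List.all_eq_true.1 h m hm
  simp only [Bool.and_eq_true, Bool.not_eq_true', beq_iff_eq, decide_eq_true_eq] at h'
  obtain ⟨⟨⟨⟨⟨a, b⟩, c⟩, d⟩, e⟩, f⟩ := h'
  refine ⟨mem_octads_iff.2 ⟨by rw [mask_maskSet e]; exact a, by rw [card_eq_pc, mask_maskSet e]; exact b⟩,
    ?_, ?_, e, f⟩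
  · rw [mem_maskSet, show ix (none : GolayPt) = 23 from rfl, c]; simp
  · rw [mem_maskSet, show ix (pt 0) = 0 from rfl, d]; simp

theorem meet_near {o : Finset GolayPt} (ho : o ∈ octads) (hn : none ∈ o) (h0 : pt 0 ∈ o)
    (hne : o ≠ maskSet block) : (o ∩ maskSet block).card = 2 ∨ (o ∩ maskSet block).card = 4 := by
  have h := List.all_eq_true.1 block_ok.2.2.1 _ (mem_nearCands ho hn h0 hne)
  rw [card_eq_pc, mask_inter, mask_maskSet (by decide : block < 2 ^ 24)]
  simpa using h

theorem meet_mid {o : Finset GolayPt} (ho : o ∈ octads) (hn : none ∈ o) (h0 : pt 0 ∉ o) :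
    ((o ∩ maskSet block).card = 2 ∨ (o ∩ maskSet block).card = 4) ∧
      ∃ z ∈ zCands, (maskSet z ∩ o).card = 4 := by
  have h := List.all_eq_true.1 block_ok.2.2.2.1 _ (mem_midCands ho hn h0)
  simp only [Bool.and_eq_true, Bool.or_eq_true, beq_iff_eq, List.any_eq_true] at h
  obtain ⟨h1, z, hz, h2⟩ := h
  refine ⟨?_, z, hz, ?_⟩
  · rw [card_eq_pc, mask_inter, mask_maskSet (by decide : block < 2 ^ 24)]; exact h1
  · rw [card_eq_pc, mask_inter, mask_maskSet (mem_zCands hz).2.2.2.1]; exact h2

theorem exists_miss {j : GolayPt} (hn : j ≠ none) (h0 : j ≠ pt 0) :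
    ∃ z ∈ zCands, j ∉ maskSet z := by
  have h := List.all_eq_true.1 block_ok.2.2.2.2 (ix j) (List.mem_range.2 ?_)
  · simp only [Bool.or_eq_true, beq_iff_eq, List.any_eq_true, Bool.not_eq_true'] at h
    rcases h with h | ⟨z, hz, h⟩
    · exact absurd (ix_injective (h.trans (ix_pt (by norm_num : 0 < 24)).symm)) h0
    · exact ⟨z, hz, fun hj => by rw [mem_maskSet, h] at hj; exact Bool.false_ne_true hj⟩
  · have h1 := ix_lt j
    have : ix j ≠ 23 := fun e => hn (ix_injective (e.trans rfl))
    omega

theorem exists_pair {o o' : Finset GolayPt} (ho : o ∈ octads) (hn : none ∈ o) (h0 : pt 0 ∈ o)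
    (ho' : o' ∈ octads) (hn' : none ∈ o') (h0' : pt 0 ∈ o') (hne : o ≠ maskSet block)
    (hne' : o' ≠ maskSet block) (hc : (o ∩ maskSet block).card = (o' ∩ maskSet block).card) :
    ∃ g ∈ M24, g none = none ∧ g (pt 0) = pt 0 ∧ g • maskSet block = maskSet block ∧ g • o = o' := by
  obtain ⟨⟨hX, hfix, hb⟩, ⟨h2, h4⟩, -⟩ := block_ok
  have hblock : ∀ g ∈ tabGroup blockGens, g • maskSet block = maskSet block := by
    intro g hg
    refine MulAction.mem_stabilizer_iff.1 ((tabGroup_le_of (K := MulAction.stabilizer _ (maskSet block))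
      fun x hx => ?_) hg)
    refine MulAction.mem_stabilizer_iff.2 (mask_injective ?_)
    rw [← imgTab_mask (isTab_tabPerm (List.all_eq_true.1 hX x hx)), mask_maskSet (by decide : block < 2 ^ 24)]
    exact (beq_iff_eq).1 (List.all_eq_true.1 hb x hx)
  have key : ∀ (root : ℕ) (tree : List (ℕ × ℕ)) (k : ℕ), root < 2 ^ 24 →
      coverOK blockGens tree root (nearCands.filter fun m => pc (m &&& block) == k) = true →
      (o ∩ maskSet block).card = k → ∃ g ∈ tabGroup blockGens, g • o = o' := by
    intro root tree k hr hcov hk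
    have mk : ∀ {s : Finset GolayPt}, s ∈ octads → none ∈ s → pt 0 ∈ s → s ≠ maskSet block →
        (s ∩ maskSet block).card = k →
        mask s ∈ nearCands.filter fun m => pc (m &&& block) == k := by
      intro s a b c d e
      rw [List.mem_filter]
      refine ⟨mem_nearCands a b c d, ?_⟩
      rw [card_eq_pc, mask_inter, mask_maskSet (by decide : block < 2 ^ 24)] at e
      simpa using e
    obtain ⟨a, ha, ea⟩ := exists_of_cover hX hr hcov (mk ho hn h0 hne hk)
    obtain ⟨b, hb', eb⟩ := exists_of_cover hX hr hcov (mk ho' hn' h0' hne' (hc ▸ hk))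
    exact ⟨b * a⁻¹, Subgroup.mul_mem _ hb' (Subgroup.inv_mem _ ha), by rw [← ea, mul_smul, inv_smul_smul, eb]⟩
  obtain ⟨g, hg, e⟩ : ∃ g ∈ tabGroup blockGens, g • o = o' := by
    rcases meet_near ho hn h0 hne with hk | hk
    · exact key twoRoot twoTree 2 (by decide) h2 hk
    · exact key fourRoot fourTree 4 (by decide) h4 hk
  exact ⟨g, tabGroup_le_M24 hX hg, tabGroup_fix hX hfix (i := 23) (by norm_num) (by simp) hg,
    tabGroup_fix hX hfix (i := 0) (by norm_num) (by simp) hg, hblock g hg, e⟩

end Cfsg.Agent.LeechAut.McL275Data
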