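import Cfsg.Agent.Lib.LeechAut.McL
import Cfsg.Agent.Lib.LeechAut.McL275Data

/-!
The McLaughlin group on 275 vectors: transitivity, and the suborbits of 112 and 162.
-/

set_option autoImplicit false
set_option maxRecDepth 10000

namespace Cfsg.Agent.LeechAut.McL275

open Cfsg Cfsg.Agent.Golay.Basic Cfsg.Agent.Golay.Design Cfsg.Agent.Leech.Basic
  Cfsg.Agent.Leech.Index Cfsg.Agent.LeechAut.Gens Cfsg.Agent.LeechAut.Basic
  Cfsg.Agent.LeechAut.Shells Cfsg.Agent.LeechAut.Cross Cfsg.Agent.LeechAut.Pairs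
  Cfsg.Agent.LeechAut.Triples Cfsg.Agent.LeechAut.Moments Finset
open Cfsg.Agent.LeechAut.Co1 (permHom permHom_smul)
open Cfsg.Agent.LeechAut.McL (w1 w1_norm w1_none w1_zero dot_w1 dot_v0w1 mem_G F0 F1 M22s mem_M22s permHom_fix InX)
open Cfsg.Agent.LeechAut.McL275Data (block zCands)
open scoped Pointwise

/-- One of the 275 vectors. -/
def InA (y : leechLattice) : Prop :=
  sqNorm (y : Vec) = 32 ∧ dotInt (v0 : Vec) (y : Vec) = 16 ∧ dotInt (w1 : Vec) (y : Vec) = 8

theorem inA_smul {g : Co0} (hg : g ∈ McL.G) {y : leechLattice} (hy : InA y) : InA (g • y) := by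
  obtain ⟨h1, h2⟩ := mem_G.1 hg
  refine ⟨(sqNorm_smul g y).trans hy.1, ?_, ?_⟩
  · rw [← h1, dot_smul]; exact hy.2.1
  · rw [← h2, dot_smul]; exact hy.2.2

/-- Fours at infinity and one more point. -/
def pairVec (j : GolayPt) : Vec := fun p => if p = none ∨ p = j then 4 else 0

theorem dot_F0 (o : Finset GolayPt) (x : Vec) : dotInt (F0 o) x = 2 * ∑ p ∈ o, x p := by
  show ∑ p, F0 o p * x p = _
  rw [mul_sum, ← filter_univ_mem o, sum_filter]
  refine sum_congr rfl fun p _ => ?_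
  by_cases hp : p ∈ o <;> simp [F0, hp]

theorem sum_F0 (o s : Finset GolayPt) : ∑ p ∈ s, F0 o p = 2 * ((s ∩ o).card : ℤ) := by
  show ∑ p ∈ s, (if p ∈ o then (2 : ℤ) else 0) = _
  rw [sum_ite_mem, sum_const, nsmul_eq_mul, mul_comm]

theorem sum_F1 (c s : Finset GolayPt) (j : GolayPt) :
    ∑ p ∈ s, F1 c j p = (s.card : ℤ) - 2 * ((s ∩ c).card : ℤ) + if j ∈ s then 4 else 0 := by
  show ∑ p ∈ s, ((if p ∈ c then (-1 : ℤ) else 1) + if p = j then 4 else 0) = _
  rw [sum_add_distrib, sum_ite_eq' s j fun _ => (4 : ℤ)]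
  congr 1
  have e : ∀ p : GolayPt, (if p ∈ c then (-1 : ℤ) else 1) = 1 - 2 * (if p ∈ c then 1 else 0) :=
    fun p => by split_ifs <;> rfl
  rw [sum_congr rfl fun p _ => e p, sum_sub_distrib, ← mul_sum, sum_boole, filter_mem_eq_inter, sum_const]
  simp

set_option maxHeartbeats 1000000 in
theorem classify {y : leechLattice} (hy : InA y) :
    ((y : Vec) none = 4 ∧ ∃ j, j ≠ none ∧ j ≠ pt 0 ∧ (y : Vec) = pairVec j) ∨
    ((y : Vec) none = 2 ∧ ∃ o ∈ octads, none ∈ o ∧ pt 0 ∈ o ∧ (y : Vec) = F0 o) ∨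
    ((y : Vec) none = 3 ∧ ∃ c ∈ octads, none ∈ c ∧ pt 0 ∉ c ∧ (y : Vec) = F1 c none) := by
  classical
  obtain ⟨hn, h0, h8⟩ := hy
  rw [dot_v0] at h0
  rw [dot_w1] at h8
  set a := (y : Vec) none with ha
  set b := (y : Vec) (pt 0) with hb0
  have hb := abs_le_eight hn (by norm_num)
  have hr := range32 McL.w0_norm y (mem_short.2 hn)
  rw [dot_w0, ← ha, ← hb0] at hr
  simp only [mem_insert, mem_singleton] at hr
  have hsq : a ^ 2 + b ^ 2 ≤ 32 := by
    rw [← hn, ha, hb0, sqNorm, ← sum_pair (f := fun p => (y : Vec) p ^ 2) pt0_ne_none.symm]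
    exact sum_le_sum_of_subset_of_nonneg (subset_univ _) fun p _ _ => sq_nonneg _
  have hab : (a = 4 ∧ b = 0) ∨ (a = 0 ∧ b = 4) ∨ (a = 2 ∧ b = 2) ∨ (a = 3 ∧ b = 1) ∨ (a = 1 ∧ b = 3) := by
    have : (a = 4 ∧ b = 0) ∨ (a = 0 ∧ b = 4) ∨ (a = 2 ∧ b = 2) ∨ (a = 3 ∧ b = 1) ∨ (a = 1 ∧ b = 3) ∨
      (a = 6 ∧ b = -2) ∨ (a = -2 ∧ b = 6) := by omega
    rcases this with h | h | h | h | h | ⟨h, h'⟩ | ⟨h, h'⟩
    all_goals first | tauto | (rw [h, h'] at hsq; norm_num at hsq)
  rcases hab with ⟨a4, b0⟩ | ⟨a0, b4⟩ | ⟨a2, b2⟩ | h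
  · obtain ⟨i, hi, hi4, hrest⟩ := four_shape hn a4
    have hi0 : i ≠ pt 0 := fun e => by rw [e, ← hb0, b0] at hi4; norm_num at hi4
    have hsum : ∑ p, (y : Vec) p = a + (y : Vec) i := by
      rw [← add_sum_erase univ _ (mem_univ none),
        sum_eq_single i (fun p hp hpi => hrest p (mem_erase.1 hp).1 hpi)
          (fun h => absurd (mem_erase.2 ⟨hi, mem_univ i⟩) h)]
    refine Or.inl ⟨a4, i, hi, hi0, funext fun p => ?_⟩
    by_cases hp : p = none
    · subst hp; rw [pairVec, if_pos (Or.inl rfl), ← ha, a4]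
    by_cases hpi : p = i
    · subst hpi; rw [pairVec, if_pos (Or.inr rfl)]; omega
    · rw [pairVec, if_neg (by tauto), hrest p hp hpi]
  · exfalso
    rcases McL.pair_shape hn (by rw [← ha, a0]; rfl) with ⟨h', -⟩ | ⟨o, -, hyo⟩
    · omega
    · have := hyo (pt 0)
      rw [← hb0, b4] at this
      split_ifs at this <;> norm_num at this
  · obtain ⟨o, ho, hyo⟩ := two_shape hn (by rw [← ha, a2]; rfl)
    have hle : ∀ p ∈ (univ : Finset GolayPt), (y : Vec) p ≤ F0 o p := fun p _ => by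
      show _ ≤ if p ∈ o then (2 : ℤ) else 0
      rw [← hyo p]; exact le_abs_self _
    have heq := (sum_eq_sum_iff_of_le hle).1 (by
      rw [sum_F0, univ_inter, octad_card ho]; push_cast; omega)
    have hmem : ∀ p, (y : Vec) p = 2 → p ∈ o := fun p hp => by
      have := hyo p
      rw [hp] at this
      by_contra hne
      rw [if_neg hne] at this
      norm_num at this
    exact Or.inr (Or.inl ⟨a2, o, ho, hmem _ a2, hmem _ b2, funext fun p => heq p (mem_univ p)⟩)
  · obtain ⟨j, hyj⟩ := McL.odd_shape hn (by rw [← ha]; rcases h with ⟨e, -⟩ | ⟨e, -⟩ <;> rw [e] <;> rfl)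
    obtain ⟨m, c, z, hm, hc, hx, -⟩ := mem_lattice_iff.1 y.2
    have x1 := hx none
    rw [← ha] at x1
    have hm1 : m = 1 := by omega
    subst hm1
    have hiff : ∀ p, p ∈ c ↔ (y : Vec) p % 4 = 3 := by
      intro p
      have e1 := hx p
      unfold ind at e1
      by_cases p1 : p ∈ c <;> simp only [p1, if_true, if_false, true_iff, false_iff] at e1 ⊢ <;> omega
    have hj3 : (y : Vec) j = 3 := by
      rcases h with ⟨e, e'⟩ | ⟨e, e'⟩
      · have := hyj none
        rw [← ha, e] at this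
        split_ifs at this with hj
        · rw [← hj, ← ha, e]
        · norm_num at this
      · have := hyj (pt 0)
        rw [← hb0, e'] at this
        split_ifs at this with hj
        · rw [← hj, ← hb0, e']
        · norm_num at this
    have hjc : j ∈ c := (hiff j).2 (by rw [hj3]; rfl)
    have val : (y : Vec) = F1 c j := funext fun p => by
      show _ = (if p ∈ c then (-1 : ℤ) else 1) + if p = j then 4 else 0
      by_cases hp : p = j
      · subst hp; rw [if_pos hjc, if_pos rfl, hj3]; rfl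
      · have e := hyj p
        rw [if_neg hp] at e
        have h3 := hiff p
        rw [if_neg hp]
        by_cases hc' : p ∈ c
        · have := h3.1 hc'
          rw [if_pos hc']
          rcases abs_eq (by norm_num : (0 : ℤ) ≤ 1) |>.1 e with e | e <;> omega
        · have := mt h3.2 hc'
          rw [if_neg hc']
          rcases abs_eq (by norm_num : (0 : ℤ) ≤ 1) |>.1 e with e | e <;> omega
    have hsum : ∑ p, (y : Vec) p = 28 - 2 * (c.card : ℤ) := by
      rw [val, sum_F1, univ_inter, if_pos (mem_univ _), card_univ,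
        show Fintype.card GolayPt = 24 by decide]
      push_cast; ring
    have hw := weights_supports hc
    rcases h with ⟨e, e'⟩ | ⟨e, e'⟩
    · have hjn : j = none := by
        by_contra hne
        have := hyj none
        rw [if_neg (Ne.symm hne), ← ha, e] at this
        norm_num at this
      subst hjn
      refine Or.inr (Or.inr ⟨e, c, ⟨hc, by omega⟩, hjc, fun h' => ?_, val⟩)
      have := (hiff _).1 h'
      rw [← hb0, e'] at this
      norm_num at this
    · omega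

/-- The base point. -/
def T : leechLattice := ⟨F0 (maskSet block), mem_of_inLat (by decide +kernel)⟩

theorem T_coe : (T : Vec) = F0 (maskSet block) := rfl

theorem block_facts : maskSet block ∈ octads ∧ none ∈ maskSet block ∧ pt 0 ∈ maskSet block ∧
    pt 12 ∈ maskSet block ∧ pt 12 ≠ none ∧ pt 12 ≠ pt 0 := by
  refine ⟨mem_octads_iff.2 (by decide +kernel), mem_maskSet.2 (by decide +kernel),
    mem_maskSet.2 (by decide +kernel), mem_maskSet.2 (by decide +kernel), by decide, by decide⟩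

theorem T_inA : InA T := by
  show sqNorm (F0 (maskSet block)) = 32 ∧ dotInt stdVec (F0 (maskSet block)) = 16 ∧
    dotInt McL.oneVec (F0 (maskSet block)) = 8
  decide +kernel

/-- A witness orthogonal to `T` becomes a vector of the 2025. -/
theorem exists_z {m : ℕ} (hm : m ∈ zCands) : ∃ z : leechLattice, InX z ∧ (z : Vec) = F0 (maskSet m) := by
  obtain ⟨h1, h2, h3, -, -⟩ := McL275Data.mem_zCands hm
  have hroot : maskSet McLData.farRoot ∈ octads ∧ none ∉ maskSet McLData.farRoot ∧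
      pt 0 ∉ maskSet McLData.farRoot := by
    refine ⟨mem_octads_iff.2 (by decide +kernel), ?_, ?_⟩ <;> rw [mem_maskSet] <;> decide +kernel
  obtain ⟨σ, hσ, e⟩ := McL.exists_far_pair hroot.1 hroot.2.1 hroot.2.2 h1 h2 h3
  exact ⟨_, McL.inX_smul (McL.S_le_G (permHom_fix hσ)) McL.seed0_inX, by rw [McL.move_F0 σ _ rfl, e]⟩

/-- A vector of the middle kind after moving one of the 2025 to `w0`. -/
theorem to_near {y z : leechLattice} (hy : InA y) (hz : InX z) (hd : dotInt (z : Vec) (y : Vec) = 0) :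
    ∀ g ∈ McL.G, g • z = w0 → ∃ o ∈ octads, none ∈ o ∧ pt 0 ∈ o ∧ ((g • y : leechLattice) : Vec) = F0 o := by
  intro g hg e
  have hd' := dot_smul g z y
  rw [e, hd, dot_w0] at hd'
  have hy' := inA_smul hg hy
  have h0 := hy'.2.1
  rw [dot_v0] at h0
  rcases classify hy' with ⟨a, -⟩ | ⟨-, h⟩ | ⟨a, -⟩
  · omega
  · exact h
  · omega

theorem dot_z_block {m : ℕ} (hm : m ∈ zCands) : dotInt (F0 (maskSet m)) (T : Vec) = 0 := by
  obtain ⟨-, -, -, h4, h5⟩ := McL275Data.mem_zCands hm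
  rw [dot_F0, T_coe, sum_F0, card_eq_pc, mask_inter, mask_maskSet h4,
    mask_maskSet (by decide : block < 2 ^ 24), h5]
  rfl

/-- A witness orthogonal to both. -/
theorem exists_orth_both {y : leechLattice} (hy : InA y) :
    ∃ z, InX z ∧ dotInt (z : Vec) (T : Vec) = 0 ∧ dotInt (z : Vec) (y : Vec) = 0 := by
  rcases classify hy with ⟨-, j, hj, hj0, ev⟩ | ⟨-, o, -, hon, ho0, ev⟩ | ⟨-, c, hc, hcn, hc0, ev⟩
  · obtain ⟨m, hm, hmj⟩ := McL275Data.exists_miss hj hj0
    obtain ⟨z, hz, ez⟩ := exists_z hm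
    refine ⟨z, hz, by rw [ez]; exact dot_z_block hm, ?_⟩
    rw [ez, dot_F0, ev, sum_eq_zero fun p hp => ?_, mul_zero]
    rw [pairVec, if_neg]
    rintro (rfl | rfl)
    · exact (McL275Data.mem_zCands hm).2.1 hp
    · exact hmj hp
  · refine ⟨w0, McL.w0_inX, ?_, ?_⟩
    · rw [dot_w0, T_coe]
      simp [F0, block_facts.2.1, block_facts.2.2.1]
    · rw [dot_w0, ev]
      simp [F0, hon, ho0]
  · obtain ⟨-, m, hm, hmc⟩ := McL275Data.meet_mid hc hcn hc0
    obtain ⟨z, hz, ez⟩ := exists_z hm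
    refine ⟨z, hz, by rw [ez]; exact dot_z_block hm, ?_⟩
    obtain ⟨h1, h2, -⟩ := McL275Data.mem_zCands hm
    rw [ez, dot_F0, ev, sum_F1, hmc, octad_card h1, if_neg h2]
    rfl

theorem move_to_T {o : Finset GolayPt} (ho : o ∈ octads) (hn : none ∈ o) (h0 : pt 0 ∈ o) {y : leechLattice}
    (hy : (y : Vec) = F0 o) : ∃ g ∈ McL.G, g • y = T := by
  obtain ⟨b1, b2, b3, b4, b5, b6⟩ := block_facts
  obtain ⟨k, hk⟩ : ((o.erase none).erase (pt 0)).Nonempty := card_pos.1 (by
    rw [card_erase_of_mem (mem_erase.2 ⟨pt0_ne_none, h0⟩), card_erase_of_mem hn, octad_card ho]; norm_num)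
  rw [mem_erase, mem_erase] at hk
  obtain ⟨σ, hσ, e, -⟩ := McL.exists_near_pair ho hn h0 hk.2.2 hk.2.1 hk.1 b1 b2 b3 b4 b5 b6
  exact ⟨_, McL.S_le_G (permHom_fix hσ), Subtype.ext (by rw [McL.move_F0 σ o hy, e]; rfl)⟩

theorem to_T (y : leechLattice) (hy : InA y) : ∃ g ∈ McL.G, g • y = T := by
  obtain ⟨z, hz, -, hzy⟩ := exists_orth_both hy
  obtain ⟨g, hg, e⟩ := McL.to_one z hz
  obtain ⟨o, ho, hn, h0, ev⟩ := to_near hy hz hzy g hg e
  obtain ⟨h, hh, e'⟩ := move_to_T ho hn h0 ev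
  exact ⟨h * g, McL.G.mul_mem hh hg, by rw [mul_smul]; exact e'⟩

theorem to_near_fix {y : leechLattice} (hy : InA y) :
    ∃ g ∈ McL.G, g • T = T ∧ ∃ o ∈ octads, none ∈ o ∧ pt 0 ∈ o ∧ ((g • y : leechLattice) : Vec) = F0 o := by
  obtain ⟨z, hz, hzT, hzy⟩ := exists_orth_both hy
  obtain ⟨g, hg, e⟩ := McL.to_one z hz
  obtain ⟨oT, hoT, hnT, h0T, eT⟩ := to_near T_inA hz hzT g hg e
  obtain ⟨o, ho, hn, h0, ev⟩ := to_near hy hz hzy g hg e
  obtain ⟨b1, b2, b3, b4, b5, b6⟩ := block_facts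
  obtain ⟨k, hk⟩ : ((oT.erase none).erase (pt 0)).Nonempty := card_pos.1 (by
    rw [card_erase_of_mem (mem_erase.2 ⟨pt0_ne_none, h0T⟩), card_erase_of_mem hnT, octad_card hoT]; norm_num)
  rw [mem_erase, mem_erase] at hk
  obtain ⟨σ, hσ, eσ, -⟩ := McL.exists_near_pair hoT hnT h0T hk.2.2 hk.2.1 hk.1 b1 b2 b3 b4 b5 b6
  obtain ⟨s1, s2⟩ := mem_M22s.1 hσ
  refine ⟨permHom σ * g, McL.G.mul_mem (McL.S_le_G (permHom_fix hσ)) hg, ?_, _,
    Cfsg.Agent.Golay.M24.smul_mem_octads σ.2 ho, ?_, ?_, by rw [mul_smul]; exact McL.move_F0 σ o ev⟩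
  · rw [mul_smul]
    exact Subtype.ext (by rw [McL.move_F0 σ oT eT, eσ]; rfl)
  · rw [← s1, Cfsg.Agent.Golay.M24.mem_smul_iff]; exact hn
  · rw [← s2, Cfsg.Agent.Golay.M24.mem_smul_iff]; exact h0

theorem dot_near {o : Finset GolayPt} {y : leechLattice} (hy : (y : Vec) = F0 o) :
    dotInt (T : Vec) (y : Vec) = 4 * ((o ∩ maskSet block).card : ℤ) := by
  rw [T_coe, dot_F0, hy, sum_F0, inter_comm]; ring

theorem near_ne {o : Finset GolayPt} {y : leechLattice} (hy : (y : Vec) = F0 o) (hne : y ≠ T) :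
    o ≠ maskSet block := fun e => hne (Subtype.ext (by rw [hy, e]; rfl))

theorem dot_cases {y : leechLattice} (hy : InA y) (hne : y ≠ T) :
    dotInt (T : Vec) (y : Vec) = 8 ∨ dotInt (T : Vec) (y : Vec) = 16 := by
  obtain ⟨g, hg, eT, o, ho, hn, h0, ev⟩ := to_near_fix hy
  rw [← dot_smul g T y, eT, dot_near ev]
  rcases McL275Data.meet_near ho hn h0 (near_ne ev fun e => hne (MulAction.injective g (e.trans eT.symm)))
    with h | h <;> rw [h] <;> norm_num

theorem trans_T {y y' : leechLattice} (hy : InA y) (hy' : InA y') (hne : y ≠ T) (hne' : y' ≠ T)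
    (hd : dotInt (T : Vec) (y : Vec) = dotInt (T : Vec) (y' : Vec)) :
    ∃ g ∈ McL.G, g • T = T ∧ g • y = y' := by
  obtain ⟨g, hg, eT, o, ho, hn, h0, ev⟩ := to_near_fix hy
  obtain ⟨g', hg', eT', o', ho', hn', h0', ev'⟩ := to_near_fix hy'
  have no := near_ne ev fun e => hne (MulAction.injective g (e.trans eT.symm))
  have no' := near_ne ev' fun e => hne' (MulAction.injective g' (e.trans eT'.symm))
  rw [← dot_smul g T y, ← dot_smul g' T y', eT, eT', dot_near ev, dot_near ev'] at hd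
  obtain ⟨a, ha, a1, a2, aB, ao⟩ := McL275Data.exists_pair ho hn h0 ho' hn' h0' no no' (by omega)
  have hS : permHom ⟨a, ha⟩ ∈ McL.S := permHom_fix (mem_M22s.2 ⟨a1, a2⟩)
  refine ⟨g'⁻¹ * permHom ⟨a, ha⟩ * g,
    McL.G.mul_mem (McL.G.mul_mem (McL.G.inv_mem hg') (McL.S_le_G hS)) hg, ?_, ?_⟩
  · rw [mul_smul, mul_smul, eT, inv_smul_eq_iff, eT']
    exact Subtype.ext (by rw [McL.move_F0 _ _ T_coe, aB]; rfl)
  · rw [mul_smul, mul_smul, inv_smul_eq_iff]
    exact Subtype.ext (by rw [McL.move_F0 _ _ ev, ao, ev'])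

/-! ### Counting -/

theorem sqNorm_sub' (a b : Vec) : sqNorm (a - b) = sqNorm a + sqNorm b - 2 * dotInt a b := by
  simp only [sqNorm, dotInt, Pi.sub_apply, mul_sum, ← sum_add_distrib, ← sum_sub_distrib]
  exact sum_congr rfl fun i _ => by ring

/-- The 275 vectors as a finite set. -/
noncomputable def Af : Finset leechLattice :=
  short.filter fun y : leechLattice => dotInt (v0 : Vec) (y : Vec) = 16 ∧ dotInt (w1 : Vec) (y : Vec) = 8

theorem mem_Af {y : leechLattice} : y ∈ Af ↔ InA y := by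
  rw [Af, mem_filter, mem_short]; rfl

theorem card_Af : Af.card = 275 := by
  classical
  have hu : sqNorm ((v0 + w1 : leechLattice) : Vec) = 48 := by
    rw [AddSubgroup.coe_add, sqNorm_add, sqNorm_v0, dot_v0w1, w1_norm]; norm_num
  have hmem : ∀ y : leechLattice, sqNorm (y : Vec) = 32 →
      dotInt ((v0 + w1 : leechLattice) : Vec) (y : Vec) = dotInt (v0 : Vec) (y : Vec) + dotInt (w1 : Vec) (y : Vec) :=
    fun y _ => by rw [AddSubgroup.coe_add, dot_add_left]
  have hd : ∀ y : leechLattice, dotInt ((v0 + w1 : leechLattice) : Vec) (y : Vec) = 24 →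
      sqNorm (y : Vec) = 32 → sqNorm ((v0 + w1 - y : leechLattice) : Vec) = 32 := fun y h1 h2 => by
    rw [AddSubgroup.coe_sub, sqNorm_sub', hu, h2, h1]; norm_num
  have hsub : ∀ (v : leechLattice) (y : leechLattice),
      dotInt (v : Vec) ((v0 + w1 - y : leechLattice) : Vec) =
        dotInt (v : Vec) (v0 : Vec) + dotInt (v : Vec) (w1 : Vec) - dotInt (v : Vec) (y : Vec) := fun v y => by
    simp only [dotInt, AddSubgroup.coe_sub, AddSubgroup.coe_add, Pi.sub_apply, Pi.add_apply, ← sum_add_distrib,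
      ← sum_sub_distrib]
    exact sum_congr rfl fun i _ => by ring
  set B := short.filter fun y : leechLattice =>
    dotInt (v0 : Vec) (y : Vec) = 8 ∧ dotInt (w1 : Vec) (y : Vec) = 16 with hB
  have eB : B.card = Af.card := by
    refine card_nbij' (fun y => v0 + w1 - y) (fun y => v0 + w1 - y) ?_ ?_ (fun y _ => sub_sub_cancel _ y)
      (fun y _ => sub_sub_cancel _ y) <;>
    · intro y hy
      simp only [hB, Af, mem_coe, mem_filter, mem_short] at hy ⊢
      obtain ⟨hn, h1, h2⟩ := hy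
      refine ⟨hd y (by rw [hmem y hn, h1, h2]; norm_num) hn, ?_, ?_⟩
      · rw [hsub, h1, dot_v0w1, dot_self, sqNorm_v0]; norm_num
      · rw [hsub, h2, dot_comm (w1 : Vec) (v0 : Vec), dot_v0w1, dot_self, w1_norm]; norm_num
  have e : (short.filter fun y : leechLattice => dotInt ((v0 + w1 : leechLattice) : Vec) (y : Vec) = 24) =
      {v0, w1} ∪ (Af ∪ B) := by
    ext y
    simp only [hB, Af, mem_filter, mem_union, mem_insert, mem_singleton, mem_short]
    constructor
    · rintro ⟨hn, h24⟩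
      rw [hmem y hn] at h24
      have hr1 := range32 sqNorm_v0 y (mem_short.2 hn)
      have hr2 := range32 w1_norm y (mem_short.2 hn)
      simp only [mem_insert, mem_singleton] at hr1 hr2
      have e1 : dotInt (v0 : Vec) (y : Vec) = 32 → y = v0 := fun h => by
        by_contra hne
        have := far (Ne.symm hne)
        rw [sqNorm_v0, hn, h] at this
        norm_num at this
      have e2 : dotInt (w1 : Vec) (y : Vec) = 32 → y = w1 := fun h => by
        by_contra hne
        have := far (Ne.symm hne)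
        rw [w1_norm, hn, h] at this
        norm_num at this
      rcases (by omega : dotInt (v0 : Vec) (y : Vec) = 32 ∨ dotInt (w1 : Vec) (y : Vec) = 32 ∨
          (dotInt (v0 : Vec) (y : Vec) = 16 ∧ dotInt (w1 : Vec) (y : Vec) = 8) ∨
          (dotInt (v0 : Vec) (y : Vec) = 8 ∧ dotInt (w1 : Vec) (y : Vec) = 16)) with h | h | h | h
      · exact Or.inl (Or.inl (e1 h))
      · exact Or.inl (Or.inr (e2 h))
      · exact Or.inr (Or.inl ⟨hn, h⟩)
      · exact Or.inr (Or.inr ⟨hn, h⟩)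
    · rintro ((rfl | rfl) | ⟨hn, h1, h2⟩ | ⟨hn, h1, h2⟩)
      · exact ⟨sqNorm_v0, by rw [hmem _ sqNorm_v0, dot_self, sqNorm_v0, dot_comm, dot_v0w1]; norm_num⟩
      · exact ⟨w1_norm, by rw [hmem _ w1_norm, dot_self, w1_norm, dot_v0w1]; norm_num⟩
      · exact ⟨hn, by rw [hmem y hn, h1, h2]; norm_num⟩
      · exact ⟨hn, by rw [hmem y hn, h1, h2]; norm_num⟩
  have h := congrArg Finset.card e
  rw [show (short.filter fun y : leechLattice => dotInt ((v0 + w1 : leechLattice) : Vec) (y : Vec) = 24).card = 552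
    from (census48 hu).1, card_union_of_disjoint, card_union_of_disjoint, card_pair, eB] at h
  · omega
  · intro h'
    have := congrArg (fun z : leechLattice => (z : Vec) (pt 0)) h'
    rw [w1_zero] at this
    revert this
    show ¬ stdVec (pt 0) = -3
    decide +kernel
  · rw [disjoint_left]
    intro y h1 h2
    rw [Af, mem_filter] at h1
    rw [hB, mem_filter] at h2
    omega
  · rw [disjoint_left]
    intro y h1 h2
    simp only [mem_insert, mem_singleton] at h1
    simp only [hB, Af, mem_union, mem_filter] at h2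
    rcases h1 with rfl | rfl
    · rw [dot_self, sqNorm_v0] at h2; omega
    · rw [dot_self, w1_norm] at h2; omega

/-- The coordinate sums over the 275. -/
noncomputable def Z : Vec := fun p => ∑ y ∈ Af, (y : Vec) p

theorem dot_Z (x : Vec) : dotInt x Z = ∑ y ∈ Af, dotInt x (y : Vec) := by
  show ∑ p, x p * Z p = ∑ y ∈ Af, ∑ p, x p * (y : Vec) p
  rw [sum_comm]
  exact sum_congr rfl fun p _ => mul_sum _ _ _

theorem dot_Z_smul {g : Co0} (hg : g ∈ McL.G) (x : leechLattice) :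
    dotInt ((g • x : leechLattice) : Vec) Z = dotInt (x : Vec) Z := by
  rw [dot_Z, dot_Z]
  exact (sum_nbij' (fun y => g • y) (fun y => g⁻¹ • y) (fun y hy => mem_Af.2 (inA_smul hg (mem_Af.1 hy)))
    (fun y hy => mem_Af.2 (inA_smul (McL.G.inv_mem hg) (mem_Af.1 hy))) (fun y _ => inv_smul_smul g y)
    (fun y _ => smul_inv_smul g y) (fun y _ => (dot_smul g x y).symm)).symm

theorem dot_Z_T : dotInt (T : Vec) Z = 3520 := by
  have hv : dotInt (v0 : Vec) Z = 4400 := by
    rw [dot_Z, sum_congr rfl fun y hy => (mem_Af.1 hy).2.1, sum_const, card_Af]; rfl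
  have hw : dotInt (w1 : Vec) Z = 2200 := by
    rw [dot_Z, sum_congr rfl fun y hy => (mem_Af.1 hy).2.2, sum_const, card_Af]; rfl
  have hperm : ∀ σ ∈ M22s, ∀ p, Z (((σ : M24) : Equiv.Perm GolayPt) p) = Z p := by
    intro σ hσ p
    have hg := McL.S_le_G (permHom_fix hσ)
    show ∑ y ∈ Af, (y : Vec) _ = ∑ y ∈ Af, (y : Vec) p
    exact (sum_nbij' (fun y => permHom σ • y) (fun y => (permHom σ)⁻¹ • y)
      (fun y hy => mem_Af.2 (inA_smul hg (mem_Af.1 hy)))
      (fun y hy => mem_Af.2 (inA_smul (McL.G.inv_mem hg) (mem_Af.1 hy))) (fun y _ => inv_smul_smul _ y)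
      (fun y _ => smul_inv_smul _ y) (fun y _ => by rw [permHom_smul]; simp)).symm
  set c := Z (pt 12) with hc
  have hval : ∀ p, p ≠ none → p ≠ pt 0 → Z p = c := by
    intro p p1 p0
    obtain ⟨a, ha, hl⟩ := exists_map_list [none, pt 0, pt 12] [none, pt 0, p]
      (by simp [pt0_ne_none.symm, Ne.symm block_facts.2.2.2.2.1, Ne.symm block_facts.2.2.2.2.2])
      (by simp [pt0_ne_none.symm, Ne.symm p1, Ne.symm p0]) rfl (by simp)
    simp only [List.map_cons, List.map_nil, List.cons.injEq, and_true] at hl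
    rw [← hl.2.2]
    exact hperm ⟨a, ha⟩ (mem_M22s.2 ⟨hl.1, hl.2.1⟩) (pt 12)
  have hsumf : ∀ o : Finset GolayPt, none ∉ o → pt 0 ∉ o → ∑ p ∈ o, Z p = (o.card : ℤ) * c := by
    intro o h1 h2
    rw [sum_congr rfl fun p hp => hval p (fun e => h1 (e ▸ hp)) (fun e => h2 (e ▸ hp)), sum_const, nsmul_eq_mul]
  obtain ⟨g, hg, e⟩ := McL.to_one McL.seed0 McL.seed0_inX
  have hX := dot_Z_smul hg McL.seed0
  rw [e, dot_w0] at hX
  have hroot : maskSet McLData.farRoot ∈ octads ∧ none ∉ maskSet McLData.farRoot ∧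
      pt 0 ∉ maskSet McLData.farRoot := by
    refine ⟨mem_octads_iff.2 (by decide +kernel), ?_, ?_⟩ <;> rw [mem_maskSet] <;> decide +kernel
  rw [show ((McL.seed0 : leechLattice) : Vec) = F0 (maskSet McLData.farRoot) from rfl, dot_F0,
    hsumf _ hroot.2.1 hroot.2.2, octad_card hroot.1] at hX
  rw [dot_v0] at hv
  rw [dot_w1, ← add_sum_erase univ _ (mem_univ none),
    ← add_sum_erase _ _ (mem_erase.2 ⟨pt0_ne_none, mem_univ (pt 0)⟩),
    hsumf _ (by simp) (by simp), card_erase_of_mem (mem_erase.2 ⟨pt0_ne_none, mem_univ _⟩),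
    card_erase_of_mem (mem_univ _), card_univ, show Fintype.card GolayPt = 24 by decide] at hw
  obtain ⟨b1, b2, b3, -⟩ := block_facts
  rw [T_coe, dot_F0, ← add_sum_erase _ _ b2, ← add_sum_erase _ _ (mem_erase.2 ⟨pt0_ne_none, b3⟩),
    hsumf _ (by simp) (by simp), card_erase_of_mem (mem_erase.2 ⟨pt0_ne_none, b3⟩),
    card_erase_of_mem b2, octad_card b1]
  push_cast at hX hw ⊢
  omega

theorem sub_counts : (Af.filter fun y : leechLattice => dotInt (T : Vec) (y : Vec) = 8).card = 112 ∧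
    (Af.filter fun y : leechLattice => y ≠ T ∧ dotInt (T : Vec) (y : Vec) = 16).card = 162 := by
  classical
  have hT : T ∈ Af := mem_Af.2 T_inA
  have hdT : dotInt (T : Vec) (T : Vec) = 32 := (dot_self _).trans T_inA.1
  have h := dot_Z_T
  rw [dot_Z, ← add_sum_erase Af _ hT, hdT] at h
  set R := Af.erase T with hR
  have hRc : R.card = 274 := by rw [hR, card_erase_of_mem hT, card_Af]
  have hval : ∀ y ∈ R, dotInt (T : Vec) (y : Vec) =
      16 - 8 * (if dotInt (T : Vec) (y : Vec) = 8 then (1 : ℤ) else 0) := by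
    intro y hy
    rw [hR, mem_erase] at hy
    rcases dot_cases (mem_Af.1 hy.2) hy.1 with e | e <;> rw [e] <;> norm_num
  rw [sum_congr rfl hval, sum_sub_distrib, sum_const, hRc, ← mul_sum, sum_boole] at h
  have e8 : R.filter (fun y : leechLattice => dotInt (T : Vec) (y : Vec) = 8) =
      Af.filter fun y : leechLattice => dotInt (T : Vec) (y : Vec) = 8 := by
    rw [hR, filter_erase, erase_eq_of_notMem]
    rw [mem_filter, hdT]; norm_num
  have e16 : R.filter (fun y : leechLattice => ¬ dotInt (T : Vec) (y : Vec) = 8) =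
      Af.filter fun y : leechLattice => y ≠ T ∧ dotInt (T : Vec) (y : Vec) = 16 := by
    ext y
    simp only [hR, mem_filter, mem_erase]
    constructor
    · rintro ⟨⟨h1, h2⟩, h3⟩
      exact ⟨h2, h1, ((dot_cases (mem_Af.1 h2) h1).resolve_left h3)⟩
    · rintro ⟨h1, h2, h3⟩
      exact ⟨⟨h2, h1⟩, by rw [h3]; norm_num⟩
  have hs := card_filter_add_card_filter_not (s := R) (fun y : leechLattice => dotInt (T : Vec) (y : Vec) = 8)
  rw [e8, e16, hRc] at hs
  rw [e8] at h
  simp only [nsmul_eq_mul] at h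
  push_cast at h
  omega

/-! ### Transport -/

theorem exists_frame {u v : leechLattice} (hu : sqNorm (u : Vec) = 48) (hv : sqNorm (v : Vec) = 32)
    (huv : sqNorm ((u : Vec) - (v : Vec)) = 32) : ∃ h : Co0, h • v = v0 ∧ h • u = v0 + w1 := by
  have e : sqNorm ((u - v : leechLattice) : Vec) = 32 := huv
  have hd : dotInt (v : Vec) ((u - v : leechLattice) : Vec) = -8 := by
    rw [sqNorm_sub', hu, hv] at huv
    have : dotInt (v : Vec) ((u - v : leechLattice) : Vec) = dotInt (v : Vec) (u : Vec) - sqNorm (v : Vec) := by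
      simp only [dotInt, sqNorm, AddSubgroup.coe_sub, Pi.sub_apply, ← sum_sub_distrib]
      exact sum_congr rfl fun i _ => by ring
    rw [this, dot_comm, hv]
    omega
  obtain ⟨h, h1, h2⟩ := trans_pairs v (u - v) v0 w1 hv e sqNorm_v0 w1_norm (Or.inl (by rw [hd]; rfl))
    (by rw [hd, dot_v0w1])
  refine ⟨h, h1, ?_⟩
  rw [show u = v + (u - v) by abel, smul_add', h1, h2]

theorem mem_iff {u v : leechLattice} {t : Co0} (hu : sqNorm (u : Vec) = 48) (tv : t • v = v0)
    (tu : t • u = v0 + w1) (y : leechLattice) :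
    (sqNorm (y : Vec) = 32 ∧ sqNorm ((u : Vec) - (y : Vec)) = 32 ∧ dotInt (v : Vec) (y : Vec) = 16) ↔
      InA (t • y) := by
  have e1 : dotInt (u : Vec) (y : Vec) =
      dotInt (v0 : Vec) ((t • y : leechLattice) : Vec) + dotInt (w1 : Vec) ((t • y : leechLattice) : Vec) := by
    rw [← dot_smul t u y, tu, AddSubgroup.coe_add, dot_add_left]
  have e2 : dotInt (v : Vec) (y : Vec) = dotInt (v0 : Vec) ((t • y : leechLattice) : Vec) := by
    rw [← dot_smul t v y, tv]
  rw [InA, sqNorm_smul, sqNorm_sub', hu, e1, e2]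
  constructor
  · rintro ⟨a, b, c⟩; exact ⟨a, c, by omega⟩
  · rintro ⟨a, b, c⟩; exact ⟨a, by omega, b⟩

theorem fix_of {u v : leechLattice} {t t' : Co0} (tv : t • v = v0) (tu : t • u = v0 + w1) (tv' : t' • v = v0)
    (tu' : t' • u = v0 + w1) {g : Co0} (hg : g ∈ McL.G) :
    (t'⁻¹ * g * t) • u = u ∧ (t'⁻¹ * g * t) • v = v := by
  obtain ⟨g1, g2⟩ := mem_G.1 hg
  refine ⟨?_, ?_⟩
  · rw [mul_smul, mul_smul, tu, smul_add', g1, g2, ← tu', inv_smul_smul]
  · rw [mul_smul, mul_smul, tv, g1, ← tv', inv_smul_smul]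

theorem ncard_set {u v : leechLattice} {t : Co0} (hu : sqNorm (u : Vec) = 48) (tv : t • v = v0)
    (tu : t • u = v0 + w1) (p : leechLattice → Prop) (q : leechLattice → Prop) [DecidablePred q]
    (hpq : ∀ y, p y ↔ q (t • y)) :
    {y : leechLattice | (sqNorm (y : Vec) = 32 ∧ sqNorm ((u : Vec) - (y : Vec)) = 32 ∧
      dotInt (v : Vec) (y : Vec) = 16) ∧ p y}.ncard = (Af.filter q).card := by
  rw [← Set.ncard_image_of_injective _ (MulAction.injective t), ← Set.ncard_coe_finset]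
  refine congrArg Set.ncard (Set.ext fun y => ?_)
  rw [mem_coe, mem_filter, mem_Af]
  constructor
  · rintro ⟨z, ⟨hz, hp⟩, rfl⟩
    exact ⟨(mem_iff hu tv tu z).1 hz, (hpq z).1 hp⟩
  · rintro ⟨hy, hq⟩
    refine ⟨t⁻¹ • y, ⟨(mem_iff hu tv tu _).2 (by rwa [smul_inv_smul]), (hpq _).2 (by rwa [smul_inv_smul])⟩,
      smul_inv_smul t y⟩

end Cfsg.Agent.LeechAut.McL275
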