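import Mathlib

/-!
A simplicity criterion from a self-centralising subgroup of order 23 whose normaliser
has order dividing 253, together with a simple subgroup of index prime to 11.
-/

set_option autoImplicit false

namespace Cfsg.Agent.LeechAut.Crit23

variable {H : Type*} [Group H] [Finite H]

theorem fact23 : Fact (Nat.Prime 23) := ⟨by norm_num⟩
theorem fact11 : Fact (Nat.Prime 11) := ⟨by norm_num⟩

/-- A subgroup of order `p` is Sylow when `p²` does not divide the order. -/
theorem fact_one {p : ℕ} (hp : p.Prime) (hd : ¬ p ^ 2 ∣ Nat.card H) (hd1 : p ∣ Nat.card H) :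
    (Nat.card H).factorization p = 1 := by
  have h0 : Nat.card H ≠ 0 := Nat.card_pos.ne'
  have h1 := (hp.pow_dvd_iff_le_factorization h0 (k := 1)).1 (by rwa [pow_one])
  have h2 := mt (hp.pow_dvd_iff_le_factorization h0 (k := 2)).2 hd
  omega

theorem exists_conj {g x : H} (hg : orderOf g = 23) (h23 : ¬ 23 ^ 2 ∣ Nat.card H) (hx : orderOf x = 23) :
    ∃ h : H, ∃ i : ℤ, h * x ^ i * h⁻¹ = g := by
  haveI := fact23
  have hf := fact_one (by norm_num : Nat.Prime 23) h23 (hg ▸ orderOf_dvd_natCard g)
  let A : Sylow 23 H := Sylow.ofCard (Subgroup.zpowers x) (by rw [Nat.card_zpowers, hx, hf]; rfl)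
  let B : Sylow 23 H := Sylow.ofCard (Subgroup.zpowers g) (by rw [Nat.card_zpowers, hg, hf]; rfl)
  obtain ⟨h, e⟩ := MulAction.exists_smul_eq H A B
  have hm : g ∈ ((h • A : Sylow 23 H) : Subgroup H) := by rw [e]; exact Subgroup.mem_zpowers g
  rw [Sylow.coe_subgroup_smul, Subgroup.mem_smul_pointwise_iff_exists] at hm
  obtain ⟨y, hy, rfl⟩ := hm
  obtain ⟨i, rfl⟩ := Subgroup.mem_zpowers_iff.1 hy
  exact ⟨h, i, rfl⟩

theorem eq_one_of_commute {g y : H} (hg : orderOf g = 23) (h23 : ¬ 23 ^ 2 ∣ Nat.card H)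
    (hcent : ∀ c, Commute c g → c ∈ Subgroup.zpowers g) {x : H} (hx : orderOf x = 23)
    (hxy : Commute x y) (hy : y ^ 11 = 1) : y = 1 := by
  obtain ⟨h, i, e⟩ := exists_conj hg h23 hx
  have h1 : Commute (h * y * h⁻¹) g := by
    rw [← e]
    exact (((hxy.zpow_left i).symm).map (MulAut.conj h).toMonoidHom)
  have h2 : (h * y * h⁻¹) ^ 23 = 1 := by
    obtain ⟨j, hj⟩ := Subgroup.mem_zpowers_iff.1 (hcent _ h1)
    rw [← hj, ← zpow_natCast, ← zpow_mul, mul_comm, zpow_mul, zpow_natCast, ← hg, pow_orderOf_eq_one,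
      one_zpow]
  have h3 : (h * y * h⁻¹) ^ 11 = 1 := by rw [conj_pow, hy]; group
  have h4 : h * y * h⁻¹ = 1 := by simpa using pow_gcd_eq_one.2 ⟨h2, h3⟩
  exact conj_eq_one_iff.1 h4

/-- Fixed-point counting for subsets of a normal subgroup on which `g` acts without fixed points. -/
theorem card_mod {g : H} (hg : orderOf g = 23) (S : Set H) (h1 : (1 : H) ∈ S)
    (hS : ∀ x ∈ S, g * x * g⁻¹ ∈ S) (hfix : ∀ x ∈ S, g * x = x * g → x = 1) : S.ncard % 23 = 1 := by
  haveI := fact23
  haveI : Finite (ConjAct H) := Finite.of_equiv H ConjAct.toConjAct.toEquiv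
  let P : Subgroup (ConjAct H) := Subgroup.zpowers (ConjAct.toConjAct g)
  have horder : orderOf (ConjAct.toConjAct g) = 23 := by
    rw [← hg]; exact MulEquiv.orderOf_eq ConjAct.toConjAct g
  have hP : IsPGroup 23 P := IsPGroup.of_card (n := 1) (by rw [Nat.card_zpowers, horder, pow_one])
  have hinv : ∀ (a : P) (x : H), x ∈ S → (a : ConjAct H) • x ∈ S := by
    intro a x hx
    obtain ⟨n, hn⟩ := mem_powers_iff_mem_zpowers.2 a.2
    rw [← hn]
    clear hn
    show (ConjAct.toConjAct g) ^ n • x ∈ S
    induction n with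
    | zero => simpa using hx
    | succ n ih =>
      rw [pow_succ', mul_smul, ConjAct.toConjAct_smul]
      exact hS _ ih
  let act : MulAction P S :=
    { smul := fun a x => ⟨(a : ConjAct H) • (x : H), hinv a x x.2⟩
      one_smul := fun x => Subtype.ext (one_smul (ConjAct H) (x : H))
      mul_smul := fun a b x => Subtype.ext (mul_smul (a : ConjAct H) (b : ConjAct H) (x : H)) }
  letI := act
  have h := hP.card_modEq_card_fixedPoints S
  have hf : MulAction.fixedPoints P S = {⟨1, h1⟩} := by
    ext x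
    rw [Set.mem_singleton_iff, MulAction.mem_fixedPoints]
    constructor
    · intro hx
      have h2 : g * (x : H) * g⁻¹ = x := congrArg Subtype.val (hx ⟨_, Subgroup.mem_zpowers _⟩)
      exact Subtype.ext (hfix x x.2 (by rwa [← mul_inv_eq_iff_eq_mul]))
    · rintro rfl a
      exact Subtype.ext (smul_one (a : ConjAct H))
  rw [hf, Nat.card_coe_set_eq, Nat.card_coe_set_eq, Set.ncard_singleton] at h
  exact h

/-- The criterion. -/
theorem simple_crit (g : H) (hg : orderOf g = 23) (h23 : ¬ 23 ^ 2 ∣ Nat.card H) (h11 : ¬ 11 ^ 2 ∣ Nat.card H)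
    (hcent : ∀ c, Commute c g → c ∈ Subgroup.zpowers g)
    (hnorm : ∀ (c : H) (k : ℕ), c * g * c⁻¹ = g ^ k → k ^ 11 % 23 = 1)
    (G : Subgroup H) (hG : IsSimpleGroup G) (hG11 : 11 ∣ Nat.card G) (hGbig : 11 < Nat.card G)
    (hidx : ¬ 11 ∣ G.index)
    (hsmall : ∀ N : Subgroup H, N.Normal → Nat.card N ∣ G.index → ¬ 23 ∣ Nat.card N →
      (∀ x ∈ N, g * x = x * g → x = 1) → N = ⊥) : IsSimpleGroup H := by
  classical
  haveI := fact23
  haveI := fact11
  haveI : Nontrivial H := ⟨⟨g, 1, fun e => by rw [e, orderOf_one] at hg; norm_num at hg⟩⟩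
  refine ⟨fun N hN => ?_⟩
  have hsub : N.subgroupOf G = ⊥ ∨ N.subgroupOf G = ⊤ :=
    Subgroup.Normal.eq_bot_or_eq_top (H := N.subgroupOf G) inferInstance
  have hdvd : N.subgroupOf G = ⊥ → Nat.card N ∣ G.index := by
    intro hb
    have h1 : N.relIndex (G ⊔ N) = Nat.card G := by
      rw [Subgroup.relIndex_sup_right, Subgroup.relIndex, hb, Subgroup.index_bot]
    have h2 : Nat.card N * N.relIndex (G ⊔ N) = Nat.card ↥(G ⊔ N) :=
      (Subgroup.relIndex_bot_left N ▸ Subgroup.relIndex_bot_left (G ⊔ N) ▸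
        Subgroup.relIndex_mul_relIndex ⊥ N (G ⊔ N) bot_le le_sup_right)
    have h3 := Subgroup.card_subgroup_dvd_card (G ⊔ N)
    rw [← h2, h1, ← G.index_mul_card] at h3
    exact Nat.dvd_of_mul_dvd_mul_right Nat.card_pos h3
  by_cases h : 23 ∣ Nat.card N
  · -- every Sylow subgroup lies in `N`, so the Frattini argument bounds the index
    obtain ⟨x, hx⟩ := exists_prime_orderOf_dvd_card' 23 h
    obtain ⟨a, i, e⟩ := exists_conj hg h23 (show orderOf (x : H) = 23 by rw [Subgroup.orderOf_coe, hx])
    have hgN : g ∈ N := e ▸ hN.conj_mem _ (N.zpow_mem x.2 i) a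
    have hf := fact_one (by norm_num : Nat.Prime 23) h23 (hg ▸ orderOf_dvd_natCard g)
    let P : Sylow 23 H := Sylow.ofCard (Subgroup.zpowers g) (by rw [Nat.card_zpowers, hg, hf]; rfl)
    have hPN : (P : Subgroup H) ≤ N := (Subgroup.zpowers_le).2 hgN
    have hsup := Sylow.normalizer_sup_eq_top (P.subtype hPN)
    rw [Sylow.coe_subtype, Subgroup.map_subgroupOf_eq_of_le hPN] at hsup
    have key : ∀ q : H ⧸ N, q ^ 11 = 1 := by
      intro q
      induction q using QuotientGroup.induction_on with
      | H y =>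
        obtain ⟨c, hc, n, hn, rfl⟩ := Subgroup.mem_sup_of_normal_right.1 (hsup ▸ Subgroup.mem_top y)
        rw [QuotientGroup.mk_mul, (QuotientGroup.eq_one_iff n).2 hn, mul_one, ← QuotientGroup.mk_pow,
          QuotientGroup.eq_one_iff]
        have hcg : c * g * c⁻¹ ∈ Subgroup.zpowers g :=
          (Subgroup.mem_normalizer_iff.1 hc g).1 (Subgroup.mem_zpowers g)
        obtain ⟨k, hk⟩ := mem_powers_iff_mem_zpowers.2 hcg
        have hpow : ∀ m : ℕ, c ^ m * g * (c ^ m)⁻¹ = g ^ (k ^ m) := by
          intro m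
          induction m with
          | zero => simp
          | succ m ih =>
            rw [show c ^ (m + 1) * g * (c ^ (m + 1))⁻¹ = c * (c ^ m * g * (c ^ m)⁻¹) * c⁻¹ by
              rw [pow_succ']; group, ih, ← conj_pow, ← hk, ← pow_mul, pow_succ']
        have hcomm : Commute (c ^ 11) g := by
          have h1 := hpow 11
          rw [← Nat.mod_add_div (k ^ 11) 23, hnorm c k hk.symm, pow_add, pow_mul, ← hg,
            pow_orderOf_eq_one, one_pow, pow_one, mul_one, mul_inv_eq_iff_eq_mul] at h1
          exact h1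
        exact hPN (hcent _ hcomm)
    have hp : IsPGroup 11 (H ⧸ N) := fun q => ⟨1, by rw [pow_one]; exact key q⟩
    obtain ⟨a', ha⟩ := hp.exists_card_eq
    rw [← Subgroup.index_eq_card] at ha
    have ha1 : a' ≤ 1 := by
      by_contra hcon
      exact h11 ((pow_dvd_pow 11 (show 2 ≤ a' by omega)).trans (ha ▸ N.index_dvd_card))
    rcases hsub with hb | ht
    · exfalso
      have h1 := Nat.le_of_dvd (Nat.pos_of_ne_zero Subgroup.index_ne_zero_of_finite) (hdvd hb)
      have h2 : N.index * Nat.card N = G.index * Nat.card G := by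
        rw [N.index_mul_card, G.index_mul_card]
      have h3 : N.index ≤ 11 := by rw [ha]; calc
        11 ^ a' ≤ 11 ^ 1 := Nat.pow_le_pow_right (by norm_num) ha1
        _ = 11 := by norm_num
      have h4 : G.index * Nat.card G ≤ 11 * G.index := by
        rw [← h2]; exact Nat.mul_le_mul h3 h1
      have h5 : 0 < G.index := Nat.pos_of_ne_zero Subgroup.index_ne_zero_of_finite
      nlinarith
    · right
      have hd : N.index ∣ G.index := Subgroup.index_dvd_of_le (Subgroup.subgroupOf_eq_top.1 ht)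
      rcases Nat.le_one_iff_eq_zero_or_eq_one.1 ha1 with rfl | rfl
      · exact Subgroup.index_eq_one.1 (by simpa using ha)
      · exact absurd (by rw [ha, pow_one] at hd; exact hd) hidx
  · have hfix : ∀ x ∈ N, g * x = x * g → x = 1 := by
      intro x hx hc
      have h1 := orderOf_dvd_of_mem_zpowers (hcent x hc.symm)
      rw [hg] at h1
      rcases (Nat.dvd_prime (by norm_num : Nat.Prime 23)).1 h1 with e | e
      · exact orderOf_eq_one_iff.1 e
      · exact absurd (e ▸ Subgroup.orderOf_dvd_natCard N hx) h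
    rcases hsub with hb | ht
    · exact Or.inl (hsmall N hN (hdvd hb) h hfix)
    · exfalso
      have hGN := Subgroup.subgroupOf_eq_top.1 ht
      have hN11 : 11 ∣ Nat.card N := hG11.trans (Subgroup.card_dvd_of_le hGN)
      let Q : Sylow 11 N := Classical.arbitrary _
      have hsup := Sylow.normalizer_sup_eq_top Q
      set Q' := (Q : Subgroup N).map N.subtype with hQ'
      have hQc : Nat.card Q' = 11 := by
        rw [hQ', Subgroup.card_map_of_injective N.subtype_injective, Sylow.card_eq_multiplicity,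
          fact_one (by norm_num : Nat.Prime 11) (fun e => h11 (e.trans N.card_subgroup_dvd_card)) hN11]
        rfl
      set NQ := Subgroup.normalizer ((Q' : Subgroup H) : Set H) with hNQ
      have hd23 : 23 ∣ Nat.card NQ := by
        have h1 : N.relIndex NQ = N.index := by
          rw [← Subgroup.relIndex_sup_right, hsup, Subgroup.relIndex_top_right]
        have h2 : 23 ∣ N.index * Nat.card N := by
          rw [N.index_mul_card]; exact hg ▸ orderOf_dvd_natCard g
        rcases (Nat.Prime.dvd_mul (by norm_num)).1 h2 with e | e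
        · exact e.trans (h1 ▸ (N.subgroupOf NQ).index_dvd_card)
        · exact absurd e h
      obtain ⟨x, hx⟩ := exists_prime_orderOf_dvd_card' 23 hd23
      let ρ : NQ →* Equiv.Perm Q' := (MulAut.toPerm Q').comp Q'.normalizerMonoidHom
      have hρ : ρ x = 1 := by
        rw [← orderOf_eq_one_iff]
        have h1 : orderOf (ρ x) ∣ 23 := hx ▸ orderOf_map_dvd ρ x
        have h2 : orderOf (ρ x) ∣ Nat.factorial 11 := by
          have := orderOf_dvd_natCard (ρ x)
          rwa [Nat.card_perm, hQc] at this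
        exact Nat.eq_one_of_dvd_one ((by norm_num [Nat.factorial] : Nat.gcd 23 (Nat.factorial 11) = 1) ▸
          Nat.dvd_gcd h1 h2)
      obtain ⟨y, hy⟩ := exists_prime_orderOf_dvd_card' 11 (G := Q') (by rw [hQc])
      have hxy : Commute (x : H) (y : H) := by
        have h1 : (x : H) * y * (x : H)⁻¹ = y :=
          congrArg Subtype.val (congrArg (fun f : Equiv.Perm Q' => f y) hρ)
        exact mul_inv_eq_iff_eq_mul.1 h1
      have := eq_one_of_commute hg h23 hcent (show orderOf (x : H) = 23 by rw [Subgroup.orderOf_coe, hx]) hxy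
        (by rw [← Subgroup.coe_pow, ← hy, pow_orderOf_eq_one]; rfl)
      rw [show y = 1 from Subtype.ext this, orderOf_one] at hy
      norm_num at hy

end Cfsg.Agent.LeechAut.Crit23
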