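import Cfsg.Agent.Lib.LeechAut.McL
import Cfsg.Agent.Lib.LeechAut.Crit23
import Cfsg.Agent.GroupStructure3.FrattiniAut
import Cfsg.Prelude.Def_Sporadic

/-!
Simplicity of the two smaller Conway groups: the normaliser of the 23-element `i ↦ i + 1`
in the stabiliser of a vector constant on the 23 finite points has order dividing 253, and
both stabilisers contain the McLaughlin group.
-/

set_option autoImplicit false
set_option maxRecDepth 10000

namespace Cfsg.Agent.LeechAut.Conway23

open Cfsg Cfsg.Agent.Golay.Basic Cfsg.Agent.Golay.Design Cfsg.Agent.Leech.Basic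
  Cfsg.Agent.Leech.Index Cfsg.Agent.LeechAut.Gens Cfsg.Agent.LeechAut.Basic
  Cfsg.Agent.LeechAut.Shells Cfsg.Agent.LeechAut.Cross Cfsg.Agent.LeechAut.Pairs
  Cfsg.Agent.LeechAut.Moments Finset
open Cfsg.Agent.Golay.M24 (transl transl_mem)
open Cfsg.Agent.LeechAut.Co1 (permHom permHom_smul)
open Cfsg.Agent.LeechAut.McL (w1 w1_apply w1_none w1_zero w1_norm dot_v0w1 mem_G mem_M22s permHom_fix)
open scoped Pointwise

/-- The translation in `M24`. -/
def tau : M24 := ⟨transl, transl_mem⟩

/-- The element of order 23. -/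
def g23 : Co0 := permHom tau

theorem transl_pow (j : ℕ) :
    (∀ y : ZMod 23, (transl ^ j) (some y) = some (y + j)) ∧ (transl ^ j) none = none := by
  induction j with
  | zero => simp
  | succ j ih =>
    refine ⟨fun y => ?_, ?_⟩
    · rw [pow_succ', Equiv.Perm.mul_apply, ih.1, Nat.cast_succ, ← add_assoc]; rfl
    · rw [pow_succ', Equiv.Perm.mul_apply, ih.2]; rfl

theorem permHom_injective : Function.Injective permHom := by
  intro σ τ e
  refine Subtype.ext (inv_injective (Equiv.ext fun i => ?_))
  by_contra hne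
  have := congrArg (fun g : Co0 => ((g • frame ((σ : Equiv.Perm GolayPt)⁻¹ i) : leechLattice) : Vec) i) e
  simp only [permHom_smul, frame_coe, Pi.single_eq_same] at this
  rw [Pi.single_eq_of_ne (Ne.symm hne)] at this
  norm_num at this

theorem transl_moves : transl (some 0 : GolayPt) ≠ some 0 := by decide +kernel

theorem orderOf_g23 : orderOf g23 = 23 := by
  haveI : Fact (Nat.Prime 23) := ⟨by norm_num⟩
  refine orderOf_eq_prime ?_ fun e => ?_
  · rw [g23, ← map_pow, ← map_one permHom]
    refine congrArg permHom (Subtype.ext (Equiv.ext fun p => ?_))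
    show (transl ^ 23) p = p
    obtain ⟨h1, h2⟩ := transl_pow 23
    cases p with
    | none => exact h2
    | some y =>
      rw [h1]
      show (some (y + ((23 : ℕ) : ZMod 23)) : GolayPt) = some y
      rw [ZMod.natCast_self, add_zero]
  · rw [g23, ← map_one permHom] at e
    have := congrArg (fun σ : M24 => (σ : Equiv.Perm GolayPt) (some 0)) (permHom_injective e)
    exact transl_moves this

/-- Multiplication by a scalar on the finite points. -/
def mulFun (k : ZMod 23) : GolayPt → GolayPt := Option.map (k * ·)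

set_option maxHeartbeats 1000000 in
theorem mul_square : ∀ k : ZMod 23,
    (∀ b ∈ basisMasks, isCode (mask ((maskSet b).image (mulFun k))) = true) → k ^ 11 = 1 := by
  decide +kernel

/-- Vectors constant on the finite points. -/
def Flat (u : leechLattice) (a : ℤ) : Prop :=
  (u : Vec) none = a ∧ ∀ x : ZMod 23, (u : Vec) (some x) = 1

theorem g23_fix {u : leechLattice} {a : ℤ} (hu : Flat u a) : g23 • u = u := by
  refine Subtype.ext (funext fun p => ?_)
  rw [g23, permHom_smul]
  show (u : Vec) (transl⁻¹ p) = _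
  cases p with
  | none => rw [show transl⁻¹ (none : GolayPt) = none by rw [Equiv.Perm.inv_eq_iff_eq]; rfl]
  | some y =>
    rw [show transl⁻¹ (some y : GolayPt) = some (y - 1) by
      rw [Equiv.Perm.inv_eq_iff_eq]
      show (some y : GolayPt) = some (y - 1 + 1)
      rw [sub_add_cancel], hu.2, hu.2]

/-- An element of the stabiliser normalising the cyclic group is a coordinate permutation. -/
theorem normalizes {u : leechLattice} {a : ℤ} (hu : Flat u a) (ha : a ≠ 0) {c : Co0} (hc : c • u = u)
    {k : ℕ} (hk : c * g23 * c⁻¹ = g23 ^ k) :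
    ∃ (π : M24) (b : ZMod 23), c = permHom π ∧ (π : Equiv.Perm GolayPt) none = none ∧
      (∀ x, (π : Equiv.Perm GolayPt) (some x) = some ((k : ZMod 23) * x + b)) := by
  have hk23 : ¬ 23 ∣ k := by
    rintro ⟨j, rfl⟩
    have h1 : g23 ^ (23 * j) = 1 := by
      rw [pow_mul, ← orderOf_g23, pow_orderOf_eq_one, one_pow]
    rw [h1, conj_eq_one_iff] at hk
    have := orderOf_g23
    rw [hk, orderOf_one] at this
    norm_num at this
  have hgf : g23 • frame none = frame none := by
    refine Subtype.ext (funext fun p => ?_)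
    rw [g23, permHom_smul, frame_coe]
    show (Pi.single none 8 : Vec) (transl⁻¹ p) = _
    cases p with
    | none => rw [show transl⁻¹ (none : GolayPt) = none by rw [Equiv.Perm.inv_eq_iff_eq]; rfl]
    | some y =>
      rw [Pi.single_eq_of_ne (by
        intro e
        rw [Equiv.Perm.inv_eq_iff_eq] at e
        exact Option.some_ne_none y e), Pi.single_eq_of_ne (Option.some_ne_none y)]
  set y := c • frame none with hy
  have hgy : g23 • y = y := by
    obtain ⟨m, -, hm⟩ := Nat.exists_mul_mod_eq_one_of_coprime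
      ((Nat.Prime.coprime_iff_not_dvd (by norm_num)).2 hk23).symm (by norm_num : 1 < 23)
    have h1 : g23 ^ k • y = y := by rw [← hk, hy, mul_smul, mul_smul, inv_smul_smul, hgf]
    have h2 : (g23 ^ k) ^ m • y = y := MulAction.mem_stabilizer_iff.1 (Subgroup.pow_mem _
      (MulAction.mem_stabilizer_iff.2 h1) m)
    rwa [← pow_mul, ← Nat.mod_add_div (k * m) 23, hm, pow_add, pow_one, pow_mul, ← orderOf_g23,
      pow_orderOf_eq_one, one_pow, mul_one] at h2
  have hconst : ∀ x : ZMod 23, (y : Vec) (some x) = (y : Vec) (some 0) := by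
    have step : ∀ x : ZMod 23, (y : Vec) (some (x + 1)) = (y : Vec) (some x) := by
      intro x
      have e := congrArg (fun z : leechLattice => (z : Vec) (some (x + 1))) hgy
      simp only [g23, permHom_smul] at e
      rw [← e]
      show (y : Vec) (transl⁻¹ (some (x + 1))) = _
      rw [show transl⁻¹ (some (x + 1) : GolayPt) = some x by rw [Equiv.Perm.inv_eq_iff_eq]; rfl]
    intro x
    rw [← ZMod.natCast_zmod_val x]
    induction x.val with
    | zero => rw [Nat.cast_zero]
    | succ n ih => rw [Nat.cast_succ, step, ih]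
  have e1 : dotInt (u : Vec) (y : Vec) = dotInt (u : Vec) (frame none : Vec) := by
    conv_lhs => rw [← hc, hy]
    exact dot_smul c u (frame none)
  have e2 : sqNorm (y : Vec) = 64 := (sqNorm_smul c _).trans (sqNorm_frame none)
  have hfn : ((frame none : leechLattice) : Vec) none = 8 := by rw [frame_coe, Pi.single_eq_same]
  have hfs : ∀ x : ZMod 23, ((frame none : leechLattice) : Vec) (some x) = 0 := fun x => by
    rw [frame_coe, Pi.single_eq_of_ne (Option.some_ne_none x)]
  simp only [dotInt, sqNorm, Fintype.sum_option, hu.1, hu.2, hconst, hfn, hfs, sum_const, card_univ,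
    ZMod.card, nsmul_eq_mul, mul_zero, add_zero, one_mul] at e1 e2
  push_cast at e1 e2
  set b := (y : Vec) (some 0) with hb
  set s := (y : Vec) none with hs
  have hb1 : -1 ≤ b ∧ b ≤ 1 := by constructor <;> nlinarith [sq_nonneg s]
  have hs9 : -8 ≤ s ∧ s ≤ 8 := by constructor <;> nlinarith [sq_nonneg b]
  have hb0 : b = 0 := by
    by_contra hne
    have hbb : b ^ 2 = 1 := by
      rcases (by omega : b = 1 ∨ b = -1) with e | e <;> rw [e] <;> rfl
    rw [hbb] at e2
    obtain ⟨s1, s2⟩ := hs9
    interval_cases s <;> norm_num at e2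
  rw [hb0, mul_zero, add_zero] at e1
  have hs8 : s = 8 := mul_left_cancel₀ ha e1
  have hyf : c • frame none = frame none := by
    rw [← hy]
    refine Subtype.ext (funext fun p => ?_)
    cases p with
    | none => rw [hfn]; exact hs8
    | some x => rw [hfs, hconst]; exact hb0
  obtain ⟨p, rfl⟩ := exists_mono c (fixesCross_of_fix hyf)
  have hn : (p.1 : Equiv.Perm GolayPt) none = none := by
    by_contra hne
    have e := congrArg (fun z : leechLattice => (z : Vec) ((p.1 : Equiv.Perm GolayPt) none)) hyf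
    simp only [mono_frame, frame_coe, Pi.single_eq_same, Pi.single_eq_of_ne hne] at e
    split_ifs at e <;> omega
  have hcp : mono p = permHom p.1 := by
    refine ext' fun v => Subtype.ext (funext fun q => ?_)
    have e := congrArg (fun z : leechLattice => (z : Vec) q) hc
    simp only [mono_smul, signedPerm] at e
    have hu' : (u : Vec) ((p.1 : Equiv.Perm GolayPt).symm q) = (u : Vec) q := by
      by_cases hq : q = none
      · rw [hq, show (p.1 : Equiv.Perm GolayPt).symm none = none by rw [Equiv.symm_apply_eq, hn]]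
      · obtain ⟨x, rfl⟩ := Option.ne_none_iff_exists'.1 hq
        obtain ⟨x', hx'⟩ := Option.ne_none_iff_exists'.1
          (show (p.1 : Equiv.Perm GolayPt).symm (some x) ≠ none by
            rw [Ne, Equiv.symm_apply_eq, hn]; exact Option.some_ne_none x)
        rw [hx', hu.2, hu.2]
    have hq : q ∉ p.2.1 := fun h => by
      rw [if_pos h, hu'] at e
      rcases Decidable.em (q = none) with rfl | hq
      · rw [hu.1] at e; omega
      · obtain ⟨x, rfl⟩ := Option.ne_none_iff_exists'.1 hq
        rw [hu.2] at e; norm_num at e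
    rw [permHom_smul, mono_smul, signedPerm, if_neg hq]
    rfl
  rw [hcp, g23, ← map_inv, ← map_mul, ← map_mul, ← map_pow] at hk
  have hkσ := congrArg (fun σ : M24 => (σ : Equiv.Perm GolayPt)) (permHom_injective hk)
  simp only [Subgroup.coe_mul, Subgroup.coe_inv, SubmonoidClass.coe_pow] at hkσ
  set π := (p.1 : Equiv.Perm GolayPt) with hπ
  have hmove : ∀ q, π (transl q) = (transl ^ k) (π q) := by
    intro q
    have := congrArg (fun σ : Equiv.Perm GolayPt => σ (π q)) hkσ
    simpa [tau] using this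
  obtain ⟨b0, hb0'⟩ := Option.ne_none_iff_exists'.1 (show π (some 0) ≠ none by
    intro e
    exact Option.some_ne_none (0 : ZMod 23) (π.injective (e.trans hn.symm)))
  refine ⟨p.1, b0, hcp, hn, fun x => ?_⟩
  rw [← ZMod.natCast_zmod_val x]
  induction x.val with
  | zero => rw [Nat.cast_zero, mul_zero, zero_add]; exact hb0'
  | succ n ih =>
    have := hmove (some (n : ZMod 23))
    rw [show transl (some (n : ZMod 23)) = some ((n : ZMod 23) + 1) from rfl, ih, (transl_pow k).1] at this
    rw [Nat.cast_succ, this]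
    exact congrArg some (by ring)

theorem norm_exp {u : leechLattice} {a : ℤ} (hu : Flat u a) (ha : a ≠ 0) {c : Co0} (hc : c • u = u)
    {k : ℕ} (hk : c * g23 * c⁻¹ = g23 ^ k) : k ^ 11 % 23 = 1 := by
  obtain ⟨π, b, -, hn, hval⟩ := normalizes hu ha hc hk
  have hν : ∀ q, ((transl ^ b.val)⁻¹ * (π : Equiv.Perm GolayPt)) q = mulFun (k : ZMod 23) q := by
    intro q
    rw [Equiv.Perm.mul_apply, Equiv.Perm.inv_eq_iff_eq]
    cases q with
    | none => rw [hn]; exact ((transl_pow b.val).2).symm
    | some x =>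
      show (π : Equiv.Perm GolayPt) (some x) = (transl ^ b.val) (some ((k : ZMod 23) * x))
      rw [hval, (transl_pow b.val).1, ZMod.natCast_zmod_val]
  have h := mul_square (k : ZMod 23) fun m hm => by
    have hmem := Cfsg.Agent.Golay.M24.smul_mem_supports
      (M24.mul_mem (M24.inv_mem (M24.pow_mem transl_mem b.val)) π.2)
      (show maskSet m ∈ codeSets by
        rw [mem_supports_iff]; revert m; decide +kernel)
    rw [Cfsg.Agent.Golay.M24.smul_finset_def, mem_supports_iff,
      image_congr fun q _ => hν q] at hmem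
    exact hmem
  rw [← Nat.cast_pow, ← Nat.cast_one, ZMod.natCast_eq_natCast_iff'] at h
  exact h

theorem cent {u : leechLattice} {a : ℤ} (hu : Flat u a) (ha : a ≠ 0) {c : Co0} (hc : c • u = u)
    (hk : Commute c g23) : c ∈ Subgroup.zpowers g23 := by
  obtain ⟨π, b, rfl, hn, hval⟩ := normalizes hu ha hc (k := 1) (by rw [pow_one, hk.eq, mul_inv_cancel_right])
  suffices h : g23 ^ b.val = permHom π by rw [← h]; exact Subgroup.npow_mem_zpowers g23 _
  rw [g23, ← map_pow]
  refine congrArg permHom (Subtype.ext (Equiv.ext fun q => ?_))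
  show (transl ^ b.val) q = (π : Equiv.Perm GolayPt) q
  cases q with
  | none => rw [(transl_pow b.val).2, hn]
  | some x => rw [(transl_pow b.val).1, hval, ZMod.natCast_zmod_val, Nat.cast_one, one_mul]

/-- The element of order 23 in a stabiliser. -/
def gen {u : leechLattice} {a : ℤ} (hu : Flat u a) : MulAction.stabilizer Co0 u := ⟨g23, g23_fix hu⟩

theorem simple_of {u : leechLattice} {a : ℤ} (hu : Flat u a) (ha : a ≠ 0) (n : ℕ)
    (hcard : Nat.card (MulAction.stabilizer Co0 u) = n * 898128000) (hn : n < 100000)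
    (h23 : ¬ 23 ^ 2 ∣ n) (hn11 : ¬ 11 ∣ n) (G : Subgroup Co0) (hle : G ≤ MulAction.stabilizer Co0 u)
    (hG : IsSimpleGroup G) (hGc : Nat.card G = 898128000)
    (hsmall : ∀ N : Subgroup (MulAction.stabilizer Co0 u), N.Normal → Nat.card N ∣ n → ¬ 23 ∣ Nat.card N →
      (∀ x ∈ N, gen hu * x = x * gen hu → x = 1) → N = ⊥) :
    IsSimpleGroup (MulAction.stabilizer Co0 u) := by
  haveI : Finite (MulAction.stabilizer Co0 u) := Nat.finite_of_card_ne_zero (by
    rw [hcard]; intro e; rcases Nat.mul_eq_zero.1 e with e | e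
    · subst e; exact hn11 (dvd_zero _)
    · norm_num at e)
  have e := Nat.card_congr (Subgroup.subgroupOfEquivOfLe hle).toEquiv
  rw [hGc] at e
  have hidx : (G.subgroupOf (MulAction.stabilizer Co0 u)).index = n := by
    have h := (G.subgroupOf (MulAction.stabilizer Co0 u)).index_mul_card
    rw [e, hcard] at h
    exact Nat.eq_of_mul_eq_mul_right (by norm_num) h
  refine Crit23.simple_crit (gen hu) ?_ ?_ ?_ ?_ ?_ (G.subgroupOf _)
    ((Subgroup.subgroupOfEquivOfLe hle).isSimpleGroup_congr.2 hG) (by rw [e]; norm_num) (by rw [e]; norm_num)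
    (hidx ▸ hn11) (fun N hN => hidx ▸ hsmall N hN)
  · rw [← Subgroup.orderOf_coe]; exact orderOf_g23
  · rw [hcard]
    intro h
    exact h23 (((by norm_num : Nat.Coprime (23 ^ 2) 898128000)).dvd_of_dvd_mul_right h)
  · rw [hcard]
    intro h
    have h1 : 11 * 11 ∣ (n * 81648000) * 11 := by
      rw [show (n * 81648000) * 11 = n * 898128000 by ring]; exact h
    have h2 : 11 ∣ n * 81648000 := Nat.dvd_of_mul_dvd_mul_right (by norm_num) h1
    exact hn11 (((by norm_num : Nat.Coprime 11 81648000)).dvd_of_dvd_mul_right h2)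
  · intro c hc
    obtain ⟨i, hi⟩ := Subgroup.mem_zpowers_iff.1
      (cent hu ha c.2 (congrArg Subtype.val hc : (c : Co0) * g23 = g23 * (c : Co0)))
    exact Subgroup.mem_zpowers_iff.2 ⟨i, Subtype.ext hi⟩
  · intro c k hk
    exact norm_exp hu ha c.2 (k := k) (congrArg Subtype.val hk)

theorem card_stab32 {v : leechLattice} (hv : sqNorm (v : Vec) = 32) :
    Nat.card (MulAction.stabilizer Co0 v) = 47104 * 898128000 := by
  have h := (MulAction.stabilizer Co0 v).index_mul_card
  rw [MulAction.index_stabilizer, show MulAction.orbit Co0 v = (short : Set leechLattice) from ?_,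
    Set.ncard_coe_finset, card_short, card_Co0] at h
  · omega
  · ext w
    rw [mem_coe, mem_short]
    exact ⟨fun ⟨g, e⟩ => e ▸ (sqNorm_smul g v).trans hv, fun hw => transitive32 v w hv hw⟩

theorem card_stab48 {v : leechLattice} (hv : sqNorm (v : Vec) = 48) :
    Nat.card (MulAction.stabilizer Co0 v) = 552 * 898128000 := by
  have h := (MulAction.stabilizer Co0 v).index_mul_card
  rw [MulAction.index_stabilizer, show MulAction.orbit Co0 v = (mid : Set leechLattice) from ?_,
    Set.ncard_coe_finset, card_mid, card_Co0] at h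
  · omega
  · ext w
    rw [mem_coe, mem_mid]
    exact ⟨fun ⟨g, e⟩ => e ▸ (sqNorm_smul g v).trans hv, fun hw => transitive48 v w hv hw⟩

theorem stab_equiv {v w : leechLattice} {g : Co0} (e : g • v = w) :
    Nonempty (MulAction.stabilizer Co0 v ≃* MulAction.stabilizer Co0 w) := by
  subst e
  refine ⟨(Subgroup.equivMapOfInjective _ (MulAut.conj g).toMonoidHom (MulAut.conj g).injective).trans (MulEquiv.subgroupCongr ?_)⟩
  rw [MulAction.stabilizer_smul_eq_stabilizer_map_conj]

/-! ### The third group -/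

theorem flat3 : Flat (v0 + w1) 5 := by
  refine ⟨?_, fun x => ?_⟩
  · show stdVec none + McL.oneVec none = 5
    decide +kernel
  · revert x
    show ∀ x : ZMod 23, stdVec (some x) + McL.oneVec (some x) = 1
    decide +kernel

theorem norm3 : sqNorm ((v0 + w1 : leechLattice) : Vec) = 48 := by
  show sqNorm (stdVec + McL.oneVec) = 48
  decide +kernel

theorem small3 (N : Subgroup (MulAction.stabilizer Co0 (v0 + w1)))
    (hd : Nat.card N ∣ 552) (h : ¬ 23 ∣ Nat.card N) (hN : N.Normal)
    (hfix : ∀ x ∈ N, gen flat3 * x = x * gen flat3 → x = 1) : N = ⊥ := by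
  haveI : Finite (MulAction.stabilizer Co0 (v0 + w1)) :=
    Nat.finite_of_card_ne_zero (by rw [card_stab48 norm3]; norm_num)
  have hg : orderOf (gen flat3) = 23 := by rw [← Subgroup.orderOf_coe]; exact orderOf_g23
  have h24 : Nat.card N ∣ 24 := by
    refine (Nat.Coprime.symm ((Nat.Prime.coprime_iff_not_dvd (by norm_num : Nat.Prime 23)).2 h)).dvd_of_dvd_mul_left
      (show Nat.card N ∣ 23 * 24 from hd)
  have hmod := Crit23.card_mod hg (N : Set _) N.one_mem (fun x hx => hN.conj_mem x hx _) hfix
  rw [← Nat.card_coe_set_eq] at hmod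
  change Nat.card N % 23 = 1 at hmod
  by_contra hne
  have h1 : Nat.card N ≠ 1 := fun e => hne (Subgroup.eq_bot_of_card_eq N e)
  have hc : Nat.card N = 24 := by
    have := Nat.le_of_dvd (by norm_num) h24
    omega
  have key : ∀ q : ℕ, q.Prime → q ∣ 24 → ∀ x ∈ N, x ^ q = 1 := by
    intro q hq hq24 x hx
    haveI : Fact q.Prime := ⟨hq⟩
    set S : Set (MulAction.stabilizer Co0 (v0 + w1)) := {x | x ∈ N ∧ x ^ q = 1} with hS
    have hm := Crit23.card_mod hg S ⟨N.one_mem, one_pow q⟩
      (fun y hy => ⟨hN.conj_mem y hy.1 _, by rw [conj_pow, hy.2, mul_one, mul_inv_cancel]⟩)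
      (fun y hy => hfix y hy.1)
    obtain ⟨z, hz⟩ := exists_prime_orderOf_dvd_card' q (hc ▸ hq24 : q ∣ Nat.card N)
    have hz1 : (z : MulAction.stabilizer Co0 (v0 + w1)) ≠ 1 := fun e => by
      rw [show z = 1 from Subtype.ext e, orderOf_one] at hz
      exact hq.one_lt.ne hz
    have h2 : 1 < S.ncard := by
      rw [Set.one_lt_ncard (Set.toFinite S)]
      exact ⟨_, ⟨z.2, by rw [← Subgroup.coe_pow, ← hz, pow_orderOf_eq_one]; rfl⟩, 1,
        ⟨N.one_mem, one_pow q⟩, hz1⟩
    have hle : S.ncard ≤ 24 := by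
      rw [← hc]
      exact Set.ncard_le_ncard (fun y hy => hy.1) (Set.toFinite _) |>.trans_eq (Nat.card_coe_set_eq _).symm
    have hSN : S = (N : Set _) := Set.eq_of_subset_of_ncard_le (fun y hy => hy.1)
      (by
        have : (N : Set (MulAction.stabilizer Co0 (v0 + w1))).ncard = 24 := (Nat.card_coe_set_eq _).symm.trans hc
        omega)
    exact (hSN ▸ hx : x ∈ S).2
  refine hne ((Subgroup.eq_bot_iff_forall N).2 fun x hx => ?_)
  simpa using pow_gcd_eq_one.2 ⟨key 2 Nat.prime_two (by norm_num) x hx, key 3 Nat.prime_three (by norm_num) x hx⟩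

theorem isSimple3 : IsSimpleGroup (MulAction.stabilizer Co0 (v0 + w1)) := by
  refine simple_of flat3 (by norm_num) 552 (card_stab48 norm3) (by norm_num) (by norm_num) (by norm_num) McL.G
    ?_ McL.isSimple_G McL.card_G fun N hN hd h hfix => small3 N hd h hN hfix
  intro g hg
  obtain ⟨h1, h2⟩ := mem_G.1 hg
  rw [MulAction.mem_stabilizer_iff, smul_add', h1, h2]

theorem isCo3 (v : leechLattice) (hv : sqNorm (v : Vec) = 48) : IsCo3 (MulAction.stabilizer Co0 v) := by
  obtain ⟨g, hg⟩ := transitive48 v (v0 + w1) hv norm3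
  obtain ⟨e⟩ := stab_equiv hg
  exact ⟨e.isSimpleGroup_congr.2 isSimple3, (card_stab48 hv).trans (by norm_num)⟩

/-! ### The second group -/

/-- `-3` at infinity and `1` elsewhere. -/
def negVec : Vec := fun p => if p = none then -3 else 1

/-- The vector used for the second group. -/
def u2 : leechLattice := ⟨negVec, mem_of_inLat (by decide +kernel)⟩

theorem flat2 : Flat u2 (-3) := ⟨rfl, fun _ => rfl⟩

theorem norm2 : sqNorm (u2 : Vec) = 32 := by
  show sqNorm negVec = 32
  decide +kernel

theorem fix_unique {x : leechLattice} (hx : sqNorm (x : Vec) = 32)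
    (hv : dotInt (v0 : Vec) (x : Vec) = -8) (hfix : ∀ g ∈ McL.G, g • x = x) : x = w1 := by
  have hperm : ∀ σ ∈ McL.M22s, ∀ p, (x : Vec) (((σ : M24) : Equiv.Perm GolayPt) p) = (x : Vec) p := by
    intro σ hσ p
    have := congrArg (fun z : leechLattice => (z : Vec) (((σ : M24) : Equiv.Perm GolayPt) p))
      (hfix _ (McL.S_le_G (permHom_fix hσ)))
    simp only [permHom_smul, Equiv.Perm.inv_def, Equiv.symm_apply_apply] at this
    exact this.symm
  have hc : ∀ p q, p ≠ none → p ≠ pt 0 → q ≠ none → q ≠ pt 0 → (x : Vec) p = (x : Vec) q := by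
    intro p q p1 p0 q1 q0
    obtain ⟨a, ha, hl⟩ := exists_map_list [none, pt 0, p] [none, pt 0, q]
      (by simp [pt0_ne_none.symm, Ne.symm p1, Ne.symm p0])
      (by simp [pt0_ne_none.symm, Ne.symm q1, Ne.symm q0]) rfl (by simp)
    simp only [List.map_cons, List.map_nil, List.cons.injEq, and_true] at hl
    have := hperm ⟨a, ha⟩ (mem_M22s.2 ⟨hl.1, hl.2.1⟩) p
    rw [← hl.2.2]
    exact this.symm
  set c := (x : Vec) (pt 12) with hc12
  have hval : ∀ p, p ≠ none → p ≠ pt 0 → (x : Vec) p = c := fun p h1 h0 =>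
    hc p (pt 12) h1 h0 (by decide) (by decide)
  obtain ⟨g, hg, e⟩ := McL.to_one McL.seed0 McL.seed0_inX
  have hd := dot_smul g McL.seed0 x
  rw [e, hfix g hg, dot_w0] at hd
  have hroot : maskSet McLData.farRoot ∈ octads ∧ none ∉ maskSet McLData.farRoot ∧
      pt 0 ∉ maskSet McLData.farRoot := by
    refine ⟨mem_octads_iff.2 (by decide +kernel), ?_, ?_⟩ <;> rw [mem_maskSet] <;> decide +kernel
  have hs : dotInt ((McL.seed0 : leechLattice) : Vec) (x : Vec) = 16 * c := by
    show ∑ p, McL.F0 (maskSet McLData.farRoot) p * (x : Vec) p = _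
    have e1 : ∀ p, McL.F0 (maskSet McLData.farRoot) p * (x : Vec) p =
        if p ∈ maskSet McLData.farRoot then 2 * c else 0 := fun p => by
      unfold McL.F0
      by_cases hp : p ∈ maskSet McLData.farRoot
      · rw [if_pos hp, if_pos hp, hval p (fun e => hroot.2.1 (e ▸ hp)) (fun e => hroot.2.2 (e ▸ hp))]
      · rw [if_neg hp, if_neg hp, zero_mul]
    rw [sum_congr rfl fun p _ => e1 p, sum_ite_mem, univ_inter, sum_const, octad_card hroot.1]
    simp only [nsmul_eq_mul]; push_cast; ring
  rw [hs] at hd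
  rw [dot_v0] at hv
  set a := (x : Vec) none with ha
  set b := (x : Vec) (pt 0) with hb
  have hrest : ∀ f : ℤ → ℤ, ∑ p, f ((x : Vec) p) = f a + f b + 22 * f c := by
    intro f
    rw [← add_sum_erase univ _ (mem_univ none),
      ← add_sum_erase _ _ (mem_erase.2 ⟨pt0_ne_none, mem_univ (pt 0)⟩),
      sum_congr rfl (g := fun _ => f c) fun p hp => by
        rw [mem_erase, mem_erase] at hp
        rw [hval p hp.2.1 hp.1],
      sum_const, card_erase_of_mem (mem_erase.2 ⟨pt0_ne_none, mem_univ _⟩), card_erase_of_mem (mem_univ _),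
      card_univ, show Fintype.card GolayPt = 24 by decide]
    simp only [nsmul_eq_mul]; push_cast; ring
  have hn := hrest fun z => z ^ 2
  rw [show ∑ p, (x : Vec) p ^ 2 = sqNorm (x : Vec) from rfl, hx] at hn
  have ea : a = 2 * c - 1 := by omega
  have eb : b = -2 * c - 1 := by omega
  rw [ea, eb] at hn
  have hcc : c = 1 ∨ c = -1 := sq_eq_one_iff.1 (by linarith)
  obtain ⟨m, cs, y, -, -, hxs, hsum⟩ := mem_lattice_iff.1 x.2
  have hs1 := hrest fun z => z
  rcases hcc with hcc | hcc
  · refine Subtype.ext (funext fun p => ?_)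
    by_cases h0 : p = pt 0
    · rw [h0, w1_zero]; omega
    by_cases h1 : p = none
    · rw [h1, w1_none]; omega
    rw [w1_apply, if_neg h0, hval p h1 h0, hcc]
  · exfalso
    have e1 := hxs none
    have : ∑ p, (x : Vec) p = -24 := by rw [hs1]; omega
    omega

theorem aut_bound {N : Type*} [Group N] [Finite N] {i : ℕ} (hi : i ≤ 11) (hN : Nat.card N = 2 ^ i) :
    ¬ 125 ∣ Nat.card (MulAut N) := by
  haveI : Fact (Nat.Prime 2) := ⟨Nat.prime_two⟩
  intro h
  have hp : IsPGroup 2 N := IsPGroup.of_card hN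
  obtain ⟨r, hr'⟩ := hp.index (frattini N)
  obtain ⟨hri, -⟩ := GroupStructure3.FrattiniAut.exponents hN hr'
  have h1 := h.trans (GroupStructure3.FrattiniAut.card_mulAut_dvd hN hr')
  have h2 : 125 ∣ ∏ j ∈ range r, (2 ^ r - 2 ^ j) :=
    (Nat.Coprime.pow_right _ (by norm_num : Nat.Coprime 125 2)).dvd_of_dvd_mul_left h1
  have : ∀ r < 12, ¬ 125 ∣ ∏ j ∈ range r, (2 ^ r - 2 ^ j) := by decide +kernel
  exact this r (by omega) h2

theorem isSimple2 : IsSimpleGroup (MulAction.stabilizer Co0 u2) := by
  obtain ⟨h, hh⟩ := transitive32 u2 v0 norm2 sqNorm_v0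
  set w2 := h⁻¹ • w1 with hw2
  have hwn : sqNorm (w2 : Vec) = 32 := (sqNorm_smul _ _).trans w1_norm
  have hdot : dotInt (u2 : Vec) (w2 : Vec) = -8 := by
    rw [← dot_smul h, hh, hw2, smul_inv_smul, dot_v0w1]
  set G2 := MulAction.stabilizer Co0 u2 ⊓ MulAction.stabilizer Co0 w2 with hG2
  obtain ⟨eG⟩ := McL.equiv_G u2 w2 norm2 hwn hdot
  have hGs : IsSimpleGroup G2 := eG.isSimpleGroup_congr.2 McL.isSimple_G
  have hGc : Nat.card G2 = 898128000 := (Nat.card_congr eG.toEquiv).trans McL.card_G
  refine simple_of flat2 (by norm_num) 47104 (card_stab32 norm2) (by norm_num) (by norm_num) (by norm_num) G2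
    inf_le_left hGs hGc fun N hN hd h23 _ => ?_
  haveI : Finite (MulAction.stabilizer Co0 u2) :=
    Nat.finite_of_card_ne_zero (by rw [card_stab32 norm2]; norm_num)
  have h2048 : Nat.card N ∣ 2 ^ 11 :=
    (Nat.Coprime.symm ((Nat.Prime.coprime_iff_not_dvd (by norm_num : Nat.Prime 23)).2 h23)).dvd_of_dvd_mul_left
      (show Nat.card N ∣ 23 * 2 ^ 11 from hd)
  obtain ⟨i, hi, hcN⟩ := (Nat.dvd_prime_pow Nat.prime_two).1 h2048
  let f : G2 →* MulAction.stabilizer Co0 u2 := Subgroup.inclusion inf_le_left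
  haveI := hGs
  haveI : Finite G2 := Nat.finite_of_card_ne_zero (by rw [hGc]; norm_num)
  have htriv : ∀ g : G2, (MulAut.conjNormal (H := N)).comp f g = 1 := by
    rcases Subgroup.Normal.eq_bot_or_eq_top (H := ((MulAut.conjNormal (H := N)).comp f).ker) inferInstance with hb | ht
    · exfalso
      refine aut_bound hi hcN ?_
      refine dvd_trans ?_ (Subgroup.card_dvd_of_injective _ (MonoidHom.ker_eq_bot_iff _ |>.1 hb))
      rw [hGc]; norm_num
    · exact fun g => MonoidHom.mem_ker.1 (ht ▸ Subgroup.mem_top g)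
  have hNG : N ≤ G2.subgroupOf (MulAction.stabilizer Co0 u2) := by
    intro n hn
    refine Subgroup.mem_inf.2 ⟨n.2, ?_⟩
    rw [MulAction.mem_stabilizer_iff]
    have hfixed : ∀ g : G2, (g : Co0) • ((n : Co0) • w2) = (n : Co0) • w2 := by
      intro g
      have e := congrArg (fun α : MulAut N => ((α ⟨n, hn⟩ : N) : MulAction.stabilizer Co0 u2)) (htriv g)
      simp only [MonoidHom.comp_apply, MulAut.conjNormal_apply, MulAut.one_apply] at e
      have e' : (g : Co0) * (n : Co0) * (g : Co0)⁻¹ = (n : Co0) := congrArg Subtype.val e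
      have hgw : (g : Co0) • w2 = w2 := (Subgroup.mem_inf.1 g.2).2
      rw [← mul_smul, mul_inv_eq_iff_eq_mul.1 e', mul_smul, hgw]
    have hkey : h • ((n : Co0) • w2) = w1 := by
      refine fix_unique ((sqNorm_smul _ _).trans ((sqNorm_smul _ _).trans hwn)) ?_ fun g hg => ?_
      · have hd' := dot_smul (n : Co0) u2 w2
        rw [show (n : Co0) • u2 = u2 from n.2] at hd'
        rw [← hh, dot_smul, hd', hdot]
      · obtain ⟨g1, g2⟩ := mem_G.1 hg
        have hm : h⁻¹ * g * h ∈ G2 := by
          refine Subgroup.mem_inf.2 ⟨?_, ?_⟩ <;> rw [MulAction.mem_stabilizer_iff]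
          · rw [mul_smul, mul_smul, hh, g1, ← hh, inv_smul_smul]
          · rw [hw2, mul_smul, mul_smul, smul_inv_smul, g2]
        have := hfixed ⟨_, hm⟩
        rw [mul_smul, mul_smul, inv_smul_eq_iff] at this
        exact this
    exact (eq_inv_smul_iff.2 hkey).trans hw2.symm
  have hcd : Nat.card N ∣ 898128000 := by
    rw [← hGc, ← Nat.card_congr (Subgroup.subgroupOfEquivOfLe (inf_le_left : G2 ≤ _)).toEquiv]
    exact Subgroup.card_dvd_of_le hNG
  haveI : IsSimpleGroup (G2.subgroupOf (MulAction.stabilizer Co0 u2)) :=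
    (Subgroup.subgroupOfEquivOfLe inf_le_left).isSimpleGroup_congr.2 hGs
  rcases Subgroup.Normal.eq_bot_or_eq_top (H := N.subgroupOf (G2.subgroupOf (MulAction.stabilizer Co0 u2)))
    inferInstance with hb | ht
  · rw [Subgroup.subgroupOf_eq_bot, disjoint_iff, inf_eq_left.2 hNG] at hb
    exact hb
  · exfalso
    have := Subgroup.card_dvd_of_le (Subgroup.subgroupOf_eq_top.1 ht)
    rw [Nat.card_congr (Subgroup.subgroupOfEquivOfLe (inf_le_left : G2 ≤ _)).toEquiv, hGc] at this
    have := this.trans h2048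
    norm_num at this

theorem isCo2 (v : leechLattice) (hv : sqNorm (v : Vec) = 32) : IsCo2 (MulAction.stabilizer Co0 v) := by
  obtain ⟨g, hg⟩ := transitive32 v u2 hv norm2
  obtain ⟨e⟩ := stab_equiv hg
  exact ⟨e.isSimpleGroup_congr.2 isSimple2, (card_stab32 hv).trans (by norm_num)⟩

end Cfsg.Agent.LeechAut.Conway23
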