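import Cfsg.Agent.Lib.LeechAut.HSGraph

/-!
A strongly regular graph with parameters (100, 22, 0, 6) is the point-block graph of an S(3, 6, 22),
hence the graph of the hundred vectors.
-/

set_option autoImplicit false

namespace Cfsg.Agent.LeechAut.HSUnique

open Cfsg Finset

variable {V : Type*} [Fintype V] {G : SimpleGraph V} [DecidableRel G.Adj]

theorem common_card (hG : G.IsSRGWith 100 22 0 6) [DecidableEq V] (x y : V) :
    (univ.filter fun z => G.Adj x z ∧ G.Adj y z).card =
      if x = y then 22 else if G.Adj x y then 0 else 6 := by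
  have e : (univ.filter fun z => G.Adj x z ∧ G.Adj y z).card = Fintype.card (G.commonNeighbors x y) := by
    rw [← Set.toFinset_card]
    refine congrArg Finset.card (Finset.ext fun z => ?_)
    simp only [mem_filter, mem_univ, true_and]
    rw [Set.mem_toFinset]
    exact Iff.rfl
  rw [e]
  split_ifs with h h'
  · subst h
    have : Fintype.card (G.commonNeighbors x x) = G.degree x := by
      rw [← SimpleGraph.card_neighborSet_eq_degree]
      exact Fintype.card_congr (Equiv.setCongr (by simp [SimpleGraph.commonNeighbors]))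
    rw [this, hG.regular x]
  · exact hG.of_adj x y h'
  · exact hG.of_not_adj h h'

/-- The graph of the hundred vectors is the only one with its parameters. -/
theorem exists_iso_graph (hG : G.IsSRGWith 100 22 0 6) : Nonempty (G ≃g HSGraph.graph) := by
  classical
  obtain ⟨v⟩ : Nonempty V := Fintype.card_pos_iff.1 (by rw [hG.card]; norm_num)
  have cc := common_card hG
  let M : Finset V := univ.filter fun x => x ≠ v ∧ ¬ G.Adj v x
  let blk : V → Finset {x // G.Adj v x} := fun b => univ.filter fun a => G.Adj b a.1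
  have hdeg : ∀ x, (univ.filter fun z => G.Adj x z).card = 22 := fun x => by
    have := cc x x; simpa using this
  have hα : Fintype.card {x // G.Adj v x} = 22 := by rw [Fintype.card_subtype]; exact hdeg v
  have hM : ∀ x, x ∈ M ↔ x ≠ v ∧ ¬ G.Adj v x := fun x => by simp [M]
  have hnoN : ∀ a x, G.Adj v a → G.Adj a x → ¬ G.Adj v x := by
    intro a x ha hx hv
    have h := cc v a
    rw [if_neg (G.ne_of_adj ha), if_pos ha, Finset.card_eq_zero, filter_eq_empty_iff] at h
    exact h (mem_univ x) ⟨hv, hx⟩
  have hblk : ∀ b ∈ M, (blk b).card = 6 := by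
    intro b hb
    obtain ⟨hb1, hb2⟩ := (hM b).1 hb
    have h := cc v b
    rw [if_neg (Ne.symm hb1), if_neg hb2] at h
    rw [← h]
    refine card_nbij (fun a => a.1) (fun a ha => ?_) (fun a _ a' _ e => Subtype.ext e) (fun z hz => ?_)
    · simp only [blk, mem_coe, mem_filter, mem_univ, true_and] at ha ⊢
      exact ⟨a.2, ha⟩
    · simp only [mem_coe, mem_filter, mem_univ, true_and] at hz
      exact ⟨⟨z, hz.1⟩, by simp [blk, hz.2], rfl⟩
  have hMN : ∀ a : {x // G.Adj v x}, ∀ c, G.Adj c a.1 → c = v ∨ c ∈ M := by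
    intro a c hc
    by_cases e : c = v
    · exact Or.inl e
    · exact Or.inr ((hM c).2 ⟨e, hnoN a.1 c a.2 hc.symm⟩)
  have meet : ∀ b ∈ M, ∀ c ∈ M, c ≠ b → (¬ G.Adj b c → (blk b ∩ blk c).card = 2) ∧
      (G.Adj b c → Disjoint (blk b) (blk c)) := by
    intro b hb
    obtain ⟨hb1, hb2⟩ := (hM b).1 hb
    set R := M.erase b with hR
    have hM77 : M.card = 77 := by
      have h := card_filter_add_card_filter_not (s := (univ : Finset V).erase v) (fun x => G.Adj v x)
      rw [card_erase_of_mem (mem_univ v), card_univ, hG.card] at h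
      have e1 : ((univ : Finset V).erase v).filter (fun x => G.Adj v x) = univ.filter fun x => G.Adj v x := by
        ext x
        simp only [mem_filter, mem_erase, mem_univ, true_and, and_true]
        exact ⟨And.right, fun h => ⟨fun e => G.ne_of_adj h e.symm, h⟩⟩
      have e2 : ((univ : Finset V).erase v).filter (fun x => ¬ G.Adj v x) = M := by
        ext x; simp [hM]
      rw [e1, e2, hdeg v] at h
      omega
    have s1 : ∀ a ∈ blk b, (R.filter fun c => G.Adj c a.1).card = 20 := by
      intro a ha
      simp only [blk, mem_filter, mem_univ, true_and] at ha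
      have e : R.filter (fun c => G.Adj c a.1) = ((univ.filter fun z => G.Adj a.1 z).erase v).erase b := by
        ext c
        simp only [hR, mem_filter, mem_erase, mem_univ, true_and]
        constructor
        · rintro ⟨⟨h1, h2⟩, h3⟩; exact ⟨h1, ((hM c).1 h2).1, h3.symm⟩
        · rintro ⟨h1, h2, h3⟩; exact ⟨⟨h1, ((hMN a c h3.symm).resolve_left h2)⟩, h3.symm⟩
      rw [e, card_erase_of_mem (by simp [hb1, ha.symm]), card_erase_of_mem (by simp [a.2.symm]), hdeg]
    have s2 : ∀ a ∈ blk b, ∀ a' ∈ blk b, a ≠ a' →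
        (R.filter fun c => G.Adj c a.1 ∧ G.Adj c a'.1).card = 4 := by
      intro a ha a' ha' hne
      simp only [blk, mem_filter, mem_univ, true_and] at ha ha'
      have hna : ¬ G.Adj a.1 a'.1 := fun h => hnoN a.1 a'.1 a.2 h a'.2
      have e : R.filter (fun c => G.Adj c a.1 ∧ G.Adj c a'.1) =
          ((univ.filter fun z => G.Adj a.1 z ∧ G.Adj a'.1 z).erase v).erase b := by
        ext c
        simp only [hR, mem_filter, mem_erase, mem_univ, true_and]
        constructor
        · rintro ⟨⟨h1, h2⟩, h3, h4⟩; exact ⟨h1, ((hM c).1 h2).1, h3.symm, h4.symm⟩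
        · rintro ⟨h1, h2, h3, h4⟩; exact ⟨⟨h1, ((hMN a c h3.symm).resolve_left h2)⟩, h3.symm, h4.symm⟩
      rw [e, card_erase_of_mem (by simp [hb1, ha.symm, ha'.symm]),
        card_erase_of_mem (by simp [a.2.symm, a'.2.symm]), cc, if_neg (fun e => hne (Subtype.ext e)), if_neg hna]
    have hm : ∀ c, (blk b ∩ blk c).card = ((blk b).filter fun a => G.Adj c a.1).card := fun c => by
      refine congrArg Finset.card ?_
      ext a; simp [blk]
    have S1 : ∑ c ∈ R, ((blk b ∩ blk c).card : ℤ) = 120 := by
      have : ∑ c ∈ R, ((blk b).filter fun a => G.Adj c a.1).card =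
          ∑ a ∈ blk b, (R.filter fun c => G.Adj c a.1).card :=
        sum_card_bipartiteAbove_eq_sum_card_bipartiteBelow _
      rw [sum_congr rfl s1, sum_const, hblk b hb] at this
      simp only [hm]
      exact_mod_cast this
    have S2 : ∑ c ∈ R, ((blk b ∩ blk c).card : ℤ) ^ 2 = 240 := by
      have : ∑ c ∈ R, ((blk b ×ˢ blk b).filter fun q => G.Adj c q.1.1 ∧ G.Adj c q.2.1).card =
          ∑ q ∈ blk b ×ˢ blk b, (R.filter fun c => G.Adj c q.1.1 ∧ G.Adj c q.2.1).card :=
        sum_card_bipartiteAbove_eq_sum_card_bipartiteBelow _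
      have h40 : ∀ a ∈ blk b, ∑ a' ∈ blk b, (R.filter fun c => G.Adj c a.1 ∧ G.Adj c a'.1).card = 40 := by
        intro a ha
        rw [← add_sum_erase _ _ ha, sum_congr rfl (g := fun _ => 4) fun a' ha' => ?_, sum_const,
          card_erase_of_mem ha, hblk b hb]
        · simp only [and_self, s1 a ha]; rfl
        · rw [mem_erase] at ha'
          exact s2 a ha a' ha'.2 (Ne.symm ha'.1)
      have e240 : ∑ q ∈ blk b ×ˢ blk b, (R.filter fun c => G.Adj c q.1.1 ∧ G.Adj c q.2.1).card = 240 := by
        rw [sum_product, sum_congr rfl h40, sum_const, hblk b hb]; rfl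
      rw [e240] at this
      have h2 : ∀ c, (blk b ∩ blk c).card ^ 2 =
          ((blk b ×ˢ blk b).filter fun q => G.Adj c q.1.1 ∧ G.Adj c q.2.1).card := fun c => by
        rw [hm, sq, ← card_product]
        refine congrArg Finset.card ?_
        ext q; simp only [mem_product, mem_filter]; tauto
      simp only [← h2] at this
      exact_mod_cast this
    have hdisj : ∀ c, G.Adj b c → Disjoint (blk b) (blk c) := by
      intro c hc
      rw [disjoint_left]
      intro a h1 h2
      simp only [blk, mem_filter, mem_univ, true_and] at h1 h2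
      have h := cc b c
      rw [if_neg (G.ne_of_adj hc), if_pos hc, Finset.card_eq_zero, filter_eq_empty_iff] at h
      exact h (mem_univ a.1) ⟨h1, h2⟩
    have hadj : (R.filter fun c => G.Adj b c).card = 16 := by
      have h := card_filter_add_card_filter_not (s := univ.filter fun z => G.Adj b z) (fun x => G.Adj v x)
      rw [filter_filter, filter_filter, hdeg b] at h
      have e1 : (univ.filter fun z => G.Adj b z ∧ G.Adj v z).card = 6 := by
        rw [cc, if_neg hb1, if_neg (fun e => hb2 e.symm)]
      have e2 : R.filter (fun c => G.Adj b c) = univ.filter fun z => G.Adj b z ∧ ¬ G.Adj v z := by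
        ext c
        simp only [hR, mem_filter, mem_erase, mem_univ, true_and, hM]
        exact ⟨fun h => ⟨h.2, h.1.2.2⟩, fun h => ⟨⟨fun e => G.ne_of_adj h.1 e.symm,
          fun e => hb2 (e ▸ h.1).symm, h.2⟩, h.1⟩⟩
      rw [e2]; omega
    have hnon : (R.filter fun c => ¬ G.Adj b c).card = 60 := by
      have h := card_filter_add_card_filter_not (s := R) (fun c => G.Adj b c)
      rw [hadj, show R.card = 76 by rw [hR, card_erase_of_mem hb, hM77]] at h
      omega
    have h0 : ∀ c ∈ R, c ∉ R.filter (fun c => ¬ G.Adj b c) → ((blk b ∩ blk c).card : ℤ) = 0 := by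
      intro c hc hc'
      rw [mem_filter, not_and, not_not] at hc'
      rw [Nat.cast_eq_zero, Finset.card_eq_zero, ← disjoint_iff_inter_eq_empty]
      exact hdisj c (hc' hc)
    rw [← sum_subset (filter_subset (fun c => ¬ G.Adj b c) R) h0] at S1
    rw [← sum_subset (filter_subset (fun c => ¬ G.Adj b c) R) fun c hc hc' => by rw [h0 c hc hc']; rfl] at S2
    have hz : ∑ c ∈ R.filter (fun c => ¬ G.Adj b c), (((blk b ∩ blk c).card : ℤ) - 2) ^ 2 = 0 := by
      simp only [sub_sq, sum_add_distrib, sum_sub_distrib, ← sum_mul, ← mul_sum, sum_const, nsmul_eq_mul]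
      rw [S1, S2, hnon]; norm_num
    intro c hc hne
    refine ⟨fun hnadj => ?_, hdisj c⟩
    have := (sum_eq_zero_iff_of_nonneg fun c _ => sq_nonneg _).1 hz c
      (mem_filter.2 ⟨mem_erase.2 ⟨hne, hc⟩, hnadj⟩)
    have := eq_zero_of_pow_eq_zero this
    omega
  have inj : ∀ b ∈ M, ∀ c ∈ M, ∀ s : Finset {x // G.Adj v x}, s.card = 3 → s ⊆ blk b → s ⊆ blk c → b = c := by
    intro b hb c hc s hs h1 h2
    by_contra hne
    obtain ⟨m1, m2⟩ := meet b hb c hc (Ne.symm hne)
    have h3 : 3 ≤ (blk b ∩ blk c).card := hs ▸ card_le_card (subset_inter h1 h2)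
    by_cases h : G.Adj b c
    · rw [disjoint_iff_inter_eq_empty.1 (m2 h)] at h3; simp at h3
    · rw [m1 h] at h3; omega
  have hM77' : M.card = 77 := by
    have h := card_filter_add_card_filter_not (s := (univ : Finset V)) (fun x => G.Adj v x)
    rw [hdeg v, card_univ, hG.card] at h
    have e : (univ.filter fun x => ¬ G.Adj v x).erase v = M := by ext x; simp [hM, and_comm]
    rw [← e, card_erase_of_mem (by simp)]
    omega
  have hB : IsSteinerSystem 3 6 ((fun b => blk b) '' (M : Set V)) := by
    refine ⟨?_, fun s hs => ?_⟩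
    · rintro _ ⟨b, hb, rfl⟩; exact hblk b hb
    have him : (M.sigma fun b => (blk b).powersetCard 3).image (fun q => q.2) =
        (univ : Finset {x // G.Adj v x}).powersetCard 3 := by
      refine eq_of_subset_of_card_le (fun t ht => ?_) ?_
      · obtain ⟨q, hq, rfl⟩ := mem_image.1 ht
        rw [mem_sigma, mem_powersetCard] at hq
        rw [mem_powersetCard]
        exact ⟨subset_univ _, hq.2.2⟩
      · rw [card_image_of_injOn, card_sigma, sum_congr rfl (g := fun _ => 20) fun b hb => by
          rw [card_powersetCard, hblk b hb]; rfl, sum_const, hM77', card_powersetCard, card_univ, hα]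
        · rfl
        · rintro ⟨b, t⟩ hq ⟨b', t'⟩ hq' e
          rw [mem_coe, mem_sigma, mem_powersetCard] at hq hq'
          simp only at e hq hq'
          subst e
          rw [inj b hq.1 b' hq'.1 t hq.2.2 hq.2.1 hq'.2.1]
    have hs' : s ∈ (univ : Finset {x // G.Adj v x}).powersetCard 3 := by
      rw [mem_powersetCard]; exact ⟨subset_univ _, hs⟩
    rw [← him, mem_image] at hs'
    obtain ⟨⟨b, t⟩, hq, rfl⟩ := hs'
    rw [mem_sigma, mem_powersetCard] at hq
    refine ⟨blk b, ⟨⟨b, hq.1, rfl⟩, hq.2.1⟩, ?_⟩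
    rintro _ ⟨⟨c, hc, rfl⟩, hsub⟩
    rw [inj c hc b hq.1 t hs hsub hq.2.1]
  set B := (fun b => blk b) '' (M : Set V) with hBdef
  let φ : V → Option ({x // G.Adj v x} ⊕ B) := fun x =>
    if h : x = v then none else if h' : G.Adj v x then some (Sum.inl ⟨x, h'⟩)
      else some (Sum.inr ⟨blk x, ⟨x, (hM x).2 ⟨h, h'⟩, rfl⟩⟩)
  have blk_inj : ∀ b ∈ M, ∀ c ∈ M, blk b = blk c → b = c := by
    intro b hb c hc e
    obtain ⟨s, hs, hs3⟩ := exists_subset_card_eq (show 3 ≤ (blk b).card by rw [hblk b hb]; norm_num)
    exact inj b hb c hc s hs3 hs (e ▸ hs)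
  have hφ : Function.Bijective φ := by
    constructor
    · intro x y e
      simp only [φ] at e
      split_ifs at e with a1 a2 a3 a4 a5 a6 <;>
        simp only [Option.some.injEq, Sum.inl.injEq, Sum.inr.injEq, Subtype.mk.injEq, reduceCtorEq] at e <;>
        first
          | exact a1.trans a2.symm
          | exact e
          | exact blk_inj x ((hM x).2 ⟨by assumption, by assumption⟩) y ((hM y).2 ⟨by assumption, by assumption⟩) (congrArg Subtype.val e)
          | exact blk_inj x ((hM x).2 ⟨by assumption, by assumption⟩) y ((hM y).2 ⟨by assumption, by assumption⟩) e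
    · rintro (_ | a | ⟨_, b, hb, rfl⟩)
      · exact ⟨v, by simp [φ]⟩
      · refine ⟨a.1, ?_⟩
        simp only [φ]
        rw [dif_neg (G.ne_of_adj a.2).symm, dif_pos a.2]
      · refine ⟨b, ?_⟩
        obtain ⟨h1, h2⟩ := (hM b).1 hb
        simp only [φ]
        rw [dif_neg h1, dif_neg h2]
  obtain ⟨f⟩ := HSGraph.exists_iso hα hB
  refine ⟨SimpleGraph.Iso.comp f
    { toEquiv := Equiv.ofBijective φ hφ
      map_rel_iff' := fun {x y} => ?_ }⟩
  show (pointBlockGraph B).Adj (φ x) (φ y) ↔ G.Adj x y
  by_cases hxy : x = y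
  · subst hxy; simp
  have hne : φ x ≠ φ y := fun e => hxy (hφ.1 e)
  rw [pointBlockGraph, SimpleGraph.fromRel_adj]
  simp only [hne, ne_eq, not_false_eq_true, true_and]
  by_cases xv : x = v
  · subst xv
    have hy : φ y = if h' : G.Adj x y then some (Sum.inl ⟨y, h'⟩)
        else some (Sum.inr ⟨blk y, ⟨y, (hM y).2 ⟨Ne.symm hxy, h'⟩, rfl⟩⟩) := by
      simp only [φ]; rw [dif_neg (Ne.symm hxy)]
    rw [show φ x = none by simp [φ], hy]
    split_ifs with h <;> simp [pointBlockRel, h]
  by_cases yv : y = v
  · subst yv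
    rw [show φ y = none by simp [φ]]
    simp only [φ]
    rw [dif_neg xv]
    split_ifs with h
    · simp [pointBlockRel, h.symm]
    · simp [pointBlockRel, show ¬ G.Adj x y from fun e => h e.symm]
  simp only [φ]
  rw [dif_neg xv, dif_neg yv]
  by_cases hx : G.Adj v x <;> by_cases hy : G.Adj v y
  · simp only [dif_pos hx, dif_pos hy, pointBlockRel, or_self, false_iff]
    exact fun e => hnoN x y hx e hy
  · simp [dif_pos hx, dif_neg hy, pointBlockRel, blk, SimpleGraph.adj_comm G y x]
  · simp [dif_neg hx, dif_pos hy, pointBlockRel, blk]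
  · simp only [dif_neg hx, dif_neg hy, pointBlockRel]
    obtain ⟨m1, m2⟩ := meet x ((hM x).2 ⟨xv, hx⟩) y ((hM y).2 ⟨yv, hy⟩) (Ne.symm hxy)
    constructor
    · intro h
      by_contra hn
      have h' := m1 hn
      rcases h with h | h
      · rw [disjoint_iff_inter_eq_empty.1 h] at h'; simp at h'
      · rw [disjoint_iff_inter_eq_empty.1 h.symm] at h'; simp at h'
    · exact fun h => Or.inl (m2 h)

end Cfsg.Agent.LeechAut.HSUnique
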