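import Cfsg.Agent.Lib.LeechAut.Co3Forms

/-!
The four nontrivial orbits of the Higman–Sims group on the 11178 vectors at inner product 16 with the
fixed vector of squared length 48.
-/

set_option autoImplicit false
set_option maxRecDepth 10000

namespace Cfsg.Agent.LeechAut.Co3Orbits

open Cfsg Cfsg.Agent.Golay.Basic Cfsg.Agent.Golay.Design Cfsg.Agent.Leech.Basic Cfsg.Agent.Leech.Index
  Cfsg.Agent.LeechAut.Gens Cfsg.Agent.LeechAut.Basic
  Cfsg.Agent.LeechAut.Shells Cfsg.Agent.LeechAut.Cross Cfsg.Agent.LeechAut.Pairs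
  Cfsg.Agent.LeechAut.Triples Cfsg.Agent.LeechAut.Moments Cfsg.Agent.LeechAut.Census
  Cfsg.Agent.LeechAut.HS Cfsg.Agent.LeechAut.Co3Moments Cfsg.Agent.LeechAut.Co3Forms Finset
open scoped Pointwise

/-- Members with prescribed inner products with `v0` and `w0`. -/
def Cls (d k : ℤ) (y : leechLattice) : Prop :=
  InB y ∧ dotInt (v0 : Vec) (y : Vec) = d ∧ dotInt (w0 : Vec) (y : Vec) = k

/-- A class of the fixed vector's neighbours. -/
def InD (d : ℤ) (y : leechLattice) : Prop := InB y ∧ dotInt (v0 : Vec) (y : Vec) = d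

theorem inD_smul {g : Co0} (hg : g ∈ HS.G) {d : ℤ} {y : leechLattice} (hy : InD d y) : InD d (g • y) := by
  obtain ⟨h1, h2⟩ := HS.mem_G.1 hg
  obtain ⟨⟨hn, hu⟩, hv⟩ := hy
  refine ⟨⟨(sqNorm_smul g y).trans hn, ?_⟩, ?_⟩
  · rw [← h2, dot_smul]; exact hu
  · rw [← h1, dot_smul]; exact hv

theorem cls_smul {g : Co0} (hg : g ∈ HS.S) {d k : ℤ} {y : leechLattice} (hy : Cls d k y) :
    Cls d k (g • y) := by
  obtain ⟨hG, hw⟩ := HS.mem_S.1 hg
  obtain ⟨hB, hd⟩ := inD_smul hG ⟨hy.1, hy.2.1⟩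
  refine ⟨hB, hd, ?_⟩
  rw [← hw, dot_smul]; exact hy.2.2

/-- The octads with the given behaviour at the two fixed points. -/
noncomputable def octsAt (near : Bool) : Finset (Finset GolayPt) :=
  (Set.toFinite {o : Finset GolayPt | o ∈ octads ∧ (none ∈ o ↔ near = true) ∧ pt 0 ∈ o}).toFinset

theorem mem_octsAt {near : Bool} {o : Finset GolayPt} :
    o ∈ octsAt near ↔ o ∈ octads ∧ (none ∈ o ↔ near = true) ∧ pt 0 ∈ o := Set.Finite.mem_toFinset _

theorem card_octsAt (near : Bool) : (octsAt near).card = if near then 77 else 176 := by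
  rw [octsAt, ← Set.ncard_eq_toFinset_card]
  cases near
  · exact ncard_code_filter' (fun m => pc m == 8 && (!m.testBit 23 && m.testBit 0)) _ (fun s => by
      have e1 : (mask s).testBit 23 = decide (none ∈ s) := testBit_mask s none
      have e2 : (mask s).testBit 0 = decide (pt 0 ∈ s) := testBit_mask s (pt 0)
      simp [mem_octads_iff, card_eq_pc, e1, e2, and_assoc]) _ (by decide +kernel)
  · exact ncard_code_filter' (fun m => pc m == 8 && (m.testBit 23 && m.testBit 0)) _ (fun s => by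
      have e1 : (mask s).testBit 23 = decide (none ∈ s) := testBit_mask s none
      have e2 : (mask s).testBit 0 = decide (pt 0 ∈ s) := testBit_mask s (pt 0)
      simp [mem_octads_iff, card_eq_pc, e1, e2, and_assoc]) _ (by decide +kernel)

/-- The descriptions. -/
noncomputable def params (near : Bool) (n : ℕ) : Finset ((_ : Finset GolayPt) × Finset GolayPt) :=
  (octsAt near).sigma fun o => (base o).powersetCard n

theorem mem_params {near : Bool} {n : ℕ} {q : (_ : Finset GolayPt) × Finset GolayPt} :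
    q ∈ params near n ↔
      (q.1 ∈ octads ∧ (none ∈ q.1 ↔ near = true) ∧ pt 0 ∈ q.1) ∧ q.2 ⊆ base q.1 ∧ q.2.card = n := by
  rw [params, mem_sigma, mem_octsAt, mem_powersetCard]

theorem card_base {near : Bool} {o : Finset GolayPt}
    (h : o ∈ octads ∧ (none ∈ o ↔ near = true) ∧ pt 0 ∈ o) :
    (base o).card = if near then 6 else 7 := by
  obtain ⟨ho, hn, h0⟩ := h
  rw [base, card_erase_of_mem (mem_erase.2 ⟨pt0_ne_none, h0⟩)]
  cases near
  · rw [erase_eq_of_notMem (by rw [hn]; simp), octad_card ho]; rfl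
  · rw [card_erase_of_mem (hn.2 rfl), octad_card ho]; rfl

theorem card_params (near : Bool) (n : ℕ) :
    (params near n).card = (if near then 77 else 176) * (if near then 6 else 7 : ℕ).choose n := by
  rw [params, card_sigma, sum_congr rfl fun o ho => by rw [card_powersetCard, card_base (mem_octsAt.1 ho)],
    sum_const, card_octsAt, smul_eq_mul]

theorem move_params {near : Bool} {n : ℕ} (hn : n ≤ 2) (hfar : near = false → n ≤ 1)
    {q q' : (_ : Finset GolayPt) × Finset GolayPt} (hq : q ∈ params near n) (hq' : q' ∈ params near n) :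
    ∃ σ ∈ HS.M22s, ((σ : M24) : Equiv.Perm GolayPt) • q.1 = q'.1 ∧
      ((σ : M24) : Equiv.Perm GolayPt) • q.2 = q'.2 := by
  classical
  obtain ⟨⟨ho, hon, h0⟩, hD, hc⟩ := mem_params.1 hq
  obtain ⟨⟨ho', hon', h0'⟩, hD', hc'⟩ := mem_params.1 hq'
  have inbase : ∀ {o : Finset GolayPt} {p}, p ∈ base o → p ≠ pt 0 ∧ p ≠ none ∧ p ∈ o := fun hp => by
    rw [base, mem_erase, mem_erase] at hp; exact hp
  cases near
  · have hno : none ∉ q.1 := by rw [hon]; simp
    have hno' : none ∉ q'.1 := by rw [hon']; simp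
    obtain ⟨k, hk, hkD⟩ : ∃ k ∈ base q.1, q.2 = if n = 0 then ∅ else {k} := by
      rcases Nat.le_one_iff_eq_zero_or_eq_one.1 (hfar rfl) with rfl | rfl
      · obtain ⟨k, hk⟩ : (base q.1).Nonempty :=
          card_pos.1 (by rw [card_base (near := false) ⟨ho, hon, h0⟩]; norm_num)
        exact ⟨k, hk, by rw [if_pos rfl]; exact Finset.card_eq_zero.1 hc⟩
      · obtain ⟨k, hk⟩ := Finset.card_eq_one.1 hc
        exact ⟨k, hD (hk ▸ mem_singleton_self k), by rw [if_neg one_ne_zero]; exact hk⟩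
    obtain ⟨k', hk', hkD'⟩ : ∃ k ∈ base q'.1, q'.2 = if n = 0 then ∅ else {k} := by
      rcases Nat.le_one_iff_eq_zero_or_eq_one.1 (hfar rfl) with rfl | rfl
      · obtain ⟨k, hk⟩ : (base q'.1).Nonempty :=
          card_pos.1 (by rw [card_base (near := false) ⟨ho', hon', h0'⟩]; norm_num)
        exact ⟨k, hk, by rw [if_pos rfl]; exact Finset.card_eq_zero.1 hc'⟩
      · obtain ⟨k, hk⟩ := Finset.card_eq_one.1 hc'
        exact ⟨k, hD' (hk ▸ mem_singleton_self k), by rw [if_neg one_ne_zero]; exact hk⟩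
    obtain ⟨σ, hσ, e, ek⟩ := McL.exists_mid_pair ho hno h0 (inbase hk).2.2 (inbase hk).1 ho' hno' h0'
      (inbase hk').2.2 (inbase hk').1
    refine ⟨σ, HS.mem_M22s.2 (McL.mem_M22s.1 hσ), e, ?_⟩
    rw [hkD, hkD']
    split_ifs
    · exact Finset.smul_finset_empty _
    · rw [Finset.smul_finset_singleton, Equiv.Perm.smul_def, ek]
  · have hno : none ∈ q.1 := hon.2 rfl
    have hno' : none ∈ q'.1 := hon'.2 rfl
    have hnd : ∀ {o D : Finset GolayPt}, D ⊆ base o → (none :: pt 0 :: D.toList).Nodup := fun hs => by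
      simp only [List.nodup_cons, List.mem_cons, mem_toList, not_or]
      exact ⟨⟨pt0_ne_none.symm, fun h => (inbase (hs h)).2.1 rfl⟩, fun h => (inbase (hs h)).1 rfl,
        Finset.nodup_toList _⟩
    obtain ⟨a, ha, hao, hal⟩ := McL.exists_octad_pair ho ho' (none :: pt 0 :: q.2.toList)
      (none :: pt 0 :: q'.2.toList) (hnd hD) (hnd hD') (by simp; omega) (by simp [hc, hc'])
      (by
        intro x hx
        simp only [List.mem_cons, mem_toList] at hx
        rcases hx with rfl | rfl | h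
        exacts [hno, h0, (inbase (hD h)).2.2])
      (by
        intro x hx
        simp only [List.mem_cons, mem_toList] at hx
        rcases hx with rfl | rfl | h
        exacts [hno', h0', (inbase (hD' h)).2.2])
    refine ⟨⟨a, ha⟩, HS.mem_M22s.2 ⟨hal 0 (by simp), hal 1 (by simp)⟩, hao, ?_⟩
    refine eq_of_subset_of_card_le (fun p hp => ?_) (by rw [card_smul_finset, hc, hc'])
    obtain ⟨x, hx, rfl⟩ := Finset.mem_smul_finset.1 hp
    obtain ⟨i, hi, e⟩ := List.getElem_of_mem (mem_toList.2 hx)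
    have h := hal (i + 2) (by simp at hi ⊢; omega)
    simp only [List.getD_cons_succ] at h
    rw [List.getD_eq_getElem _ _ hi, e, List.getD_eq_getElem _ _ (by simp [hc, hc'] at hi ⊢; exact hi)] at h
    show a x ∈ q'.2
    rw [h]
    exact mem_toList.1 (List.getElem_mem _)

/-- Everything about one class follows from a description of its normal forms. -/
theorem normal_facts {d k a b c e r : ℤ} {near : Bool} {n : ℕ} (hn : n ≤ 2) (hfar : near = false → n ≤ 1)
    (hce : c ≠ e) (hcr : c ≠ r) (her : e ≠ r)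
    (hcls : ∀ y, Cls d k y → ∃ q ∈ params near n, Form a b c e r q.1 q.2 y)
    {seed : leechLattice} (hseed : Cls d k seed) :
    (∀ y y', Cls d k y → Cls d k y' → ∃ g ∈ HS.S, g • y = y') ∧
      {y : leechLattice | Cls d k y}.ncard = (params near n).card := by
  classical
  have hmove : ∀ y, Cls d k y → ∀ q' ∈ params near n, ∃ g ∈ HS.S, Form a b c e r q'.1 q'.2 (g • y) := by
    intro y hy q' hq'
    obtain ⟨q, hq, hf⟩ := hcls y hy
    obtain ⟨σ, hσ, e1, e2⟩ := move_params hn hfar hq hq'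
    obtain ⟨g, hg, habs⟩ := exists_lift σ hσ
    have := form_move hg hσ habs hf
    rw [e1, e2] at this
    exact ⟨g, hg, this⟩
  refine ⟨fun y y' hy hy' => ?_, ?_⟩
  · obtain ⟨q', hq', hf'⟩ := hcls y' hy'
    obtain ⟨g, hg, hf⟩ := hmove y hy q' hq'
    exact ⟨g, hg, form_ext hf hf'⟩
  · have hex : ∀ q ∈ params near n, ∃ y, Cls d k y ∧ Form a b c e r q.1 q.2 y := fun q hq => by
      obtain ⟨g, hg, hf⟩ := hmove seed hseed q hq
      exact ⟨_, cls_smul hg hseed, hf⟩
    rw [← Set.ncard_coe_finset (params near n)]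
    refine (Set.ncard_congr (fun q hq => (hex q (mem_coe.1 hq)).choose) ?_ ?_ ?_).symm
    · exact fun q hq => (hex q (mem_coe.1 hq)).choose_spec.1
    · intro q q' hq hq' eq'
      have h := (hex q (mem_coe.1 hq)).choose_spec.2
      have h' := (hex q' (mem_coe.1 hq')).choose_spec.2
      rw [eq'] at h
      obtain ⟨⟨-, hn1, h01⟩, hD, -⟩ := mem_params.1 (mem_coe.1 hq)
      obtain ⟨⟨-, hn2, h02⟩, hD', -⟩ := mem_params.1 (mem_coe.1 hq')
      obtain ⟨a1, a2⟩ := form_param hce hcr her h h' (hn1.trans hn2.symm) (iff_of_true h01 h02) hD hD'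
      obtain ⟨o1, D1⟩ := q
      obtain ⟨o2, D2⟩ := q'
      simp only at a1 a2
      rw [a1, a2]
    · intro y hy
      obtain ⟨q, hq, hf⟩ := hcls y hy
      exact ⟨q, mem_coe.2 hq, form_ext (hex q hq).choose_spec.2 hf⟩

/-- One orbit. -/
theorem class_facts {d k : ℤ} {N nk M : ℕ} (hnum : ∀ y, InD d y → num y k = nk) (hnk : nk ≠ 0)
    (htrans : ∀ y y', Cls d k y → Cls d k y' → ∃ g ∈ HS.S, g • y = y')
    (hN : {y : leechLattice | Cls d k y}.ncard = N) (hM : M * nk = 100 * N) (hM0 : M ≠ 0) :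
    {y : leechLattice | InD d y}.ncard = M ∧
      ∃ y0, InD d y0 ∧ ∀ y, InD d y ↔ y ∈ MulAction.orbit HS.G y0 := by
  classical
  have to_normal : ∀ y, InD d y → ∃ g ∈ HS.G, Cls d k (g • y) := by
    intro y hy
    obtain ⟨z, hz⟩ : (Yf.filter fun z : leechLattice => dotInt (y : Vec) (z : Vec) = k).Nonempty :=
      card_pos.1 (show 0 < num y k by rw [hnum y hy]; omega)
    rw [mem_filter] at hz
    obtain ⟨g, hg, e⟩ := G_transitive (mem_Yf.1 hz.1) w0_inY
    obtain ⟨hB, hd⟩ := inD_smul hg hy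
    refine ⟨g, hg, hB, hd, ?_⟩
    rw [← e, dot_smul, dot_comm]; exact hz.2
  set T : Finset leechLattice :=
    short.filter fun y : leechLattice => dotInt (u5 : Vec) (y : Vec) = 16 ∧ dotInt (v0 : Vec) (y : Vec) = d with hT
  have hTm : ∀ y, y ∈ T ↔ InD d y := fun y => by
    rw [hT, mem_filter, mem_short]
    exact ⟨fun h => ⟨⟨h.1, h.2.1⟩, h.2.2⟩, fun h => ⟨h.1.1, h.1.2, h.2⟩⟩
  have h := card_mul_eq_card_mul (fun (z : leechLattice) (y : leechLattice) => dotInt (y : Vec) (z : Vec) = k)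
    (s := Yf) (t := T) (m := N) (n := nk) ?_ ?_
  · rw [card_Yf, ← hM] at h
    have hTM : T.card = M := Nat.eq_of_mul_eq_mul_right (Nat.pos_of_ne_zero hnk) h.symm
    refine ⟨?_, ?_⟩
    · rw [← hTM, ← Set.ncard_coe_finset]
      exact congrArg Set.ncard (Set.ext fun y => by rw [mem_coe, hTm]; rfl)
    · obtain ⟨y0, hy0⟩ : T.Nonempty := card_pos.1 (by omega)
      refine ⟨y0, (hTm _).1 hy0, fun y => ⟨fun hy => ?_, ?_⟩⟩
      · obtain ⟨g, hg, hc⟩ := to_normal y0 ((hTm _).1 hy0)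
        obtain ⟨g', hg', hc'⟩ := to_normal y hy
        obtain ⟨s, hs, e⟩ := htrans _ _ hc hc'
        refine ⟨⟨g'⁻¹ * s * g, HS.G.mul_mem (HS.G.mul_mem (HS.G.inv_mem hg') (HS.S_le_G hs)) hg⟩, ?_⟩
        show (g'⁻¹ * s * g) • y0 = y
        rw [mul_smul, mul_smul, e, inv_smul_smul]
      · rintro ⟨g, rfl⟩
        exact inD_smul g.2 ((hTm _).1 hy0)
  · intro z hz
    obtain ⟨g, hg, e⟩ := G_transitive (mem_Yf.1 hz) w0_inY
    rw [← hN, ← Set.ncard_coe_finset, ← Set.ncard_image_of_injective _ (MulAction.injective g)]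
    refine congrArg Set.ncard (Set.ext fun u => ?_)
    constructor
    · rintro ⟨y, hy, rfl⟩
      rw [mem_coe, mem_bipartiteAbove, hTm] at hy
      obtain ⟨hB, hd⟩ := inD_smul hg hy.1
      refine ⟨hB, hd, ?_⟩
      rw [← e, dot_smul, dot_comm]; exact hy.2
    · rintro ⟨hB, hd, hk⟩
      refine ⟨g⁻¹ • u, ?_, smul_inv_smul g u⟩
      rw [mem_coe, mem_bipartiteAbove, hTm]
      refine ⟨inD_smul (HS.G.inv_mem hg) ⟨hB, hd⟩, ?_⟩
      rw [← dot_smul g, smul_inv_smul, e, dot_comm]; exact hk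
  · intro y hy
    rw [← hnum y ((hTm y).1 hy)]
    rfl

theorem num_val {d : ℤ} {y : leechLattice} (hy : InD d y) :
    num y 0 + num y 8 + num y 16 = 100 ∧ 8 * (num y 8 : ℤ) + 16 * (num y 16 : ℤ) = 960 - 30 * d ∧
      64 * (num y 8 : ℤ) + 256 * (num y 16 : ℤ) = 11264 + 6 * d ^ 2 - 544 * d := by
  have h := num_eqs hy.1
  rw [hy.2] at h
  exact h

/-- A representative from a description. -/
def seedVec (a b c e r : ℤ) (o D : Finset GolayPt) : Vec :=
  fun p => if p = none then a else coef b c e r o D p * five p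

/-- The four representatives. -/
def seedA : leechLattice := ⟨seedVec 1 3 7 (-1) 1 (maskSet 5279) ∅, mem_of_inLat (by decide +kernel)⟩
/-- The four representatives. -/
def seedB : leechLattice := ⟨seedVec 1 (-1) 3 (-1) 1 (maskSet 5279) {pt 1}, mem_of_inLat (by decide +kernel)⟩
/-- The four representatives. -/
def seedC : leechLattice :=
  ⟨seedVec 2 2 (-2) 2 0 (maskSet 8391797) {pt 4, pt 10}, mem_of_inLat (by decide +kernel)⟩
/-- The four representatives. -/
def seedD : leechLattice := ⟨seedVec 2 (-2) (-2) 2 0 (maskSet 8391797) {pt 10}, mem_of_inLat (by decide +kernel)⟩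

theorem seeds_ok : Cls (-8) 16 seedA ∧ Cls 8 0 seedB ∧ Cls 0 16 seedC ∧ Cls 16 0 seedD := by
  show ((sqNorm (seedVec 1 3 7 (-1) 1 (maskSet 5279) ∅) = 32 ∧
      dotInt five (seedVec 1 3 7 (-1) 1 (maskSet 5279) ∅) = 16) ∧
      dotInt stdVec (seedVec 1 3 7 (-1) 1 (maskSet 5279) ∅) = -8 ∧
      dotInt orthVec (seedVec 1 3 7 (-1) 1 (maskSet 5279) ∅) = 16) ∧
    ((sqNorm (seedVec 1 (-1) 3 (-1) 1 (maskSet 5279) {pt 1}) = 32 ∧
      dotInt five (seedVec 1 (-1) 3 (-1) 1 (maskSet 5279) {pt 1}) = 16) ∧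
      dotInt stdVec (seedVec 1 (-1) 3 (-1) 1 (maskSet 5279) {pt 1}) = 8 ∧
      dotInt orthVec (seedVec 1 (-1) 3 (-1) 1 (maskSet 5279) {pt 1}) = 0) ∧
    ((sqNorm (seedVec 2 2 (-2) 2 0 (maskSet 8391797) {pt 4, pt 10}) = 32 ∧
      dotInt five (seedVec 2 2 (-2) 2 0 (maskSet 8391797) {pt 4, pt 10}) = 16) ∧
      dotInt stdVec (seedVec 2 2 (-2) 2 0 (maskSet 8391797) {pt 4, pt 10}) = 0 ∧
      dotInt orthVec (seedVec 2 2 (-2) 2 0 (maskSet 8391797) {pt 4, pt 10}) = 16) ∧
    ((sqNorm (seedVec 2 (-2) (-2) 2 0 (maskSet 8391797) {pt 10}) = 32 ∧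
      dotInt five (seedVec 2 (-2) (-2) 2 0 (maskSet 8391797) {pt 10}) = 16) ∧
      dotInt stdVec (seedVec 2 (-2) (-2) 2 0 (maskSet 8391797) {pt 10}) = 16 ∧
      dotInt orthVec (seedVec 2 (-2) (-2) 2 0 (maskSet 8391797) {pt 10}) = 0)
  decide +kernel

/-- The orbit of 352. -/
theorem orbit352 : {y : leechLattice | InD (-8) y}.ncard = 352 ∧
    ∃ y0, InD (-8) y0 ∧ ∀ y, InD (-8) y ↔ y ∈ MulAction.orbit HS.G y0 := by
  obtain ⟨ht, hc⟩ := normal_facts (d := -8) (k := 16) (a := 1) (b := 3) (c := 7) (e := -1) (r := 1)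
    (near := false) (n := 0) (by norm_num) (by simp) (by norm_num) (by norm_num) (by norm_num) (fun y hy => by
      obtain ⟨hB, hd, hk⟩ := hy
      obtain ⟨ea, eb⟩ := coords hd hk (a := 1) (b := -3) (by norm_num) (by norm_num)
      obtain ⟨o, ho, hn, h0, ⟨-, hf⟩ | ⟨h1, -⟩⟩ := odd_form hB ea (Or.inl eb)
      · exact ⟨⟨o, ∅⟩, mem_params.2 ⟨⟨ho, by simp [hn], h0⟩, empty_subset _, rfl⟩, hf⟩
      · omega) seeds_ok.1
  refine class_facts (nk := 50) (fun y hy => ?_) (by norm_num) ht hc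
    (by rw [card_params]; norm_num) (by norm_num)
  obtain ⟨h1, h2, h3⟩ := num_val hy
  norm_num at h2 h3
  omega

/-- The orbit of 1100. -/
theorem orbit1100 : {y : leechLattice | InD 16 y}.ncard = 1100 ∧
    ∃ y0, InD 16 y0 ∧ ∀ y, InD 16 y ↔ y ∈ MulAction.orbit HS.G y0 := by
  obtain ⟨ht, hc⟩ := normal_facts (d := 16) (k := 0) (a := 2) (b := -2) (c := -2) (e := 2) (r := 0)
    (near := true) (n := 1) (by norm_num) (by simp) (by norm_num) (by norm_num) (by norm_num) (fun y hy => by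
      obtain ⟨hB, hd, hk⟩ := hy
      obtain ⟨ea, eb⟩ := coords hd hk (a := 2) (b := 2) (by norm_num) (by norm_num)
      obtain ⟨o, ho, hn, h0, ⟨h1, -⟩ | ⟨-, D, hD, hDc, hf⟩⟩ := even_form hB ea (Or.inr eb)
      · omega
      · exact ⟨⟨o, D⟩, mem_params.2 ⟨⟨ho, by simp [hn], h0⟩, hD, hDc⟩, hf⟩) seeds_ok.2.2.2
  refine class_facts (nk := 42) (fun y hy => ?_) (by norm_num) ht hc
    (by rw [card_params]; norm_num [Nat.choose]) (by norm_num)
  obtain ⟨h1, h2, h3⟩ := num_val hy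
  norm_num at h2 h3
  omega

/-- The orbit of 4125. -/
theorem orbit4125 : {y : leechLattice | InD 0 y}.ncard = 4125 ∧
    ∃ y0, InD 0 y0 ∧ ∀ y, InD 0 y ↔ y ∈ MulAction.orbit HS.G y0 := by
  obtain ⟨ht, hc⟩ := normal_facts (d := 0) (k := 16) (a := 2) (b := 2) (c := -2) (e := 2) (r := 0)
    (near := true) (n := 2) (by norm_num) (by simp) (by norm_num) (by norm_num) (by norm_num) (fun y hy => by
      obtain ⟨hB, hd, hk⟩ := hy
      obtain ⟨ea, eb⟩ := coords hd hk (a := 2) (b := -2) (by norm_num) (by norm_num)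
      obtain ⟨o, ho, hn, h0, ⟨-, D, hD, hDc, hf⟩ | ⟨h1, -⟩⟩ := even_form hB ea (Or.inl eb)
      · exact ⟨⟨o, D⟩, mem_params.2 ⟨⟨ho, by simp [hn], h0⟩, hD, hDc⟩, hf⟩
      · omega) seeds_ok.2.2.1
  refine class_facts (nk := 28) (fun y hy => ?_) (by norm_num) ht hc
    (by rw [card_params]; norm_num [Nat.choose]) (by norm_num)
  obtain ⟨h1, h2, h3⟩ := num_val hy
  norm_num at h2 h3
  omega

/-- The orbit of 5600. -/
theorem orbit5600 : {y : leechLattice | InD 8 y}.ncard = 5600 ∧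
    ∃ y0, InD 8 y0 ∧ ∀ y, InD 8 y ↔ y ∈ MulAction.orbit HS.G y0 := by
  obtain ⟨ht, hc⟩ := normal_facts (d := 8) (k := 0) (a := 1) (b := -1) (c := 3) (e := -1) (r := 1)
    (near := false) (n := 1) (by norm_num) (by simp) (by norm_num) (by norm_num) (by norm_num) (fun y hy => by
      obtain ⟨hB, hd, hk⟩ := hy
      obtain ⟨ea, eb⟩ := coords hd hk (a := 1) (b := 1) (by norm_num) (by norm_num)
      obtain ⟨o, ho, hn, h0, ⟨h1, -⟩ | ⟨-, j, hj, hf⟩⟩ := odd_form hB ea (Or.inr eb)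
      · omega
      · exact ⟨⟨o, {j}⟩, mem_params.2 ⟨⟨ho, by simp [hn], h0⟩, singleton_subset_iff.2 hj, card_singleton j⟩, hf⟩)
      seeds_ok.2.1
  refine class_facts (nk := 22) (fun y hy => ?_) (by norm_num) ht hc
    (by rw [card_params]; norm_num [Nat.choose]) (by norm_num)
  obtain ⟨h1, h2, h3⟩ := num_val hy
  norm_num at h2 h3
  omega

theorem values {y : leechLattice} (hy : InB y) :
    y = v0 ∨ dotInt (v0 : Vec) (y : Vec) = -8 ∨ dotInt (v0 : Vec) (y : Vec) = 16 ∨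
      dotInt (v0 : Vec) (y : Vec) = 0 ∨ dotInt (v0 : Vec) (y : Vec) = 8 := by
  obtain ⟨hn, hu⟩ := hy
  by_cases e : y = v0
  · exact Or.inl e
  right
  have hr := range32 sqNorm_v0 y (mem_short.2 hn)
  simp only [mem_insert, mem_singleton] at hr
  have hf := far (Ne.symm e)
  rw [sqNorm_v0, hn] at hf
  have hvu : dotInt (v0 : Vec) (u5 : Vec) = 16 := dot_v0u5
  have hne : u5 ≠ v0 + y := fun e' => by
    have h := congrArg (fun w : leechLattice => dotInt (u5 : Vec) (w : Vec)) e'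
    simp only [AddSubgroup.coe_add] at h
    rw [dot_self, u5_facts.1, dot_comm _ ((v0 : Vec) + (y : Vec)), dot_add_left, dot_comm (y : Vec), hvu, hu] at h
    norm_num at h
  have hf' := far hne
  rw [u5_facts.1, AddSubgroup.coe_add, sqNorm_add, sqNorm_v0, hn, dot_comm _ ((v0 : Vec) + (y : Vec)),
    dot_add_left, hvu, dot_comm (y : Vec) (u5 : Vec), hu] at hf'
  omega

/-! ### Transport to an arbitrary pair -/

theorem smul_neg' (g : Co0) (v : leechLattice) : g • (-v) = -(g • v) := by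
  refine eq_neg_of_add_eq_zero_left ?_
  rw [← smul_add', neg_add_cancel]
  have h := smul_add' g (0 : leechLattice) 0
  rw [add_zero] at h
  exact add_eq_left.1 h.symm

theorem dot_neg (a b : Vec) : dotInt a (-b) = -dotInt a b := dot_neg_right a b

theorem transfer {u x : leechLattice} {h : Co0} (hu : h • u = u5) (hx : h • x = -v0) (z : leechLattice) :
    MulAction.orbit ↥(MulAction.stabilizer Co0 u ⊓ MulAction.stabilizer Co0 x) (h⁻¹ • (-z)) =
      (fun w => h⁻¹ • (-w)) '' MulAction.orbit HS.G z := by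
  have hfix : ∀ g : Co0, g • (-v0 : leechLattice) = -v0 ↔ g • v0 = v0 := fun g => by rw [smul_neg', neg_inj]
  ext w
  constructor
  · rintro ⟨⟨g, hg⟩, rfl⟩
    simp only [Subgroup.mem_inf, MulAction.mem_stabilizer_iff] at hg
    refine ⟨(h * g * h⁻¹) • z, ⟨⟨h * g * h⁻¹, HS.mem_G.2 ⟨(hfix _).1 ?_, ?_⟩⟩, rfl⟩, ?_⟩
    · rw [mul_smul, mul_smul, ← hx, inv_smul_smul, hg.2]
    · rw [mul_smul, mul_smul, ← hu, inv_smul_smul, hg.1]
    · show h⁻¹ • (-((h * g * h⁻¹) • z)) = g • h⁻¹ • (-z)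
      rw [← smul_neg', mul_smul, mul_smul, inv_smul_smul]
  · rintro ⟨_, ⟨⟨g, hg⟩, rfl⟩, rfl⟩
    obtain ⟨g1, g2⟩ := HS.mem_G.1 hg
    refine ⟨⟨h⁻¹ * g * h, ?_⟩, ?_⟩
    · simp only [Subgroup.mem_inf, MulAction.mem_stabilizer_iff]
      refine ⟨?_, ?_⟩
      · rw [mul_smul, mul_smul, hu, g2, ← hu, inv_smul_smul]
      · rw [mul_smul, mul_smul, hx, (hfix g).2 g1, ← hx, inv_smul_smul]
    · show (h⁻¹ * g * h) • h⁻¹ • (-z) = h⁻¹ • (-(g • z))
      rw [mul_smul, mul_smul, smul_inv_smul, smul_neg']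

theorem mem_B_iff {u : leechLattice} {h : Co0} (hu : h • u = u5) (y : leechLattice) :
    (sqNorm (y : Vec) = 32 ∧ dotInt (u : Vec) (y : Vec) = -16) ↔ InB (-(h • y)) := by
  rw [InB, AddSubgroup.coe_neg, dot_neg, ← hu, dot_smul,
    show sqNorm (-((h • y : leechLattice) : Vec)) = sqNorm ((h • y : leechLattice) : Vec) by
      simp [sqNorm], sqNorm_smul]
  constructor <;> rintro ⟨a, b⟩ <;> exact ⟨a, by omega⟩

end Cfsg.Agent.LeechAut.Co3Orbits
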