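import Cfsg.Agent.Lib.LeechAut.Maximal
import Cfsg.Agent.Lib.Classical.Iwasawa
import Cfsg.Agent.Lib.Golay.Small
import Cfsg.Prelude.Def_Sporadic

/-!
`Co0` is perfect and its quotient by the centre is simple: Iwasawa's criterion on the cosets of the
stabiliser of the standard cross, with the sign changes as the abelian subgroup.
-/

set_option autoImplicit false
set_option maxRecDepth 10000

namespace Cfsg.Agent.LeechAut.Co1

open Cfsg Cfsg.Agent.Golay.Basic Cfsg.Agent.Golay.Design Cfsg.Agent.Golay.Trans Cfsg.Agent.Leech.Basic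
  Cfsg.Agent.Leech.Index Cfsg.Agent.LeechAut.Gens Cfsg.Agent.LeechAut.Basic Cfsg.Agent.LeechAut.Xi
  Cfsg.Agent.LeechAut.Cross Cfsg.Agent.LeechAut.Maximal Finset
open scoped Pointwise symmDiff commutatorElement

theorem sign_congr {c d : Finset GolayPt} (e : c = d) (hc : c ∈ codeSets) (hd : d ∈ codeSets) :
    sign c hc = sign d hd := by subst e; rfl

theorem sign_mul {c d : Finset GolayPt} (hc : c ∈ codeSets) (hd : d ∈ codeSets) :
    sign c hc * sign d hd = sign (c ∆ d) (symmDiff_mem_supports hc hd) :=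
  ext' fun v => Subtype.ext (funext fun i => by
    rw [mul_smul]
    by_cases h : i ∈ c <;> by_cases h' : i ∈ d <;> simp [Basic.flip, Finset.mem_symmDiff, h, h'])

theorem sign_inv {c : Finset GolayPt} (hc : c ∈ codeSets) : (sign c hc)⁻¹ = sign c hc :=
  inv_eq_of_mul_eq_one_right (ext' fun v => Subtype.ext (by
    rw [mul_smul, one_smul, sign_smul, sign_smul, Basic.flip_flip]))

/-- The subgroup of sign changes. -/
def signSub : Subgroup Co0 where
  carrier := {g | ∃ c hc, g = sign c hc}
  one_mem' := ⟨∅, empty_mem, ext' fun v => Subtype.ext (funext fun i => by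
    rw [one_smul]; simp [Basic.flip])⟩
  mul_mem' := by
    rintro a b ⟨c, hc, rfl⟩ ⟨d, hd, rfl⟩
    exact ⟨_, _, sign_mul hc hd⟩
  inv_mem' := by
    rintro a ⟨c, hc, rfl⟩
    exact ⟨c, hc, sign_inv hc⟩

theorem sign_mem_signSub (c : Finset GolayPt) (hc : c ∈ codeSets) : sign c hc ∈ signSub := ⟨c, hc, rfl⟩

theorem signSub_comm {a b : Co0} (ha : a ∈ signSub) (hb : b ∈ signSub) : a * b = b * a := by
  obtain ⟨c, hc, rfl⟩ := ha
  obtain ⟨d, hd, rfl⟩ := hb
  rw [sign_mul, sign_mul]
  exact sign_congr (symmDiff_comm c d) _ _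

theorem signSub_le : signSub ≤ crossStab := by
  rintro g ⟨c, hc, rfl⟩
  exact sign_mem_crossStab c hc

/-- Coordinate permutations, as a homomorphism. -/
def permHom : M24 →* Co0 where
  toFun σ := perm (σ : Equiv.Perm GolayPt)⁻¹ (M24.inv_mem σ.2)
  map_one' := ext' fun v => Subtype.ext (funext fun i => by rw [one_smul]; simp)
  map_mul' σ τ := ext' fun v => Subtype.ext (funext fun i => by rw [mul_smul]; simp)

theorem permHom_smul (σ : M24) (v : leechLattice) (i : GolayPt) :
    ((permHom σ • v : leechLattice) : Vec) i = (v : Vec) ((σ : Equiv.Perm GolayPt)⁻¹ i) := rfl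

theorem permHom_mem (σ : M24) : permHom σ ∈ crossStab :=
  perm_mem_crossStab (σ : Equiv.Perm GolayPt)⁻¹ (M24.inv_mem σ.2)

theorem exists_parts {g : Co0} (hg : g ∈ crossStab) :
    ∃ (c : Finset GolayPt) (hc : c ∈ codeSets) (σ : M24), g = sign c hc * permHom σ := by
  obtain ⟨p, rfl⟩ := exists_mono g hg
  exact ⟨p.2.1, p.2.2, p.1, rfl⟩

theorem conj_sign (σ : M24) (c : Finset GolayPt) (hc : c ∈ codeSets) :
    permHom σ * sign c hc * (permHom σ)⁻¹ =
      sign ((σ : Equiv.Perm GolayPt) • c) (Cfsg.Agent.Golay.M24.smul_mem_supports σ.2 hc) := by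
  refine ext' fun v => Subtype.ext (funext fun i => ?_)
  have h : i ∈ (σ : Equiv.Perm GolayPt) • c ↔ (σ : Equiv.Perm GolayPt)⁻¹ i ∈ c := by
    rw [Finset.mem_smul_finset]
    exact ⟨fun ⟨y, hy, e⟩ => by rw [← e]; simpa using hy,
      fun hy => ⟨_, hy, Equiv.apply_symm_apply _ i⟩⟩
  rw [← map_inv, mul_smul, mul_smul, permHom_smul, sign_smul, sign_smul]
  by_cases h' : i ∈ (σ : Equiv.Perm GolayPt) • c
  · have h1 := h.1 h'
    simp only [Basic.flip, if_pos h', if_pos h1, permHom_smul]
    simp
  · have h1 := mt h.2 h'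
    simp only [Basic.flip, if_neg h', if_neg h1, permHom_smul]
    simp

theorem conj_signSub {n : Co0} (hn : n ∈ crossStab) {e : Co0} (he : e ∈ signSub) :
    n * e * n⁻¹ ∈ signSub := by
  obtain ⟨c, hc, σ, rfl⟩ := exists_parts hn
  obtain ⟨d, hd, rfl⟩ := he
  have h : sign c hc * permHom σ * sign d hd * (sign c hc * permHom σ)⁻¹ =
      sign c hc * (permHom σ * sign d hd * (permHom σ)⁻¹) * (sign c hc)⁻¹ := by group
  rw [h, conj_sign]
  exact mul_mem (mul_mem (sign_mem_signSub c hc) (sign_mem_signSub _ _))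
    (inv_mem (sign_mem_signSub c hc))

theorem conj_smul_signSub {n : Co0} (hn : n ∈ crossStab) : MulAut.conj n • signSub = signSub := by
  ext e
  rw [Subgroup.mem_pointwise_smul_iff_inv_smul_mem, ← map_inv, MulAut.smul_def, MulAut.conj_apply]
  refine ⟨fun h => ?_, fun h => conj_signSub (inv_mem hn) h⟩
  have := conj_signSub hn h
  simpa [mul_assoc] using this

/-- The conjugate of the sign changes attached to a coset. -/
noncomputable def T (x : Co0 ⧸ crossStab) : Subgroup Co0 := MulAut.conj x.out • signSub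

theorem T_smul (g : Co0) (x : Co0 ⧸ crossStab) : T (g • x) = MulAut.conj g • T x := by
  have h : ((g • x).out)⁻¹ * (g * x.out) ∈ crossStab := by
    refine QuotientGroup.eq.1 ?_
    rw [QuotientGroup.out_eq']
    conv_lhs => rw [← QuotientGroup.out_eq' x]
    rfl
  unfold T
  rw [← mul_smul, ← map_mul,
    show g * x.out = (g • x).out * ((g • x).out⁻¹ * (g * x.out)) by group, map_mul, mul_smul,
    conj_smul_signSub h]

theorem T_comm (x : Co0 ⧸ crossStab) : IsMulCommutative (T x) := by
  refine ⟨⟨fun a b => Subtype.ext ?_⟩⟩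
  obtain ⟨u, hu, eu⟩ := Subgroup.mem_smul_pointwise_iff_exists _ _ _ |>.1 a.2
  obtain ⟨w, hw, ew⟩ := Subgroup.mem_smul_pointwise_iff_exists _ _ _ |>.1 b.2
  show (a : Co0) * b = b * a
  rw [← eu, ← ew, ← smul_mul', ← smul_mul', signSub_comm hu hw]

/-- The group generated by all of them. -/
noncomputable def R : Subgroup Co0 := ⨆ x, T x

theorem R_normal : R.Normal := by
  refine ⟨fun r hr g => ?_⟩
  have h : R ≤ R.comap (MulAut.conj g).toMonoidHom := by
    refine iSup_le fun x e he => ?_
    show MulAut.conj g e ∈ R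
    refine le_iSup T (g • x) ?_
    rw [T_smul]
    exact Subgroup.smul_mem_pointwise_smul e (MulAut.conj g) _ he
  exact h hr

theorem signSub_le_R : signSub ≤ R := by
  refine le_trans (le_of_eq ?_) (le_iSup T ((1 : Co0) : Co0 ⧸ crossStab))
  have h : ((1 : Co0) : Co0 ⧸ crossStab).out ∈ crossStab := by
    have := QuotientGroup.out_eq' ((1 : Co0) : Co0 ⧸ crossStab)
    rw [QuotientGroup.eq] at this
    simpa using this
  exact (conj_smul_signSub h).symm

theorem sandwich (c : Finset GolayPt) (hc : c ∈ codeSets) (v : leechLattice) :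
    ((xi * sign c hc * xi⁻¹) • v : leechLattice) = xi • sign c hc • xi • v := by
  have e : xi⁻¹ = xi := inv_eq_of_mul_eq_one_right (ext' fun w => Subtype.ext (by
    rw [mul_smul, one_smul, xi_smul, xi_smul, xi_xi w.2]))
  rw [e, mul_smul, mul_smul]

theorem swap_octad : maskSet 7221256 ∈ codeSets :=
  mem_supports_iff.2 (by decide +kernel)

theorem swap_mem : xi * sign _ swap_octad * xi⁻¹ ∈ crossStab := by
  refine mem_crossStab_of_fix (Subtype.ext ?_)
  rw [sandwich, xi_smul, sign_smul, xi_smul, frame_coe]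
  exact lst_injective (by decide +kernel)

theorem swap_moves : ∃ i : GolayPt,
    xiFun (Basic.flip (maskSet 7221256) (xiFun (Pi.single i 8))) i = 0 := by decide +kernel

theorem permHom_mem_R (σ : M24) : permHom σ ∈ R := by
  haveI := R_normal
  haveI : IsSimpleGroup M24 := Cfsg.Agent.Golay.Small.isSimple_M24
  obtain ⟨c, hc, τ, e⟩ := exists_parts swap_mem
  have hτR : permHom τ ∈ R := by
    have h : xi * sign _ swap_octad * xi⁻¹ ∈ R :=
      Subgroup.Normal.conj_mem inferInstance _ (signSub_le_R (sign_mem_signSub _ _)) xi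
    rw [e] at h
    have := mul_mem (inv_mem (signSub_le_R (sign_mem_signSub c hc))) h
    rwa [inv_mul_cancel_left] at this
  rcases (R.normal_comap permHom).eq_bot_or_eq_top with h | h
  · exfalso
    have h1 : τ = 1 := Subgroup.mem_bot.1 (h ▸ (hτR : τ ∈ R.comap permHom))
    rw [h1, map_one, mul_one] at e
    obtain ⟨i, hi⟩ := swap_moves
    have := congrArg (fun g : Co0 => ((g • frame i : leechLattice) : Vec) i) e
    simp only [sandwich, xi_smul, sign_smul, frame_coe] at this
    rw [hi] at this
    simp only [Basic.flip, Pi.single_eq_same] at this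
    split_ifs at this <;> omega
  · exact show σ ∈ R.comap permHom from h ▸ Subgroup.mem_top σ

theorem crossStab_le_R : crossStab ≤ R := by
  intro g hg
  obtain ⟨c, hc, σ, rfl⟩ := exists_parts hg
  exact mul_mem (signSub_le_R (sign_mem_signSub c hc)) (permHom_mem_R σ)

theorem odd_octad : maskSet 4845570 ∈ codeSets :=
  mem_supports_iff.2 (by decide +kernel)

theorem odd_dodecad : maskSet 165759 ∈ codeSets :=
  mem_supports_iff.2 (by decide +kernel)

theorem sandwich_spread : ∀ m ∈ [4845570, 165759], ∀ i : GolayPt,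
    ∃ p, p ≠ i ∧ xiFun (Basic.flip (maskSet m) (xiFun (Pi.single none 8))) p ≠ 0 := by decide +kernel

theorem sandwich_notMem (m : ℕ) (hm : m ∈ [4845570, 165759]) (hc : maskSet m ∈ codeSets) :
    xi * sign _ hc * xi⁻¹ ∉ crossStab := by
  intro h
  obtain ⟨i, s, -, hv⟩ := h (frame none) ⟨none, 8, Or.inl rfl, rfl⟩
  rw [sandwich, xi_smul, sign_smul, xi_smul, frame_coe] at hv
  obtain ⟨p, hp, hp0⟩ := sandwich_spread m hm i
  rw [hv, Pi.single_eq_of_ne hp] at hp0
  exact hp0 rfl

theorem R_eq_top : R = ⊤ := by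
  haveI := R_normal
  refine isCoatom_crossStab.2 R (lt_of_le_of_ne crossStab_le_R fun e => ?_)
  refine sandwich_notMem 4845570 (by simp) odd_octad ?_
  rw [e]
  exact Subgroup.Normal.conj_mem inferInstance _ (signSub_le_R (sign_mem_signSub _ _)) xi

/-- The Iwasawa structure on the crosses. -/
noncomputable def iwasawa : MulAction.IwasawaStructure Co0 (Co0 ⧸ crossStab) where
  T := T
  is_comm := T_comm
  is_conj := T_smul
  is_generator := R_eq_top

theorem isPreprimitive_cosets : MulAction.IsPreprimitive Co0 (Co0 ⧸ crossStab) := by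
  haveI : Nontrivial (Co0 ⧸ crossStab) := ⟨((xi : Co0) : Co0 ⧸ crossStab), ((1 : Co0) : Co0 ⧸ crossStab),
    fun e => xi_notMem (by simpa using (QuotientGroup.eq.1 e.symm))⟩
  rw [← MulAction.isCoatom_stabilizer_iff_preprimitive _ ((1 : Co0) : Co0 ⧸ crossStab),
    MulAction.stabilizer_quotient]
  exact isCoatom_crossStab

theorem symmDiff_octads_mem {a b : Finset GolayPt} (ha : a ∈ octads) (hb : b ∈ octads) :
    sign (a ∆ b) (symmDiff_mem_supports (octad_mem_supports ha) (octad_mem_supports hb)) ∈
      commutator Co0 := by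
  obtain ⟨σ, hσ, e⟩ := octads_transitive ha hb
  have h : ⁅permHom ⟨σ, hσ⟩, sign a (octad_mem_supports ha)⁆ ∈ commutator Co0 :=
    Subgroup.commutator_mem_commutator (Subgroup.mem_top _) (Subgroup.mem_top _)
  rw [commutatorElement_def, conj_sign, sign_inv, sign_mul] at h
  rwa [sign_congr (show ((((⟨σ, hσ⟩ : M24) : Equiv.Perm GolayPt) • a) ∆ a) = a ∆ b by
    rw [show ((⟨σ, hσ⟩ : M24) : Equiv.Perm GolayPt) • a = b from e, symmDiff_comm]) _
    (symmDiff_mem_supports (octad_mem_supports ha) (octad_mem_supports hb))] at h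

theorem triple_octads : ∀ m ∈ [7221256, 14919680, 9279496], maskSet m ∈ octads := by
  intro m hm
  rw [mem_octads_iff]
  revert m
  decide +kernel

theorem octad_mem_commutator {o : Finset GolayPt} (ho : o ∈ octads) :
    sign o (octad_mem_supports ho) ∈ commutator Co0 := by
  have h3 := triple_octads 9279496 (by simp)
  have h12 := symmDiff_octads_mem (triple_octads 7221256 (by simp)) (triple_octads 14919680 (by simp))
  rw [sign_congr (d := maskSet 9279496)
    (by rw [← mask_maskSet_xor]; rfl) _ (octad_mem_supports h3)] at h12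
  have := mul_mem (symmDiff_octads_mem ho h3) h12
  rw [sign_mul] at this
  rwa [sign_congr (symmDiff_symmDiff_cancel_right (maskSet 9279496) o)] at this

theorem span_mem : ∀ L : List ℕ, (∀ b ∈ L, maskSet b ∈ octads) → ∀ x ∈ spanList L,
    ∃ h : maskSet x ∈ codeSets, sign _ h ∈ commutator Co0
  | [], _, x, hx => by
    obtain rfl := List.mem_singleton.1 hx
    have e : maskSet 0 = ∅ := by ext p; simp
    refine ⟨e ▸ empty_mem, ?_⟩
    convert one_mem (commutator Co0)
    exact ext' fun v => Subtype.ext (funext fun i => by rw [one_smul]; simp [Basic.flip])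
  | b :: bs, hL, x, hx => by
    have hb := hL b List.mem_cons_self
    have ih := span_mem bs fun c hc => hL c (List.mem_cons_of_mem _ hc)
    simp only [spanList, List.mem_append, List.mem_map] at hx
    rcases hx with hx | ⟨y, hy, rfl⟩
    · exact ih x hx
    · obtain ⟨h, hh⟩ := ih y hy
      have hx : maskSet (b ^^^ y) ∈ codeSets := by
        rw [mask_maskSet_xor]; exact symmDiff_mem_supports (octad_mem_supports hb) h
      refine ⟨hx, ?_⟩
      rw [sign_congr (mask_maskSet_xor b y) hx (symmDiff_mem_supports (octad_mem_supports hb) h),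
        ← sign_mul (octad_mem_supports hb) h]
      exact mul_mem (octad_mem_commutator hb) hh

theorem basis_octads : ∀ b ∈ basisMasks, maskSet b ∈ octads := by
  intro b hb
  rw [mem_octads_iff]
  revert b
  decide +kernel

theorem signSub_le_commutator : signSub ≤ commutator Co0 := by
  rintro g ⟨c, hc, rfl⟩
  obtain ⟨h, hh⟩ := span_mem basisMasks basis_octads _ (mem_codeList (mem_supports_iff.1 hc))
  rwa [sign_congr (maskSet_mask c) h hc] at hh

theorem commutator_eq_top : commutator Co0 = ⊤ := by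
  rw [eq_top_iff, ← R_eq_top]
  refine iSup_le fun x e he => ?_
  obtain ⟨u, hu, rfl⟩ := Subgroup.mem_smul_pointwise_iff_exists _ _ _ |>.1 he
  exact Subgroup.Normal.conj_mem inferInstance u (signSub_le_commutator hu) x.out

theorem transl_spread : ∀ n ∈ [0, 1, 2, 3, 4, 5, 6, 7, 8388608, 8388609, 8388610, 8388611, 8388612,
    8388613, 8388614, 8388615], ∀ p ∈ [pt 5, pt 14],
    xiFun (fun q => Basic.flip (maskSet n) (xiFun (Pi.single none 8))
      (Cfsg.Agent.Golay.M24.transl⁻¹ q)) p ≠ 0 := by decide +kernel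

theorem submasks : ∀ k < 16, ((k % 8) + (k / 8) * 8388608) ∈ [0, 1, 2, 3, 4, 5, 6, 7, 8388608,
    8388609, 8388610, 8388611, 8388612, 8388613, 8388614, 8388615] := by decide +kernel

theorem mask_inter_block (c : Finset GolayPt) :
    mask (c ∩ maskSet 8388615) ∈ [0, 1, 2, 3, 4, 5, 6, 7, 8388608, 8388609, 8388610, 8388611,
      8388612, 8388613, 8388614, 8388615] := by
  have h : mask (c ∩ maskSet 8388615) = mask c % 8 + mask c / 8388608 * 8388608 := by
    rw [mask_inter, mask_maskSet (by norm_num)]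
    refine Nat.eq_of_testBit_eq fun j => ?_
    have hlt := mask_lt c
    rw [Nat.testBit_and, show mask c % 8 + mask c / 8388608 * 8388608 =
      2 ^ 23 * (mask c / 2 ^ 23) + mask c % 2 ^ 3 by norm_num; ring,
      Nat.testBit_two_pow_mul_add _ (lt_of_lt_of_le (Nat.mod_lt _ (by norm_num)) (by norm_num))]
    by_cases hj : j < 23
    · rw [if_pos hj, Nat.testBit_mod_two_pow]
      interval_cases j <;> simp +decide
    · rw [if_neg hj, Nat.testBit_div_two_pow, show j - 23 + 23 = j by omega]
      by_cases hj2 : j = 23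
      · subst hj2; simp +decide
      · rw [Nat.testBit_lt_two_pow (lt_of_lt_of_le hlt (Nat.pow_le_pow_right (by norm_num) (by omega)))]
        simp
  have hk := submasks (mask c % 8 + mask c / 8388608 * 8) (by have := mask_lt c; omega)
  rw [show (mask c % 8 + mask c / 8388608 * 8) % 8 = mask c % 8 by omega,
    show (mask c % 8 + mask c / 8388608 * 8) / 8 = mask c / 8388608 by omega] at hk
  rwa [h]

theorem xi_frame_support : ∀ q : GolayPt, q ∉ maskSet 8388615 → xiFun (Pi.single none 8) q = 0 := by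
  decide +kernel

theorem transl_notMem (c : Finset GolayPt) (hc : c ∈ codeSets) :
    xi * (permHom ⟨_, Cfsg.Agent.Golay.M24.transl_mem⟩ * sign c hc) * xi⁻¹ ∉ crossStab := by
  intro h
  obtain ⟨i, s, -, hv⟩ := h (frame none) ⟨none, 8, Or.inl rfl, rfl⟩
  have e : xi⁻¹ = xi := inv_eq_of_mul_eq_one_right (ext' fun w => Subtype.ext (by
    rw [mul_smul, one_smul, xi_smul, xi_smul, xi_xi w.2]))
  rw [e, mul_smul, mul_smul, mul_smul, xi_smul] at hv
  obtain ⟨p, hmem, hp⟩ : ∃ p ∈ [pt 5, pt 14], p ≠ i := by
    by_cases hi : pt 5 = i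
    · exact ⟨pt 14, by simp, by rw [← hi]; decide⟩
    · exact ⟨pt 5, by simp, hi⟩
  have hp0 := transl_spread _ (mask_inter_block c) p hmem
  rw [maskSet_mask] at hp0
  refine hp0 ?_
  have e2 : (fun q => Basic.flip (c ∩ maskSet 8388615) (xiFun (Pi.single none 8))
      (Cfsg.Agent.Golay.M24.transl⁻¹ q)) = ((permHom ⟨_, Cfsg.Agent.Golay.M24.transl_mem⟩ •
      sign c hc • xi • frame none : leechLattice) : Vec) := by
    funext q
    rw [permHom_smul, sign_smul, xi_smul, frame_coe]
    by_cases hq : Cfsg.Agent.Golay.M24.transl⁻¹ q ∈ maskSet 8388615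
    · simp only [Basic.flip, Finset.mem_inter, hq, and_true]
    · simp only [Basic.flip, Finset.mem_inter, hq, and_false, if_false, xi_frame_support _ hq]
      simp
  rw [e2, hv, Pi.single_eq_of_ne hp]

theorem sign_notMem_core {m : ℕ} (hm : m ∈ [4845570, 165759]) (hc : maskSet m ∈ codeSets) :
    sign _ hc ∉ crossStab.normalCore := fun h => sandwich_notMem m hm hc (h xi)

theorem core_le_center : crossStab.normalCore ≤ Subgroup.center Co0 := by
  haveI : IsSimpleGroup M24 := Cfsg.Agent.Golay.Small.isSimple_M24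
  intro g hg
  obtain ⟨c, hc, σ, rfl⟩ := exists_parts (Subgroup.normalCore_le _ hg)
  set K := crossStab.normalCore ⊔ signSub with hK
  have hn : (K.comap permHom).Normal := by
    refine ⟨fun τ hτ ρ => ?_⟩
    have h : K ≤ K.comap (MulAut.conj (permHom ρ)).toMonoidHom := sup_le
      (fun u hu => Subgroup.mem_sup_left (Subgroup.Normal.conj_mem inferInstance u hu (permHom ρ)))
      (fun u hu => Subgroup.mem_sup_right (conj_signSub (permHom_mem ρ) hu))
    show permHom (ρ * τ * ρ⁻¹) ∈ K
    rw [map_mul, map_mul, map_inv]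
    exact h hτ
  have hσK : σ ∈ K.comap permHom := by
    show permHom σ ∈ K
    rw [show permHom σ = (sign c hc)⁻¹ * (sign c hc * permHom σ) by group]
    exact mul_mem (Subgroup.mem_sup_right (inv_mem (sign_mem_signSub c hc))) (Subgroup.mem_sup_left hg)
  rcases hn.eq_bot_or_eq_top with hb | ht
  · rw [hb, Subgroup.mem_bot] at hσK
    subst hσK
    rw [map_one, mul_one] at hg ⊢
    have hneg : negOne ∈ crossStab.normalCore := fun b => by
      rw [negOne_comm b, mul_inv_cancel_right]
      exact sign_mem_crossStab univ univ_mem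
    have key : ∀ (m : ℕ), m ∈ [4845570, 165759] → ∀ τ : M24,
        (τ : Equiv.Perm GolayPt) • c ≠ maskSet m ∧ (τ : Equiv.Perm GolayPt) • cᶜ ≠ maskSet m := by
      intro m hm τ
      constructor <;> intro e
      · have h := Subgroup.Normal.conj_mem inferInstance _ hg (permHom τ)
        rw [conj_sign, sign_congr e _ (e ▸ Cfsg.Agent.Golay.M24.smul_mem_supports τ.2 hc)] at h
        exact sign_notMem_core hm _ h
      · have h := Subgroup.Normal.conj_mem inferInstance _
          (show sign cᶜ (compl_mem hc) ∈ crossStab.normalCore by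
            rw [sign_congr (d := c ∆ univ) (by ext i; simp [Finset.mem_symmDiff]) (compl_mem hc)
              (symmDiff_mem_supports hc univ_mem), ← sign_mul hc univ_mem]
            exact mul_mem hg hneg) (permHom τ)
        rw [conj_sign, sign_congr e _ (e ▸ Cfsg.Agent.Golay.M24.smul_mem_supports τ.2 (compl_mem hc))] at h
        exact sign_notMem_core hm _ h
    have ho : maskSet 4845570 ∈ octads := mem_octads_iff.2 (by decide +kernel)
    rcases weights_supports hc with h0 | h0 | h0 | h0 | h0
    · obtain rfl := Finset.card_eq_zero.1 h0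
      rw [show sign ∅ hc = 1 from ext' fun v => Subtype.ext (funext fun i => by
        rw [one_smul]; simp [Basic.flip])]
      exact one_mem _
    · obtain ⟨τ, hτ, e⟩ := octads_transitive (⟨hc, h0⟩ : c ∈ octads) ho
      exact absurd e (key 4845570 (by simp) ⟨τ, hτ⟩).1
    · obtain ⟨τ, hτ, e⟩ := dodecads_transitive (⟨hc, h0⟩ : c ∈ dodecads) baseDodecad_mem
      exact absurd e (key 165759 (by simp) ⟨τ, hτ⟩).1
    · obtain ⟨τ, hτ, e⟩ := octads_transitive (⟨compl_mem hc, by
        rw [card_compl, h0, show Fintype.card GolayPt = 24 by decide]⟩ : cᶜ ∈ octads) ho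
      exact absurd e (key 4845570 (by simp) ⟨τ, hτ⟩).2
    · have hu : c = univ := Finset.eq_univ_of_card c (h0.trans (by decide))
      rw [sign_congr hu _ univ_mem]
      exact negOne_central
  · exfalso
    have h : permHom ⟨_, Cfsg.Agent.Golay.M24.transl_mem⟩ ∈ K := by
      show _ ∈ K.comap permHom
      rw [ht]; exact Subgroup.mem_top _
    rw [hK, ← SetLike.mem_coe, Subgroup.normal_mul] at h
    obtain ⟨k, hk, e, he, hke⟩ := Set.mem_mul.1 h
    obtain ⟨d, hd, rfl⟩ := he
    refine transl_notMem d hd ?_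
    rw [← hke, show k * sign d hd * sign d hd = k by
      nth_rw 2 [← sign_inv hd]; rw [mul_inv_cancel_right]]
    exact hk xi

theorem isSimple_quotient : IsSimpleGroup (Co0 ⧸ Subgroup.center Co0) := by
  haveI := isPreprimitive_cosets
  refine Cfsg.Agent.Classical.Iwasawa.isSimpleGroup_center_quotient iwasawa commutator_eq_top
    (fun g hg => core_le_center ?_) ⟨xi, fun h => xi_notMem ?_⟩
  · intro b
    have := hg ((b⁻¹ : Co0) : Co0 ⧸ crossStab)
    rw [MulAction.Quotient.smul_coe, smul_eq_mul, QuotientGroup.eq] at this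
    have h2 := inv_mem this
    simpa [mul_assoc] using h2
  · rcases center_eq xi h with e | e <;> rw [e]
    · exact one_mem _
    · exact sign_mem_crossStab univ univ_mem

theorem card_quotient : Nat.card (Co0 ⧸ Subgroup.center Co0) = 4157776806543360000 := by
  have h := Subgroup.card_eq_card_quotient_mul_card_subgroup (Subgroup.center Co0)
  rw [card_Co0, card_center] at h
  omega

theorem isCo1_quotient : IsCo1 (Co0 ⧸ Subgroup.center Co0) := ⟨isSimple_quotient, card_quotient⟩

end Cfsg.Agent.LeechAut.Co1
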