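import Cfsg.Agent.Lib.LeechAut.Shapes
import Cfsg.Agent.Lib.Golay.Trans

/-!
`Co0` is transitive on the lattice vectors of squared length 32, of 48 and of 64.
-/

set_option autoImplicit false
set_option maxRecDepth 10000

namespace Cfsg.Agent.LeechAut.Shells

open Cfsg Cfsg.Agent.Golay.Basic Cfsg.Agent.Golay.Design Cfsg.Agent.Golay.Trans Cfsg.Agent.Leech.Basic
  Cfsg.Agent.Leech.Index Cfsg.Agent.LeechAut.Gens Cfsg.Agent.LeechAut.Basic Cfsg.Agent.LeechAut.Shapes
  Cfsg.Agent.LeechAut.ShapeData Finset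
open scoped Pointwise

/-- The points of a given absolute value. -/
def atVal (x : Vec) (k : ℤ) : Finset GolayPt := univ.filter fun p => |x p| = k

theorem mem_atVal {x : Vec} {k : ℤ} {p : GolayPt} : p ∈ atVal x k ↔ |x p| = k := by simp [atVal]

theorem abs_le_eight {x : Vec} {N : ℤ} (h : sqNorm x = N) (hN : N ≤ 64) (p : GolayPt) : |x p| ≤ 8 := by
  have h1 : x p ^ 2 ≤ sqNorm x := Finset.single_le_sum (fun i _ => sq_nonneg (x i)) (mem_univ p)
  have : |x p| ^ 2 ≤ 8 ^ 2 := by rw [sq_abs]; omega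
  exact le_of_sq_le_sq (by linarith) (by norm_num) |>.trans le_rfl

theorem sum_fibre (x : Vec) (hb : ∀ p, |x p| ≤ 8) (f : ℤ → ℤ) :
    ∑ p, f |x p| = ∑ k ∈ Finset.range 9, ((atVal x k).card : ℤ) * f k := by
  rw [← Finset.sum_fiberwise_of_maps_to (t := Finset.range 9) (g := fun p => (|x p|).natAbs) (fun p _ => by
    have := hb p; have := abs_nonneg (x p)
    rw [mem_range]; omega)]
  refine sum_congr rfl fun k _ => ?_
  have e : (univ.filter fun p => (|x p|).natAbs = k) = atVal x k := by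
    ext p
    rw [mem_atVal, mem_filter]
    have := abs_nonneg (x p)
    simp only [mem_univ, true_and]
    omega
  rw [e, sum_congr rfl fun p hp => by rw [mem_atVal.1 hp], sum_const, nsmul_eq_mul]

theorem exists_map_list (l' l : List GolayPt) (hn' : l'.Nodup) (hn : l.Nodup)
    (hlen : l'.length = l.length) (h5 : l'.length ≤ 5) :
    ∃ σ ∈ M24, l'.map σ = l := by
  obtain ⟨σ, hσ, h⟩ := Cfsg.Agent.Golay.M24.exists_map_tuple h5
    ⟨fun i => l'[i.1], fun i j e => Fin.ext (hn'.getElem_inj_iff.1 e)⟩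
    ⟨fun i => l[i.1]'(hlen ▸ i.2), fun i j e => Fin.ext (hn.getElem_inj_iff.1 e)⟩
  exact ⟨σ, hσ, List.ext_getElem (by simp [hlen]) fun i h1 h2 => by
    rw [List.getElem_map]; exact h ⟨i, by simpa using h1⟩⟩

theorem canon_points {x : Vec} {v w b : ℤ} (S0 T0 : Finset GolayPt) (hdisj : Disjoint S0 T0)
    (h5 : S0.card + T0.card ≤ 5) (hvw : v ≠ w) (hS : (atVal x v).card = S0.card)
    (hT : (atVal x w).card = T0.card) (hb : ∀ p, p ∉ atVal x v → p ∉ atVal x w → |x p| = b) :
    ∃ σ ∈ M24, (fun p => |x (σ p)|) = fun p => if p ∈ S0 then v else if p ∈ T0 then w else b := by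
  classical
  have hd : Disjoint (atVal x v) (atVal x w) := Finset.disjoint_left.2 fun p h1 h2 =>
    hvw ((mem_atVal.1 h1).symm.trans (mem_atVal.1 h2))
  obtain ⟨σ, hσ, e⟩ := exists_map_list (S0.toList ++ T0.toList) ((atVal x v).toList ++ (atVal x w).toList)
    (S0.nodup_toList.append T0.nodup_toList (fun p h1 h2 => Finset.disjoint_left.1 hdisj
      (mem_toList.1 h1) (mem_toList.1 h2)))
    ((atVal x v).nodup_toList.append (atVal x w).nodup_toList (fun p h1 h2 => Finset.disjoint_left.1 hd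
      (mem_toList.1 h1) (mem_toList.1 h2)))
    (by simp [hS, hT]) (by simpa using h5)
  rw [List.map_append] at e
  obtain ⟨e1, e2⟩ := List.append_inj e (by simp [hS])
  have key : ∀ (A : Finset GolayPt) (B : Finset GolayPt), A.toList.map σ = B.toList →
      ∀ p, σ p ∈ B ↔ p ∈ A := fun A B eAB p => by
    rw [← mem_toList, ← eAB, List.mem_map, ← mem_toList (s := A)]
    exact ⟨fun ⟨q, hq, he⟩ => σ.injective he ▸ hq, fun h => ⟨p, h, rfl⟩⟩
  refine ⟨σ, hσ, funext fun p => ?_⟩
  by_cases h1 : p ∈ S0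
  · rw [if_pos h1]; exact mem_atVal.1 ((key _ _ e1 p).2 h1)
  rw [if_neg h1]
  by_cases h2 : p ∈ T0
  · rw [if_pos h2]; exact mem_atVal.1 ((key _ _ e2 p).2 h2)
  rw [if_neg h2]
  exact hb _ (fun h => h1 ((key _ _ e1 p).1 h)) fun h => h2 ((key _ _ e2 p).1 h)

theorem to_target {T : List Entry} {t : Vec} (hT : T.all (entryOK (lst t)) = true) {v : leechLattice}
    {σ : Equiv.Perm GolayPt} (hσ : σ ∈ M24) {A : Vec} (hA : (fun p => |(v : Vec) (σ p)|) = A)
    (hmem : lst A ∈ T.map fun e => e.1.map fun a : ℕ => (a : ℤ)) :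
    ∃ g : Co0, ((g • v : leechLattice) : Vec) = t := by
  obtain ⟨g, hg⟩ := table_sound hT (v := perm σ hσ • v) (by
    simp only [perm_smul]; rwa [hA])
  exact ⟨g * perm σ hσ, by rw [mul_smul]; exact hg⟩

/-- The code word of the entries congruent to two. -/
theorem even_class {x : Vec} (hx : x ∈ leechLattice) (hb : ∀ p, |x p| ≤ 8) (he : x none % 2 = 0) :
    atVal x 2 ∪ atVal x 6 ∈ codeSets ∧ (atVal x 1).card = 0 ∧ (atVal x 3).card = 0 ∧
      (atVal x 5).card = 0 ∧ (atVal x 7).card = 0 ∧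
      (atVal x 2 ∪ atVal x 6 = ∅ → 2 ∣ (atVal x 4).card) := by
  classical
  obtain ⟨m, c, y, hm, hc, hxs, hs⟩ := mem_lattice_iff.1 hx
  have hm0 : m = 0 := by
    have := hxs none
    omega
  subst hm0
  have e : atVal x 2 ∪ atVal x 6 = c := by
    ext p
    have h1 := hxs p
    have h2 := hb p
    simp only [mem_union, mem_atVal]
    unfold ind at h1
    rcases abs_cases (x p) with ⟨e1, e2⟩ | ⟨e1, e2⟩ <;> rw [e1] at h2 ⊢ <;> split_ifs at h1 with hp <;>
      simp only [hp, iff_true, iff_false] <;> omega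
  have hnone : ∀ k : ℤ, k % 2 = 1 → (atVal x k).card = 0 := fun k hk => Finset.card_eq_zero.2
    (Finset.eq_empty_of_forall_notMem fun p hp => by
      have h1 := hxs p
      rw [mem_atVal] at hp
      rcases abs_cases (x p) with ⟨e1, e2⟩ | ⟨e1, e2⟩ <;> rw [e1] at hp <;> omega)
  refine ⟨e.symm ▸ hc, hnone 1 rfl, hnone 3 rfl, hnone 5 rfl, hnone 7 rfl, fun h0 => ?_⟩
  rw [e] at h0
  subst h0
  have hy : ((∑ p, y p : ℤ) : ZMod 2) = ((atVal x 4).card : ZMod 2) := by
    have hsum : ((atVal x 4).card : ZMod 2) = ∑ p, if p ∈ atVal x 4 then 1 else 0 := by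
      rw [Finset.sum_boole, Finset.filter_univ_mem]
    rw [hsum, Int.cast_sum]
    refine sum_congr rfl fun p _ => ?_
    have h1 := hxs p
    have h2 := hb p
    simp only [ind, Finset.notMem_empty, if_false] at h1
    by_cases h4 : p ∈ atVal x 4
    · rw [if_pos h4]
      rw [mem_atVal] at h4
      rw [← Int.cast_one, ZMod.intCast_eq_intCast_iff']
      rcases abs_cases (x p) with ⟨e1, e2⟩ | ⟨e1, e2⟩ <;> rw [e1] at h4 <;> omega
    · rw [if_neg h4]
      rw [mem_atVal] at h4
      rw [← Int.cast_zero, ZMod.intCast_eq_intCast_iff']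
      rcases abs_cases (x p) with ⟨e1, e2⟩ | ⟨e1, e2⟩ <;> rw [e1] at h4 h2 <;> omega
  have hev : (2 : ℤ) ∣ ∑ p, y p := by
    simp only [hxs, ind, Finset.notMem_empty, if_false, mul_zero, add_zero, zero_add, ← mul_sum] at hs
    omega
  rw [(ZMod.intCast_zmod_eq_zero_iff_dvd _ 2).2 hev] at hy
  exact (ZMod.natCast_eq_zero_iff_even.1 hy.symm).two_dvd

theorem odd_class {x : Vec} (hx : x ∈ leechLattice) (he : x none % 2 = 1) :
    (atVal x 0).card = 0 ∧ (atVal x 2).card = 0 ∧ (atVal x 4).card = 0 ∧ (atVal x 6).card = 0 ∧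
      (atVal x 8).card = 0 := by
  obtain ⟨m, c, y, hm, hc, hxs, hs⟩ := mem_lattice_iff.1 hx
  have hm1 : m = 1 := by
    have := hxs none
    omega
  subst hm1
  have hnone : ∀ k : ℤ, k % 2 = 0 → (atVal x k).card = 0 := fun k hk => Finset.card_eq_zero.2
    (Finset.eq_empty_of_forall_notMem fun p hp => by
      have h1 := hxs p
      rw [mem_atVal] at hp
      rcases abs_cases (x p) with ⟨e1, e2⟩ | ⟨e1, e2⟩ <;> rw [e1] at hp <;> omega)
  exact ⟨hnone 0 rfl, hnone 2 rfl, hnone 4 rfl, hnone 6 rfl, hnone 8 rfl⟩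

/-- The equations on the numbers of entries of each absolute value. -/
theorem counts {x : Vec} {N : ℤ} (h : sqNorm x = N) (hN : N ≤ 64) :
    ((atVal x 0).card + (atVal x 1).card + (atVal x 2).card + (atVal x 3).card + (atVal x 4).card +
      (atVal x 5).card + (atVal x 6).card + (atVal x 7).card + (atVal x 8).card : ℤ) = 24 ∧
    ((atVal x 1).card + 4 * (atVal x 2).card + 9 * (atVal x 3).card + 16 * (atVal x 4).card +
      25 * (atVal x 5).card + 36 * (atVal x 6).card + 49 * (atVal x 7).card + 64 * (atVal x 8).card : ℤ) = N := by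
  have hb := abs_le_eight h hN
  have h1 := sum_fibre x hb (fun _ => 1)
  have h2 := sum_fibre x hb (fun a => a ^ 2)
  simp only [sum_range_succ, sum_range_zero, mul_one, zero_add, sum_const, card_univ, nsmul_eq_mul] at h1
  rw [show Fintype.card GolayPt = 24 by decide] at h1
  simp only [sum_range_succ, sum_range_zero, sq_abs, zero_add] at h2
  rw [show ∑ p, x p ^ 2 = N from h] at h2
  constructor
  · simpa using h1.symm
  · norm_num at h2 ⊢; linarith

theorem rest_val {x : Vec} (hb : ∀ p, |x p| ≤ 8) (b : ℤ) {p : GolayPt}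
    (h : ∀ k ∈ [(0 : ℤ), 1, 2, 3, 4, 5, 6, 7, 8], k ≠ b → p ∉ atVal x k) : |x p| = b := by
  by_contra hne
  have h0 := abs_nonneg (x p)
  have h1 := hb p
  refine h |x p| ?_ hne (mem_atVal.2 rfl)
  simp only [List.mem_cons, List.not_mem_nil, or_false]
  omega

/-- Two points, four, five and three, at standard positions. -/
def stdSet : ℕ → Finset GolayPt
  | 1 => {none}
  | 2 => {pt 0, none}
  | 3 => {pt 0, pt 1, none}
  | 4 => {pt 0, pt 1, pt 2, none}
  | 5 => {pt 0, pt 1, pt 2, pt 3, none}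
  | _ => ∅

/-- A mask of twos with up to two further entries. -/
def mkVec (m : ℕ) (p q : GolayPt) (a b : ℤ) : Vec :=
  fun i => if i = p then a else if i = q then b else if m.testBit (ix i) then 2 else 0

/-- The normal forms. -/
def forms (T : List Entry) : List (List ℤ) := T.map fun e => e.1.map fun a : ℕ => (a : ℤ)

theorem point_forms :
    lst (fun p => if p ∈ stdSet 2 then (4 : ℤ) else if p ∈ (∅ : Finset GolayPt) then 9 else 0) ∈ forms table32 ∧
    lst (fun p => if p ∈ stdSet 1 then (3 : ℤ) else if p ∈ (∅ : Finset GolayPt) then 9 else 1) ∈ forms table32 ∧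
    lst (fun p => if p ∈ stdSet 1 then (5 : ℤ) else if p ∈ (∅ : Finset GolayPt) then 9 else 1) ∈ forms table48 ∧
    lst (fun p => if p ∈ stdSet 3 then (3 : ℤ) else if p ∈ (∅ : Finset GolayPt) then 9 else 1) ∈ forms table48 ∧
    lst (fun p => if p ∈ stdSet 1 then (8 : ℤ) else if p ∈ (∅ : Finset GolayPt) then 9 else 0) ∈ forms table64 ∧
    lst (fun p => if p ∈ stdSet 4 then (4 : ℤ) else if p ∈ (∅ : Finset GolayPt) then 9 else 0) ∈ forms table64 ∧
    lst (fun p => if p ∈ stdSet 5 then (3 : ℤ) else if p ∈ (∅ : Finset GolayPt) then 9 else 1) ∈ forms table64 ∧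
    lst (fun p => if p ∈ stdSet 1 then (5 : ℤ) else if p ∈ ({pt 0, pt 1} : Finset GolayPt) then 3 else 1) ∈
      forms table64 := by decide +kernel

theorem mask_forms :
    lst (fun i => if (5279 : ℕ).testBit (ix i) then (2 : ℤ) else 0) ∈ forms table32 ∧
    lst (fun i => if (165759 : ℕ).testBit (ix i) then (2 : ℤ) else 0) ∈ forms table48 ∧
    lst (fun i => if (5279 : ℕ).testBit (ix i) then (0 : ℤ) else 2) ∈ forms table64 := by decide +kernel

theorem octad_point_forms :
    ∀ p : GolayPt, (5279 : ℕ).testBit (ix p) = false → lst (mkVec 5279 p p 4 4) ∈ forms table48 := by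
  decide +kernel

theorem octad_six_forms :
    ∀ p : GolayPt, (5279 : ℕ).testBit (ix p) = true → lst (mkVec 5279 p p 6 6) ∈ forms table64 := by
  decide +kernel

theorem dodecad_point_forms :
    ∀ p : GolayPt, (165759 : ℕ).testBit (ix p) = false → lst (mkVec 165759 p p 4 4) ∈ forms table64 := by
  decide +kernel

set_option synthInstance.maxSize 2000 in
theorem octad_pair_forms :
    ∀ p : GolayPt, (5279 : ℕ).testBit (ix p) = false → ∀ q : GolayPt,
      (5279 : ℕ).testBit (ix q) = false → p ≠ q → lst (mkVec 5279 p q 4 4) ∈ forms table64 := by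
  decide +kernel

/-- Moving the twos (and sixes) to a standard code word. -/
theorem canon_code {x : Vec} {m : ℕ} (hc : atVal x 2 ∪ atVal x 6 ∈ codeSets)
    (hcard : ((atVal x 2 ∪ atVal x 6).card = 8 ∧ m = 5279) ∨ ((atVal x 2 ∪ atVal x 6).card = 12 ∧ m = 165759)) :
    ∃ σ ∈ M24, ∀ p, m.testBit (ix p) = true ↔ (σ p ∈ atVal x 2 ∪ atVal x 6) := by
  rcases hcard with ⟨h, rfl⟩ | ⟨h, rfl⟩
  · obtain ⟨σ, hσ, e⟩ := octads_transitive (o := maskSet 5279)
      (mem_octads_iff.2 (by decide +kernel)) (o' := atVal x 2 ∪ atVal x 6) ⟨hc, h⟩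
    exact ⟨σ, hσ, fun p => by rw [← e, Cfsg.Agent.Golay.M24.mem_smul_iff, mem_maskSet]⟩
  · obtain ⟨σ, hσ, e⟩ := dodecads_transitive (baseDodecad_mem) (d' := atVal x 2 ∪ atVal x 6) ⟨hc, h⟩
    exact ⟨σ, hσ, fun p => by
      rw [← e, Cfsg.Agent.Golay.M24.mem_smul_iff, mem_maskSet]; rfl⟩

theorem exists_one {s : Finset GolayPt} (h : s.card = 1) : ∃ a, s = {a} := Finset.card_eq_one.1 h

theorem to32 (v : leechLattice) (h : sqNorm (v : Vec) = 32) :
    ∃ g : Co0, ((g • v : leechLattice) : Vec) = target32 := by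
  classical
  have hb := abs_le_eight h (by norm_num)
  obtain ⟨hc1, hc2⟩ := counts h (by norm_num)
  rcases Int.emod_two_eq_zero_or_one ((v : Vec) none) with he | he
  · obtain ⟨hc, n1, n3, n5, n7, hpar⟩ := even_class v.2 hb he
    have hw := weights_supports hc
    have hcu : (atVal (v : Vec) 2 ∪ atVal (v : Vec) 6).card =
        (atVal (v : Vec) 2).card + (atVal (v : Vec) 6).card :=
      card_union_of_disjoint (Finset.disjoint_left.2 fun p h1 h2 => by
        rw [mem_atVal] at h1 h2; omega)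
    have hcases : ((atVal (v : Vec) 4).card = 2 ∧ (atVal (v : Vec) 2).card = 0 ∧
          (atVal (v : Vec) 6).card = 0 ∧ (atVal (v : Vec) 8).card = 0) ∨
        ((atVal (v : Vec) 4).card = 0 ∧ (atVal (v : Vec) 2).card = 8 ∧
          (atVal (v : Vec) 6).card = 0 ∧ (atVal (v : Vec) 8).card = 0) := by omega
    rcases hcases with ⟨h4, h2, h6, h8⟩ | ⟨h4, h2, h6, h8⟩ <;>
      simp only [Finset.card_eq_zero] at h2 h4 h6 h8 n1 n3 n5 n7
    · obtain ⟨σ, hσ, e⟩ := canon_points (x := (v : Vec)) (v := 4) (w := 9) (b := 0) (stdSet 2) ∅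
        (disjoint_empty_right _) (by decide) (by norm_num) (by rw [h4]; decide)
        (by rw [Finset.card_eq_zero.2 (Finset.eq_empty_of_forall_notMem fun p hp => by
          have := hb p; rw [mem_atVal] at hp; omega)]; rfl)
        (fun p hp _ => rest_val hb 0 fun k hk hk0 => by
          simp only [List.mem_cons, List.not_mem_nil, or_false] at hk
          rcases hk with rfl | rfl | rfl | rfl | rfl | rfl | rfl | rfl | rfl <;> simp_all)
      exact to_target table32_ok hσ e point_forms.1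
    · obtain ⟨σ, hσ, hiff⟩ := canon_code (m := 5279) hc (Or.inl ⟨by rw [hcu, h2, h6]; rfl, rfl⟩)
      refine to_target table32_ok hσ (funext fun p => ?_) mask_forms.1
      by_cases hp : (5279 : ℕ).testBit (ix p) = true
      · rw [if_pos hp]
        have := (hiff p).1 hp
        rw [h6, union_empty] at this
        exact mem_atVal.1 this
      · rw [if_neg hp]
        refine rest_val hb 0 fun k hk hk0 => ?_
        have hn := mt (hiff p).2 hp
        simp only [List.mem_cons, List.not_mem_nil, or_false] at hk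
        rcases hk with rfl | rfl | rfl | rfl | rfl | rfl | rfl | rfl | rfl <;> simp_all
  · obtain ⟨n0, n2, n4, n6, n8⟩ := odd_class v.2 he
    have hcases : (atVal (v : Vec) 3).card = 1 ∧ (atVal (v : Vec) 5).card = 0 ∧ (atVal (v : Vec) 7).card = 0 := by
      omega
    obtain ⟨h3, h5, h7⟩ := hcases
    simp only [Finset.card_eq_zero] at n0 n2 n4 n6 n8 h5 h7
    obtain ⟨σ, hσ, e⟩ := canon_points (x := (v : Vec)) (v := 3) (w := 9) (b := 1) (stdSet 1) ∅
      (disjoint_empty_right _) (by decide) (by norm_num) (by rw [h3]; decide)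
      (by rw [Finset.card_eq_zero.2 (Finset.eq_empty_of_forall_notMem fun p hp => by
        have := hb p; rw [mem_atVal] at hp; omega)]; rfl)
      (fun p hp _ => rest_val hb 1 fun k hk hk0 => by
        simp only [List.mem_cons, List.not_mem_nil, or_false] at hk
        rcases hk with rfl | rfl | rfl | rfl | rfl | rfl | rfl | rfl | rfl <;> simp_all)
    exact to_target table32_ok hσ e point_forms.2.1

theorem no_nine {x : Vec} (hb : ∀ p, |x p| ≤ 8) : (atVal x 9).card = 0 :=
  Finset.card_eq_zero.2 (Finset.eq_empty_of_forall_notMem fun p hp => by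
    have := hb p; rw [mem_atVal] at hp; omega)

theorem union_card (x : Vec) :
    (atVal x 2 ∪ atVal x 6).card = (atVal x 2).card + (atVal x 6).card :=
  card_union_of_disjoint (Finset.disjoint_left.2 fun p h1 h2 => by rw [mem_atVal] at h1 h2; omega)

theorem rest_even {x : Vec} (hb : ∀ p, |x p| ≤ 8) (hodd : ∀ k ∈ [(1 : ℤ), 3, 5, 7], atVal x k = ∅)
    {p : GolayPt} (h2 : p ∉ atVal x 2) (h4 : p ∉ atVal x 4) (h6 : p ∉ atVal x 6) (h8 : p ∉ atVal x 8) :
    |x p| = 0 := rest_val hb 0 fun k hk hk0 => by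
  simp only [List.mem_cons, List.not_mem_nil, or_false] at hk
  rcases hk with rfl | rfl | rfl | rfl | rfl | rfl | rfl | rfl | rfl <;>
    first | contradiction | assumption | (rw [hodd _ (by simp)]; exact Finset.notMem_empty _)

theorem rest_odd {x : Vec} (hb : ∀ p, |x p| ≤ 8) (hev : ∀ k ∈ [(0 : ℤ), 2, 4, 6, 8], atVal x k = ∅)
    {p : GolayPt} (h3 : p ∉ atVal x 3) (h5 : p ∉ atVal x 5) (h7 : p ∉ atVal x 7) :
    |x p| = 1 := rest_val hb 1 fun k hk hk0 => by
  simp only [List.mem_cons, List.not_mem_nil, or_false] at hk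
  rcases hk with rfl | rfl | rfl | rfl | rfl | rfl | rfl | rfl | rfl <;>
    first | contradiction | assumption | (rw [hev _ (by simp)]; exact Finset.notMem_empty _)

theorem code_twos {x : Vec} (hb : ∀ p, |x p| ≤ 8) (hodd : ∀ k ∈ [(1 : ℤ), 3, 5, 7], atVal x k = ∅)
    {m : ℕ} {σ : Equiv.Perm GolayPt} (hiff : ∀ p, m.testBit (ix p) = true ↔ (σ p ∈ atVal x 2 ∪ atVal x 6))
    (p q : GolayPt) (u w : ℤ) (h6 : ∀ z, z ∈ atVal x 6 → z = σ p ∨ z = σ q)
    (h4 : ∀ z, z ∈ atVal x 4 → z = σ p ∨ z = σ q) (h8 : atVal x 8 = ∅)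
    (hp : |x (σ p)| = u) (hq : |x (σ q)| = w) :
    (fun i => |x (σ i)|) = mkVec m p q u w := by
  funext i
  unfold mkVec
  by_cases h1 : i = p
  · rw [if_pos h1, h1]; exact hp
  rw [if_neg h1]
  by_cases h2 : i = q
  · rw [if_pos h2, h2]; exact hq
  rw [if_neg h2]
  have hne : ∀ z, z = σ p ∨ z = σ q → z ≠ σ i := by
    rintro z (rfl | rfl) e
    · exact h1 (σ.injective e).symm
    · exact h2 (σ.injective e).symm
  have n6 : σ i ∉ atVal x 6 := fun h => hne _ (h6 _ h) rfl
  by_cases hm : m.testBit (ix i) = true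
  · rw [if_pos hm]
    exact mem_atVal.1 ((mem_union.1 ((hiff i).1 hm)).resolve_right n6)
  · rw [if_neg hm]
    exact rest_even hb hodd (fun h => hm ((hiff i).2 (mem_union_left _ h)))
      (fun h => hne _ (h4 _ h) rfl) n6 (by rw [h8]; exact Finset.notMem_empty _)

theorem to48 (v : leechLattice) (h : sqNorm (v : Vec) = 48) :
    ∃ g : Co0, ((g • v : leechLattice) : Vec) = target48 := by
  classical
  have hb := abs_le_eight h (by norm_num)
  obtain ⟨hc1, hc2⟩ := counts h (by norm_num)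
  have h9 := no_nine hb
  rcases Int.emod_two_eq_zero_or_one ((v : Vec) none) with he | he
  · obtain ⟨hc, n1, n3, n5, n7, hpar⟩ := even_class v.2 hb he
    have hw := weights_supports hc
    have hcu := union_card (v : Vec)
    have hz : (atVal (v : Vec) 2).card + (atVal (v : Vec) 6).card = 0 →
        2 ∣ (atVal (v : Vec) 4).card := fun hz => hpar (Finset.card_eq_zero.1 (by omega))
    have hcases : ((atVal (v : Vec) 2).card = 12 ∧ (atVal (v : Vec) 4).card = 0 ∧
          (atVal (v : Vec) 6).card = 0 ∧ (atVal (v : Vec) 8).card = 0) ∨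
        ((atVal (v : Vec) 2).card = 8 ∧ (atVal (v : Vec) 4).card = 1 ∧
          (atVal (v : Vec) 6).card = 0 ∧ (atVal (v : Vec) 8).card = 0) := by omega
    simp only [Finset.card_eq_zero] at n1 n3 n5 n7
    have hodd : ∀ k ∈ [(1 : ℤ), 3, 5, 7], atVal (v : Vec) k = ∅ := by simp [n1, n3, n5, n7]
    rcases hcases with ⟨h2, h4, h6, h8⟩ | ⟨h2, h4, h6, h8⟩
    · obtain ⟨σ, hσ, hiff⟩ := canon_code (m := 165759) hc (Or.inr ⟨by omega, rfl⟩)
      simp only [Finset.card_eq_zero] at h4 h6 h8
      refine to_target table48_ok hσ (funext fun p => ?_) mask_forms.2.1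
      by_cases hp : (165759 : ℕ).testBit (ix p) = true
      · rw [if_pos hp]
        have := (hiff p).1 hp
        rw [h6, union_empty] at this
        exact mem_atVal.1 this
      · rw [if_neg hp]
        exact rest_even hb hodd (fun h => hp ((hiff p).2 (mem_union_left _ h))) (by simp [h4])
          (by simp [h6]) (by simp [h8])
    · obtain ⟨σ, hσ, hiff⟩ := canon_code (m := 5279) hc (Or.inl ⟨by omega, rfl⟩)
      obtain ⟨a, ha⟩ := Finset.card_eq_one.1 h4
      simp only [Finset.card_eq_zero] at h6 h8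
      have hav : |(v : Vec) a| = 4 := mem_atVal.1 (ha ▸ mem_singleton_self a)
      have e := code_twos hb hodd hiff (σ⁻¹ a) (σ⁻¹ a) 4 4 (by simp [h6])
        (fun z hz => by rw [ha, mem_singleton] at hz; simp [hz]) h8 (by simpa using hav) (by simpa using hav)
      refine to_target table48_ok hσ e (octad_point_forms _ ?_)
      by_contra hp
      have := (hiff (σ⁻¹ a)).1 (by simpa using hp)
      rw [h6, union_empty, mem_atVal] at this
      simp at this
      omega
  · obtain ⟨n0, n2, n4, n6, n8⟩ := odd_class v.2 he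
    have hcases : ((atVal (v : Vec) 5).card = 1 ∧ (atVal (v : Vec) 3).card = 0 ∧ (atVal (v : Vec) 7).card = 0) ∨
        ((atVal (v : Vec) 3).card = 3 ∧ (atVal (v : Vec) 5).card = 0 ∧ (atVal (v : Vec) 7).card = 0) := by
      omega
    simp only [Finset.card_eq_zero] at n0 n2 n4 n6 n8
    have hev : ∀ k ∈ [(0 : ℤ), 2, 4, 6, 8], atVal (v : Vec) k = ∅ := by simp [n0, n2, n4, n6, n8]
    rcases hcases with ⟨h5, h3, h7⟩ | ⟨h3, h5, h7⟩
    · obtain ⟨σ, hσ, e⟩ := canon_points (x := (v : Vec)) (v := 5) (w := 9) (b := 1) (stdSet 1) ∅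
        (disjoint_empty_right _) (by decide) (by norm_num) (by rw [h5]; decide) (by rw [h9]; rfl)
        (fun p hp _ => rest_odd hb hev (by simp [Finset.card_eq_zero.1 h3]) hp (by simp [Finset.card_eq_zero.1 h7]))
      exact to_target table48_ok hσ e point_forms.2.2.1
    · obtain ⟨σ, hσ, e⟩ := canon_points (x := (v : Vec)) (v := 3) (w := 9) (b := 1) (stdSet 3) ∅
        (disjoint_empty_right _) (by decide) (by norm_num) (by rw [h3]; decide) (by rw [h9]; rfl)
        (fun p hp _ => rest_odd hb hev hp (by simp [Finset.card_eq_zero.1 h5]) (by simp [Finset.card_eq_zero.1 h7]))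
      exact to_target table48_ok hσ e point_forms.2.2.2.1

theorem shapes64 (a b c d : ℕ) (h : 4 * a + 16 * b + 36 * c + 64 * d = 64)
    (hw : a + c = 0 ∨ a + c = 8 ∨ a + c = 12 ∨ a + c = 16 ∨ a + c = 24) :
    (d = 1 ∧ a = 0 ∧ b = 0 ∧ c = 0) ∨ (b = 4 ∧ a = 0 ∧ c = 0 ∧ d = 0) ∨
    (a = 16 ∧ b = 0 ∧ c = 0 ∧ d = 0) ∨ (a = 12 ∧ b = 1 ∧ c = 0 ∧ d = 0) ∨
    (a = 8 ∧ b = 2 ∧ c = 0 ∧ d = 0) ∨ (a = 7 ∧ c = 1 ∧ b = 0 ∧ d = 0) := by
  have hb : b ≤ 4 := by omega
  have hc : c ≤ 1 := by omega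
  have hd : d ≤ 1 := by omega
  interval_cases b <;> interval_cases c <;> interval_cases d <;> omega

theorem to64 (v : leechLattice) (h : sqNorm (v : Vec) = 64) :
    ∃ g : Co0, ((g • v : leechLattice) : Vec) = target64 := by
  classical
  have hb := abs_le_eight h le_rfl
  obtain ⟨hc1, hc2⟩ := counts h le_rfl
  have h9 := no_nine hb
  rcases Int.emod_two_eq_zero_or_one ((v : Vec) none) with he | he
  · obtain ⟨hc, n1, n3, n5, n7, hpar⟩ := even_class v.2 hb he
    have hw := weights_supports hc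
    have hcu := union_card (v : Vec)
    have hcases : ((atVal (v : Vec) 8).card = 1 ∧ (atVal (v : Vec) 2).card = 0 ∧
          (atVal (v : Vec) 4).card = 0 ∧ (atVal (v : Vec) 6).card = 0) ∨
        ((atVal (v : Vec) 4).card = 4 ∧ (atVal (v : Vec) 2).card = 0 ∧
          (atVal (v : Vec) 6).card = 0 ∧ (atVal (v : Vec) 8).card = 0) ∨
        ((atVal (v : Vec) 2).card = 16 ∧ (atVal (v : Vec) 4).card = 0 ∧
          (atVal (v : Vec) 6).card = 0 ∧ (atVal (v : Vec) 8).card = 0) ∨
        ((atVal (v : Vec) 2).card = 12 ∧ (atVal (v : Vec) 4).card = 1 ∧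
          (atVal (v : Vec) 6).card = 0 ∧ (atVal (v : Vec) 8).card = 0) ∨
        ((atVal (v : Vec) 2).card = 8 ∧ (atVal (v : Vec) 4).card = 2 ∧
          (atVal (v : Vec) 6).card = 0 ∧ (atVal (v : Vec) 8).card = 0) ∨
        ((atVal (v : Vec) 2).card = 7 ∧ (atVal (v : Vec) 6).card = 1 ∧
          (atVal (v : Vec) 4).card = 0 ∧ (atVal (v : Vec) 8).card = 0) := by
      rw [n1, n3, n5, n7] at hc2
      rw [hcu] at hw
      exact shapes64 _ _ _ _ (by omega) hw
    simp only [Finset.card_eq_zero] at n1 n3 n5 n7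
    have hodd : ∀ k ∈ [(1 : ℤ), 3, 5, 7], atVal (v : Vec) k = ∅ := by simp [n1, n3, n5, n7]
    rcases hcases with ⟨h8, h2, h4, h6⟩ | ⟨h4, h2, h6, h8⟩ | ⟨h2, h4, h6, h8⟩ | ⟨h2, h4, h6, h8⟩ |
      ⟨h2, h4, h6, h8⟩ | ⟨h2, h6, h4, h8⟩
    · obtain ⟨σ, hσ, e⟩ := canon_points (x := (v : Vec)) (v := 8) (w := 9) (b := 0) (stdSet 1) ∅
        (disjoint_empty_right _) (by decide) (by norm_num) (by rw [h8]; decide) (by rw [h9]; rfl)
        (fun p hp _ => rest_even hb hodd (by simp [Finset.card_eq_zero.1 h2]) (by simp [Finset.card_eq_zero.1 h4])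
          (by simp [Finset.card_eq_zero.1 h6]) hp)
      exact to_target table64_ok hσ e point_forms.2.2.2.2.1
    · obtain ⟨σ, hσ, e⟩ := canon_points (x := (v : Vec)) (v := 4) (w := 9) (b := 0) (stdSet 4) ∅
        (disjoint_empty_right _) (by decide) (by norm_num) (by rw [h4]; decide) (by rw [h9]; rfl)
        (fun p hp _ => rest_even hb hodd (by simp [Finset.card_eq_zero.1 h2]) hp
          (by simp [Finset.card_eq_zero.1 h6]) (by simp [Finset.card_eq_zero.1 h8]))
      exact to_target table64_ok hσ e point_forms.2.2.2.2.2.1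
    · simp only [Finset.card_eq_zero] at h4 h6 h8
      have hc' := compl_mem hc
      rw [h6, union_empty] at hc'
      have ho : (atVal (v : Vec) 2)ᶜ ∈ octads := ⟨hc', by
        rw [card_compl, h2, show Fintype.card GolayPt = 24 by decide]⟩
      obtain ⟨σ, hσ, e⟩ := octads_transitive (o := maskSet 5279) (mem_octads_iff.2 (by decide +kernel)) ho
      have hiff : ∀ p, (5279 : ℕ).testBit (ix p) = true ↔ σ p ∉ atVal (v : Vec) 2 := fun p => by
        rw [← mem_maskSet, ← Cfsg.Agent.Golay.M24.mem_smul_iff σ, e, mem_compl]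
      refine to_target table64_ok hσ (funext fun p => ?_) mask_forms.2.2
      by_cases hp : (5279 : ℕ).testBit (ix p) = true
      · rw [if_pos hp]
        exact rest_even hb hodd ((hiff p).1 hp) (by simp [h4]) (by simp [h6]) (by simp [h8])
      · rw [if_neg hp]
        exact mem_atVal.1 (by_contra fun h => hp ((hiff p).2 h))
    · obtain ⟨σ, hσ, hiff⟩ := canon_code (m := 165759) hc (Or.inr ⟨by omega, rfl⟩)
      obtain ⟨a, ha⟩ := Finset.card_eq_one.1 h4
      simp only [Finset.card_eq_zero] at h6 h8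
      have hav : |(v : Vec) a| = 4 := mem_atVal.1 (ha ▸ mem_singleton_self a)
      have e := code_twos hb hodd hiff (σ⁻¹ a) (σ⁻¹ a) 4 4 (by simp [h6])
        (fun z hz => by rw [ha, mem_singleton] at hz; simp [hz]) h8 (by simpa using hav) (by simpa using hav)
      refine to_target table64_ok hσ e (dodecad_point_forms _ ?_)
      by_contra hp
      have := (hiff (σ⁻¹ a)).1 (by simpa using hp)
      rw [h6, union_empty, mem_atVal] at this
      simp at this
      omega
    · obtain ⟨σ, hσ, hiff⟩ := canon_code (m := 5279) hc (Or.inl ⟨by omega, rfl⟩)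
      obtain ⟨a, b, hab, ha⟩ := Finset.card_eq_two.1 h4
      simp only [Finset.card_eq_zero] at h6 h8
      have hav : |(v : Vec) a| = 4 := mem_atVal.1 (ha ▸ mem_insert_self a _)
      have hbv : |(v : Vec) b| = 4 := mem_atVal.1 (ha ▸ mem_insert_of_mem (mem_singleton_self b))
      have e := code_twos hb hodd hiff (σ⁻¹ a) (σ⁻¹ b) 4 4 (by simp [h6])
        (fun z hz => by rw [ha, mem_insert, mem_singleton] at hz; simpa using hz) h8
        (by simpa using hav) (by simpa using hbv)
      have hout : ∀ c, |(v : Vec) c| = 4 → (5279 : ℕ).testBit (ix (σ⁻¹ c)) = false := by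
        intro c hc4
        by_contra hp
        have := (hiff (σ⁻¹ c)).1 (by simpa using hp)
        rw [h6, union_empty, mem_atVal] at this
        simp at this
        omega
      exact to_target table64_ok hσ e (octad_pair_forms _ (hout a hav) _ (hout b hbv)
        fun e => hab (σ⁻¹.injective e))
    · obtain ⟨σ, hσ, hiff⟩ := canon_code (m := 5279) hc (Or.inl ⟨by omega, rfl⟩)
      obtain ⟨a, ha⟩ := Finset.card_eq_one.1 h6
      simp only [Finset.card_eq_zero] at h4 h8
      have hav : |(v : Vec) a| = 6 := mem_atVal.1 (ha ▸ mem_singleton_self a)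
      have e := code_twos hb hodd hiff (σ⁻¹ a) (σ⁻¹ a) 6 6
        (fun z hz => by rw [ha, mem_singleton] at hz; simp [hz]) (by simp [h4]) h8
        (by simpa using hav) (by simpa using hav)
      refine to_target table64_ok hσ e (octad_six_forms _ ((hiff _).2 ?_))
      exact mem_union_right _ (mem_atVal.2 (by simpa using hav))
  · obtain ⟨n0, n2, n4, n6, n8⟩ := odd_class v.2 he
    have hcases : ((atVal (v : Vec) 3).card = 5 ∧ (atVal (v : Vec) 5).card = 0 ∧ (atVal (v : Vec) 7).card = 0) ∨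
        ((atVal (v : Vec) 5).card = 1 ∧ (atVal (v : Vec) 3).card = 2 ∧ (atVal (v : Vec) 7).card = 0) := by
      omega
    simp only [Finset.card_eq_zero] at n0 n2 n4 n6 n8
    have hev : ∀ k ∈ [(0 : ℤ), 2, 4, 6, 8], atVal (v : Vec) k = ∅ := by simp [n0, n2, n4, n6, n8]
    rcases hcases with ⟨h3, h5, h7⟩ | ⟨h5, h3, h7⟩
    · obtain ⟨σ, hσ, e⟩ := canon_points (x := (v : Vec)) (v := 3) (w := 9) (b := 1) (stdSet 5) ∅
        (disjoint_empty_right _) (by decide) (by norm_num) (by rw [h3]; decide) (by rw [h9]; rfl)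
        (fun p hp _ => rest_odd hb hev hp (by simp [Finset.card_eq_zero.1 h5]) (by simp [Finset.card_eq_zero.1 h7]))
      exact to_target table64_ok hσ e point_forms.2.2.2.2.2.2.1
    · obtain ⟨σ, hσ, e⟩ := canon_points (x := (v : Vec)) (v := 5) (w := 3) (b := 1) (stdSet 1) {pt 0, pt 1}
        (by decide +kernel) (by decide) (by norm_num) (by rw [h5]; decide) (by rw [h3]; decide)
        (fun p hp hq => rest_odd hb hev hq hp (by simp [Finset.card_eq_zero.1 h7]))
      exact to_target table64_ok hσ e point_forms.2.2.2.2.2.2.2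

theorem trans_of_target {N : ℤ} {t : Vec}
    (h : ∀ v : leechLattice, sqNorm (v : Vec) = N → ∃ g : Co0, ((g • v : leechLattice) : Vec) = t)
    (v w : leechLattice) (hv : sqNorm (v : Vec) = N) (hw : sqNorm (w : Vec) = N) :
    ∃ g : Co0, g • v = w := by
  obtain ⟨g, hg⟩ := h v hv
  obtain ⟨k, hk⟩ := h w hw
  refine ⟨k⁻¹ * g, ?_⟩
  rw [mul_smul, inv_smul_eq_iff]
  exact Subtype.ext (hg.trans hk.symm)

theorem transitive32 : ∀ v w : leechLattice, sqNorm (v : Vec) = 32 → sqNorm (w : Vec) = 32 →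
    ∃ g : Co0, g • v = w := trans_of_target to32

theorem transitive48 : ∀ v w : leechLattice, sqNorm (v : Vec) = 48 → sqNorm (w : Vec) = 48 →
    ∃ g : Co0, g • v = w := trans_of_target to48

theorem transitive64 : ∀ v w : leechLattice, sqNorm (v : Vec) = 64 → sqNorm (w : Vec) = 64 →
    ∃ g : Co0, g • v = w := trans_of_target to64

end Cfsg.Agent.LeechAut.Shells
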