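import Cfsg.Agent.Lib.Golay.Orbit

/-!
A two-generator subgroup of the stabiliser of two points in `M24`, transitive on the 330 octads
missing both.
-/

set_option autoImplicit false
set_option maxRecDepth 10000

namespace Cfsg.Agent.LeechAut.McLData

open Cfsg Cfsg.Agent.Golay.Basic Cfsg.Agent.Golay.Design Cfsg.Agent.Golay.Cert Cfsg.Agent.Golay.Orbit
open scoped Pointwise

/-- Generators fixing the extra point and zero. -/
def m22Gens : List ℕ := [981680118588881515037299327467331008, 979075654430005478239711957133592096]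

/-- The search tree on octads missing both points. -/
def farTree : List (ℕ × ℕ) := [(0, 0), (0, 0), (0, 0), (0, 0), (0, 1), (0, 0), (0, 0), (0, 0), (0, 0), (0, 1), (0, 0), (0, 0), (0, 0), (0, 0), (0, 1), (0, 0), (0, 0), (0, 0), (0, 0), (0, 1), (0, 0), (0, 0), (0, 0), (0, 0), (1, 1), (0, 0), (0, 0), (0, 0), (0, 0), (0, 1), (0, 0), (0, 0), (0, 0), (0, 0), (0, 1), (0, 0), (0, 0), (0, 0), (0, 0), (0, 1), (0, 0), (0, 0), (0, 0), (0, 0), (1, 1), (0, 0), (0, 0), (0, 0), (0, 0), (0, 1), (0, 0), (0, 0), (0, 0), (0, 0), (1, 1), (0, 0), (0, 0), (0, 0), (0, 0), (0, 1), (0, 0), (0, 0), (0, 0), (0, 0), (0, 1), (0, 0), (0, 0), (0, 0), (0, 0), (0, 1), (0, 0), (0, 0), (0, 0), (0, 0), (1, 1), (0, 0), (0, 0), (0, 0), (0, 0), (0, 1), (0, 0), (0, 0), (0, 0), (0, 0), (0, 1), (0, 0), (0, 0), (0, 0), (0, 0), (0, 1), (0, 0), (0, 0), (0, 0), (0, 0), (1, 1), (0, 0), (0, 0), (0, 0), (0, 0), (1, 1), (0, 0), (0, 0), (0, 0),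 (0, 0), (0, 1), (0, 0), (0, 0), (0, 0), (0, 0), (1, 1), (0, 0), (0, 0), (0, 0), (0, 0), (0, 1), (0, 0), (0, 0), (0, 0), (0, 0), (0, 1), (0, 0), (0, 0), (0, 0), (0, 0), (2, 1), (0, 0), (0, 0), (0, 0), (0, 0), (0, 1), (0, 0), (0, 0), (0, 0), (0, 0), (1, 1), (0, 0), (0, 0), (0, 0), (0, 0), (0, 1), (0, 0), (0, 0), (0, 0), (0, 0), (0, 1), (0, 0), (0, 0), (0, 0), (0, 0), (0, 1), (0, 0), (0, 0), (0, 0), (0, 0), (2, 1), (0, 0), (0, 0), (0, 0), (0, 0), (0, 1), (0, 0), (0, 0), (0, 0), (0, 0), (3, 1), (0, 0), (0, 0), (0, 0), (0, 0), (1, 1), (0, 0), (0, 0), (0, 0), (0, 0), (1, 1), (0, 0), (0, 0), (0, 0), (0, 0), (0, 1), (0, 0), (0, 0), (0, 0), (0, 0), (2, 1), (0, 0), (0, 0), (0, 0), (0, 0), (0, 1), (0, 0), (0, 0), (0, 0), (0, 0), (3, 1), (0, 0), (0, 0), (0, 0), (0, 0), (0, 1), (0, 0), (0, 0), (0, 0), (0, 0), (0, 1), (0, 0), (0, 0), (0, 0), (0, 0), (0, 1), (0, 0), (0, 0), (0, 0), (0, 0), (1, 1), (0, 0), (0, 0),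 (0, 0), (0, 0), (0, 1), (0, 0), (0, 0), (0, 0), (0, 0), (3, 1), (0, 0), (0, 0), (0, 0), (0, 0), (1, 1), (0, 0), (0, 0), (0, 0), (0, 0), (1, 1), (0, 0), (0, 0), (0, 0), (0, 0), (1, 1), (0, 0), (0, 0), (0, 0), (0, 0), (0, 1), (0, 0), (0, 0), (0, 0), (0, 0), (4, 1), (0, 0), (0, 0), (0, 0), (0, 0), (2, 1), (0, 0), (0, 0), (0, 0), (0, 0), (4, 1), (0, 0), (0, 0), (0, 0), (0, 0), (3, 1), (0, 0), (0, 0), (0, 0), (0, 0), (10, 1), (0, 0), (0, 0), (0, 0), (0, 0), (11, 1), (0, 0), (0, 0), (0, 0), (0, 0), (0, 1), (0, 0), (0, 0), (0, 0), (0, 0), (2, 1), (0, 0), (0, 0), (0, 0), (0, 0), (16, 1), (0, 0), (0, 0), (0, 0), (0, 0), (8, 1), (0, 0), (0, 0), (0, 0), (0, 0), (3, 1), (0, 0), (0, 0), (0, 0), (0, 0), (9, 1), (0, 0), (0, 0), (0, 0), (0, 0), (29, 1), (0, 0), (0, 0), (0, 0), (0, 0), (15, 1), (0, 0), (0, 0), (0, 0), (0, 0), (16, 1), (0, 0), (0, 0), (0, 0), (0, 0), (46, 1), (0, 0), (0, 0), (0, 0), (0, 0)]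

/-- Its root. -/
def farRoot : ℕ := 4845570

/-- The candidates. -/
def farCands : List ℕ := (weightList 8).filter fun m => !m.testBit 23 && !m.testBit 0

theorem far_ok : (m22Gens.all tabOK = true ∧ fixOK m22Gens [23, 0] = true) ∧
    (coverOK m22Gens farTree farRoot farCands = true ∧ farCands.length = 330) := by decide +kernel

theorem mem_farCands {o : Finset GolayPt} (ho : o ∈ octads) (hn : none ∉ o) (h0 : pt 0 ∉ o) :
    mask o ∈ farCands := by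
  rw [farCands, weightList, List.mem_filter, List.mem_filter]
  obtain ⟨h1, h2⟩ := mem_octads_iff.1 ho
  have e1 : (mask o).testBit 23 = decide (none ∈ o) := testBit_mask o none
  have e2 : (mask o).testBit 0 = decide (pt 0 ∈ o) := testBit_mask o (pt 0)
  rw [card_eq_pc] at h2
  simp [mem_codeList h1, h2, e1, e2, hn, h0]

theorem exists_far {o : Finset GolayPt} (ho : o ∈ octads) (hn : none ∉ o) (h0 : pt 0 ∉ o) :
    ∃ g ∈ M24, g none = none ∧ g (pt 0) = pt 0 ∧ g • maskSet farRoot = o := by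
  obtain ⟨⟨hX, hfix⟩, hcov, -⟩ := far_ok
  obtain ⟨g, hg, e⟩ := exists_of_cover hX (by decide +kernel) hcov (mem_farCands ho hn h0)
  exact ⟨g, tabGroup_le_M24 hX hg, tabGroup_fix hX hfix (i := 23) (by norm_num) (by simp) hg,
    tabGroup_fix hX hfix (i := 0) (by norm_num) (by simp) hg, e⟩

theorem ncard_far : {o : Finset GolayPt | o ∈ octads ∧ none ∉ o ∧ pt 0 ∉ o}.ncard = 330 :=
  ncard_code_filter' (fun m => pc m == 8 && (!m.testBit 23 && !m.testBit 0)) _ (fun s => by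
    have e1 : (mask s).testBit 23 = decide (none ∈ s) := testBit_mask s none
    have e2 : (mask s).testBit 0 = decide (pt 0 ∈ s) := testBit_mask s (pt 0)
    simp [mem_octads_iff, card_eq_pc, e1, e2, and_assoc]) _ (by decide +kernel)

theorem ncard_near : {o : Finset GolayPt | o ∈ octads ∧ none ∈ o ∧ pt 0 ∈ o}.ncard = 77 :=
  ncard_code_filter' (fun m => pc m == 8 && (m.testBit 23 && m.testBit 0)) _ (fun s => by
    have e1 : (mask s).testBit 23 = decide (none ∈ s) := testBit_mask s none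
    have e2 : (mask s).testBit 0 = decide (pt 0 ∈ s) := testBit_mask s (pt 0)
    simp [mem_octads_iff, card_eq_pc, e1, e2, and_assoc]) _ (by decide +kernel)

end Cfsg.Agent.LeechAut.McLData
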