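import Cfsg.Agent.Lib.LeechAut.Census
import Cfsg.Agent.Lib.LeechAut.Co1
import Cfsg.Agent.Lib.LeechAut.McLData
import Cfsg.Agent.S0379
import Cfsg.Prelude.Def_Sporadic

/-!
The McLaughlin group inside `Co0`: stabiliser of two vectors of squared length 32 with inner
product `-8`, acting on 2025 vectors with suborbits 1, 330, 462 and 1232; simplicity.
-/

set_option autoImplicit false
set_option maxRecDepth 10000

namespace Cfsg.Agent.LeechAut.McL

open Cfsg Cfsg.Agent.Golay.Basic Cfsg.Agent.Golay.Design Cfsg.Agent.Leech.Basic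
  Cfsg.Agent.Leech.Index Cfsg.Agent.LeechAut.Gens Cfsg.Agent.LeechAut.Basic
  Cfsg.Agent.LeechAut.Shells Cfsg.Agent.LeechAut.Cross Cfsg.Agent.LeechAut.Pairs
  Cfsg.Agent.LeechAut.Triples Cfsg.Agent.LeechAut.Moments Cfsg.Agent.LeechAut.Census Finset
open Cfsg.Agent.LeechAut.Co1 (permHom permHom_smul)
open scoped Pointwise

/-- `-3` at zero and `1` elsewhere. -/
def oneVec : Vec := fun p => if p = pt 0 then -3 else 1

/-- The partner of `v0`. -/
def w1 : leechLattice := ⟨oneVec, mem_of_inLat (by decide +kernel)⟩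

theorem w1_apply (p : GolayPt) : (w1 : Vec) p = if p = pt 0 then -3 else 1 := rfl

theorem w1_norm : sqNorm (w1 : Vec) = 32 := by
  show sqNorm oneVec = 32
  decide +kernel

theorem w1_none : (w1 : Vec) none = 1 := by rw [w1_apply, if_neg pt0_ne_none.symm]

theorem w1_zero : (w1 : Vec) (pt 0) = -3 := by rw [w1_apply, if_pos rfl]

theorem dot_v0w1 : dotInt (v0 : Vec) (w1 : Vec) = -8 := by
  rw [dot_v0, w1_none, w1_zero]; rfl

theorem w0_norm : sqNorm (w0 : Vec) = 32 := by
  show sqNorm orthVec = 32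
  decide +kernel

theorem w0_none : (w0 : Vec) none = 4 := by
  show orthVec none = 4
  decide +kernel

theorem dot_w1 (y : Vec) : dotInt (w1 : Vec) y = ∑ p, y p - 4 * y (pt 0) := by
  show ∑ p, oneVec p * y p = _
  have e : ∀ p, oneVec p * y p = y p - if p = pt 0 then 4 * y p else 0 := fun p => by
    by_cases h : p = pt 0
    · rw [oneVec, if_pos h, if_pos h]; ring
    · rw [oneVec, if_neg h, if_neg h]; ring
  rw [sum_congr rfl fun p _ => e p, sum_sub_distrib, sum_ite_eq' univ (pt 0) fun p => 4 * y p,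
    if_pos (mem_univ _)]

/-- The group. -/
def G : Subgroup Co0 := MulAction.stabilizer Co0 v0 ⊓ MulAction.stabilizer Co0 w1

theorem mem_G {g : Co0} : g ∈ G ↔ g • v0 = v0 ∧ g • w1 = w1 := by
  simp [G, MulAction.mem_stabilizer_iff]

/-- One of the 2025 vectors. -/
def InX (y : leechLattice) : Prop :=
  sqNorm (y : Vec) = 32 ∧ dotInt (v0 : Vec) (y : Vec) = 0 ∧ dotInt (w1 : Vec) (y : Vec) = 16

theorem inX_smul {g : Co0} (hg : g ∈ G) {y : leechLattice} (hy : InX y) : InX (g • y) := by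
  obtain ⟨h1, h2⟩ := mem_G.1 hg
  refine ⟨(sqNorm_smul g y).trans hy.1, ?_, ?_⟩
  · rw [← h1, dot_smul]; exact hy.2.1
  · rw [← h2, dot_smul]; exact hy.2.2

theorem w0_inX : InX w0 := by
  refine ⟨w0_norm, ?_, ?_⟩
  · rw [dot_v0, w0_none]
    show 4 * 4 + 4 * orthVec (pt 0) = 0
    decide +kernel
  · rw [dot_comm, dot_w0, w1_none, w1_zero]; rfl

theorem dot_w0_X {y : leechLattice} (hy : InX y) : dotInt (w0 : Vec) (y : Vec) = 8 * (y : Vec) none := by
  have h0 := hy.2.1
  rw [dot_v0] at h0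
  rw [dot_w0]; omega

/-- A vector with `1` and `-3` at the first two points has those absolute values only. -/
theorem abs_one {x : leechLattice} (hx : sqNorm (x : Vec) = 32) (h1 : (x : Vec) none = 1)
    (h0 : (x : Vec) (pt 0) = -3) (p : GolayPt) : |(x : Vec) p| = |(w1 : Vec) p| := by
  have h : ∀ q, 1 ≤ (x : Vec) q ^ 2 := by
    intro q
    obtain ⟨m, c, a, hm, -, hxs, -⟩ := mem_lattice_iff.1 x.2
    have e1 := hxs none
    have e2 := hxs q
    have : (x : Vec) q ≠ 0 := by omega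
    nlinarith [mul_self_pos.2 this]
  rw [w1_apply]
  by_cases hp : p = pt 0
  · rw [hp, h0, if_pos rfl]
  by_cases hn : p = none
  · rw [hn, h1, if_neg pt0_ne_none.symm]
  set R := (((univ : Finset GolayPt).erase (pt 0)).erase none).erase p with hR
  have hsum : sqNorm (x : Vec) = 9 + 1 + (x : Vec) p ^ 2 + ∑ q ∈ R, (x : Vec) q ^ 2 := by
    rw [sqNorm, ← add_sum_erase univ _ (mem_univ (pt 0)),
      ← add_sum_erase _ (fun q => (x : Vec) q ^ 2) (mem_erase.2 ⟨pt0_ne_none.symm, mem_univ none⟩),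
      ← add_sum_erase _ (fun q => (x : Vec) q ^ 2) (mem_erase.2 ⟨hn, mem_erase.2 ⟨hp, mem_univ p⟩⟩),
      h0, h1, hR]
    ring
  have hle : ∑ _q ∈ R, (1 : ℤ) ≤ ∑ q ∈ R, (x : Vec) q ^ 2 := sum_le_sum fun q _ => h q
  rw [sum_const, hR, card_erase_of_mem (mem_erase.2 ⟨hn, mem_erase.2 ⟨hp, mem_univ p⟩⟩),
    card_erase_of_mem (mem_erase.2 ⟨pt0_ne_none.symm, mem_univ none⟩), card_erase_of_mem (mem_univ _),
    card_univ, show Fintype.card GolayPt = 24 by decide] at hle
  simp only [nsmul_eq_mul, mul_one] at hle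
  push_cast at hle
  have hp1 := h p
  have e : (x : Vec) p ^ 2 = 1 := by
    rw [hR] at hsum
    omega
  rw [if_neg hp]
  rcases sq_eq_one_iff.1 e with a | a <;> rw [a] <;> rfl

/-- Normalising a triple. -/
theorem to_one (y : leechLattice) (hy : InX y) :
    ∃ g ∈ G, g • y = w0 := by
  obtain ⟨hn, hv, hw⟩ := hy
  obtain ⟨g, g1, g2⟩ := to_pair0 v0 y sqNorm_v0 hn hv
  have e1 := dot_smul g v0 w1
  have e2 := dot_smul g y w1
  rw [g1, dot_v0, dot_v0w1] at e1
  rw [g2, dot_w0, dot_comm (y : Vec), hw] at e2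
  have x1 : ((g • w1 : leechLattice) : Vec) none = 1 := by omega
  have x0 : ((g • w1 : leechLattice) : Vec) (pt 0) = -3 := by omega
  obtain ⟨d, hd, he, hav⟩ := flip_mem (x := g • w1) (y := w1) (by rw [x1]; rfl)
    (abs_one ((sqNorm_smul g w1).trans w1_norm) x1 x0)
  have a1 : none ∉ d := hav _ (by rw [x1, w1_none])
  have a0 : pt 0 ∉ d := hav _ (by rw [x0, w1_zero])
  refine ⟨sign d hd * g, mem_G.2 ⟨?_, by rw [mul_smul]; exact he⟩, ?_⟩
  · rw [mul_smul, g1, sign_fix hd a1 a0]
  · rw [mul_smul, g2]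
    apply Subtype.ext
    funext p
    rw [sign_smul]
    show Basic.flip d orthVec p = orthVec p
    by_cases hp : p ∈ d
    · rw [Basic.flip, if_pos hp, orthVec, if_neg (fun e : p = none => a1 (e ▸ hp)),
        if_neg (fun e : p = pt 0 => a0 (e ▸ hp))]
      rfl
    · rw [Basic.flip, if_neg hp]

theorem ncard_X : {y : leechLattice | InX y}.ncard = 2025 := by
  classical
  have h := card_mul_eq_card_mul
    (fun (w : leechLattice) (y : leechLattice) => dotInt (w : Vec) (y : Vec) = 16)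
    (s := short.filter fun w : leechLattice => dotInt (v0 : Vec) (w : Vec) = -8)
    (t := short.filter fun y : leechLattice => dotInt (v0 : Vec) (y : Vec) = 0)
    (m := (short.filter fun y : leechLattice => dotInt (v0 : Vec) (y : Vec) = 0 ∧
      dotInt (w1 : Vec) (y : Vec) = 16).card) (n := 1024) ?_ ?_
  · have e1 : (short.filter fun w : leechLattice => dotInt (v0 : Vec) (w : Vec) = -8).card = 47104 :=
      (cnt_neg (v0 : Vec) 8).trans (census32 sqNorm_v0).2.1
    have e2 : (short.filter fun y : leechLattice => dotInt (v0 : Vec) (y : Vec) = 0).card = 93150 :=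
      (census32 sqNorm_v0).2.2
    rw [e1, e2] at h
    have e : {y : leechLattice | InX y}.ncard = (short.filter fun y : leechLattice =>
        dotInt (v0 : Vec) (y : Vec) = 0 ∧ dotInt (w1 : Vec) (y : Vec) = 16).card := by
      rw [← Set.ncard_coe_finset]
      refine congrArg Set.ncard (Set.ext fun y => ?_)
      rw [Set.mem_ofPred_eq, mem_coe, mem_filter, mem_short]
      rfl
    omega
  · intro w hw
    rw [mem_filter, mem_short] at hw
    obtain ⟨g, g1, g2⟩ := trans_pairs v0 w v0 w1 sqNorm_v0 hw.1 sqNorm_v0 w1_norm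
      (Or.inl (by rw [hw.2]; rfl)) (by rw [hw.2, dot_v0w1])
    rw [bipartiteAbove, filter_filter]
    refine card_nbij' (fun y => g • y) (fun y => g⁻¹ • y) ?_ ?_ (fun y _ => inv_smul_smul g y)
      (fun y _ => smul_inv_smul g y)
    · intro y hy
      rw [mem_coe, mem_filter] at hy ⊢
      refine ⟨smul_short.2 hy.1, ?_, ?_⟩
      · conv_lhs => rw [← g1]
        rw [dot_smul]; exact hy.2.1
      · rw [← g2, dot_smul]; exact hy.2.2
    · intro y hy
      rw [mem_coe, mem_filter] at hy ⊢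
      refine ⟨smul_short.2 hy.1, ?_, ?_⟩
      · rw [← dot_smul g, g1, smul_inv_smul]; exact hy.2.1
      · rw [← dot_smul g, g2, smul_inv_smul]; exact hy.2.2
  · intro y hy
    rw [mem_filter, mem_short] at hy
    obtain ⟨g, g1, g2⟩ := to_pair0 v0 y sqNorm_v0 hy.1 hy.2
    rw [bipartiteBelow, filter_filter, ← card_avoid_two, ← Set.ncard_coe_finset]
    refine (Set.ncard_congr (fun d hd => g⁻¹ • sign d hd.1 • w1) ?_ ?_ ?_).symm
    · rintro d ⟨hd, a1, a0⟩
      rw [mem_coe, mem_filter, mem_short]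
      have e1 : ((sign d hd • w1 : leechLattice) : Vec) none = 1 := by
        rw [sign_smul, Basic.flip, if_neg a1, w1_none]
      have e0 : ((sign d hd • w1 : leechLattice) : Vec) (pt 0) = -3 := by
        rw [sign_smul, Basic.flip, if_neg a0, w1_zero]
      refine ⟨(sqNorm_smul _ _).trans ((sqNorm_smul _ _).trans w1_norm), ?_, ?_⟩
      · rw [← dot_smul g, g1, smul_inv_smul, dot_v0, e1, e0]; norm_num
      · rw [← dot_smul g, g2, smul_inv_smul, dot_comm, dot_w0, e1, e0]; norm_num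
    · intro d d' hd hd' e
      ext p
      have e' := congrArg (fun z : leechLattice => (z : Vec) p) (MulAction.injective g⁻¹ e)
      have hne : (w1 : Vec) p ≠ 0 := by rw [w1_apply]; split_ifs <;> norm_num
      simp only [sign_smul, Basic.flip] at e'
      split_ifs at e' with a b b
      · simp [a, b]
      · omega
      · omega
      · simp [a, b]
    · intro w hw
      rw [mem_coe, mem_filter, mem_short] at hw
      obtain ⟨hw, h8, h16⟩ := hw
      have e1 := dot_smul g v0 w
      have e2 := dot_smul g y w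
      rw [g1, dot_v0, h8] at e1
      rw [g2, dot_w0, dot_comm (y : Vec), h16] at e2
      have x1 : ((g • w : leechLattice) : Vec) none = 1 := by omega
      have x0 : ((g • w : leechLattice) : Vec) (pt 0) = -3 := by omega
      obtain ⟨d, hd, he, hav⟩ := flip_mem (x := w1) (y := g • w) (by rw [w1_none]; rfl) fun p =>
        (abs_one ((sqNorm_smul g w).trans hw) x1 x0 p).symm
      exact ⟨d, ⟨hd, hav _ (by rw [w1_none, x1]), hav _ (by rw [w1_zero, x0])⟩,
        by rw [he, inv_smul_smul]⟩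

/-! ### The stabiliser of `w0` -/

/-- The stabiliser of `w0` in `G`. -/
def S : Subgroup Co0 := G ⊓ MulAction.stabilizer Co0 w0

theorem mem_S {g : Co0} : g ∈ S ↔ g ∈ G ∧ g • w0 = w0 := by
  simp [S, MulAction.mem_stabilizer_iff]

theorem S_le_G : S ≤ G := inf_le_left

/-- The two-point stabiliser in `M24`. -/
def M22s : Subgroup M24 := MulAction.stabilizer M24 (none : GolayPt) ⊓ MulAction.stabilizer M24 (pt 0)

theorem mem_M22s {σ : M24} : σ ∈ M22s ↔
    (σ : Equiv.Perm GolayPt) none = none ∧ (σ : Equiv.Perm GolayPt) (pt 0) = pt 0 := by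
  simp only [M22s, Subgroup.mem_inf, MulAction.mem_stabilizer_iff]
  exact Iff.rfl

theorem permHom_fix {σ : M24} (hσ : σ ∈ M22s) : permHom σ ∈ S := by
  obtain ⟨h1, h2⟩ := mem_M22s.1 hσ
  set ρ := (σ : Equiv.Perm GolayPt)⁻¹ with hρ
  have r1 : ρ none = none := by rw [hρ, Equiv.Perm.inv_eq_iff_eq, h1]
  have r0 : ρ (pt 0) = pt 0 := by rw [hρ, Equiv.Perm.inv_eq_iff_eq, h2]
  have e1 : ∀ p, ρ p = none ↔ p = none := fun p => by rw [← ρ.injective.eq_iff (a := p), r1]
  have e2 : ∀ p, ρ p = pt 0 ↔ p = pt 0 := fun p => by rw [← ρ.injective.eq_iff (a := p), r0]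
  refine mem_S.2 ⟨mem_G.2 ⟨?_, ?_⟩, ?_⟩ <;> apply Subtype.ext <;> funext p <;> rw [permHom_smul]
  · show stdVec (ρ p) = stdVec p
    simp only [stdVec, e1, e2]
  · show oneVec (ρ p) = oneVec p
    simp only [oneVec, e2]
  · show orthVec (ρ p) = orthVec p
    simp only [orthVec, e1, e2]

theorem S_perm {g : Co0} (hg : g ∈ S) : ∃ σ ∈ M22s, permHom σ = g := by
  obtain ⟨hG, hw⟩ := mem_S.1 hg
  obtain ⟨hv, hw1⟩ := mem_G.1 hG
  have hfr : g • frame none = frame none := by rw [← add_eq, smul_add', hv, hw]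
  obtain ⟨p, rfl⟩ := exists_mono g (fixesCross_of_fix hfr)
  have key : ∀ v q, |((mono p • v : leechLattice) : Vec) ((p.1 : Equiv.Perm GolayPt) q)| = |(v : Vec) q| := by
    intro v q
    rw [mono_smul, signedPerm, Equiv.symm_apply_apply]
    split_ifs <;> simp
  have hn : (p.1 : Equiv.Perm GolayPt) none = none := by
    by_contra hne
    have e := key (frame none) none
    rw [hfr, frame_coe, Pi.single_eq_same, Pi.single_eq_of_ne hne] at e
    norm_num at e
  have h0 : (p.1 : Equiv.Perm GolayPt) (pt 0) = pt 0 := by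
    by_contra hne
    have e := key w1 (pt 0)
    rw [hw1, w1_zero, w1_apply, if_neg hne] at e
    norm_num at e
  refine ⟨p.1, mem_M22s.2 ⟨hn, h0⟩, ext' fun v => Subtype.ext (funext fun q => ?_)⟩
  have e := congrArg (fun z : leechLattice => (z : Vec) q) hw1
  simp only [mono_smul, signedPerm] at e
  have hq0 : (p.1 : Equiv.Perm GolayPt).symm q = pt 0 ↔ q = pt 0 := by
    rw [Equiv.symm_apply_eq, h0]
  rw [w1_apply, w1_apply] at e
  simp only [hq0] at e
  have hq : q ∉ p.2.1 := fun h => by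
    rw [if_pos h] at e
    split_ifs at e <;> omega
  rw [permHom_smul, mono_smul, signedPerm, if_neg hq]
  rfl

/-- The isomorphism with `M22`. -/
def liftHom : M22s →* S := (permHom.comp M22s.subtype).codRestrict S fun σ => permHom_fix σ.2

theorem liftHom_bijective : Function.Bijective liftHom := by
  refine ⟨fun σ τ e => ?_, fun g => ?_⟩
  · refine Subtype.ext (Subtype.ext (inv_injective (Equiv.ext fun i => ?_)))
    by_contra hne
    have e' : permHom σ.1 = permHom τ.1 := congrArg Subtype.val e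
    have := congrArg (fun g : Co0 => ((g • frame (((σ : M24) : Equiv.Perm GolayPt)⁻¹ i) : leechLattice) : Vec) i) e'
    simp only [permHom_smul, frame_coe, Pi.single_eq_same] at this
    rw [Pi.single_eq_of_ne (Ne.symm hne)] at this
    norm_num at this
  · obtain ⟨σ, hσ, h⟩ := S_perm g.2
    exact ⟨⟨σ, hσ⟩, Subtype.ext h⟩

theorem isSimple_S : IsSimpleGroup S :=
  (MulEquiv.ofBijective liftHom liftHom_bijective).isSimpleGroup_congr.1
    (S0379.result none (pt 0) pt0_ne_none.symm)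

theorem card_S : Nat.card S = 443520 :=
  (Nat.card_congr (MulEquiv.ofBijective liftHom liftHom_bijective).toEquiv).symm.trans
    (Cfsg.Agent.Golay.Trans.card_stabilizer_two pt0_ne_none.symm)

/-! ### The three other suborbits -/

/-- Positive twos on an octad. -/
def F0 (o : Finset GolayPt) : Vec := fun p => if p ∈ o then 2 else 0

/-- Twos on an octad, negative at zero and one more point. -/
def F2 (o : Finset GolayPt) (k : GolayPt) : Vec :=
  fun p => (if p ∈ o then 2 else 0) - (if p = pt 0 ∨ p = k then 4 else 0)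

/-- Ones, negative on a code word, and three at a point. -/
def F1 (c : Finset GolayPt) (j : GolayPt) : Vec :=
  fun p => (if p ∈ c then -1 else 1) + (if p = j then 4 else 0)

set_option maxHeartbeats 1000000 in
theorem pair_shape {y : leechLattice} (hn : sqNorm (y : Vec) = 32) (he : (y : Vec) none % 2 = 0) :
    ((∑ p, (y : Vec) p ≤ 8) ∧ (y : Vec) none % 4 = 0) ∨ ∃ o ∈ octads, ∀ p, |(y : Vec) p| = if p ∈ o then 2 else 0 := by
  classical
  have hb := abs_le_eight hn (by norm_num)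
  obtain ⟨hc1, hc2⟩ := counts hn (by norm_num)
  obtain ⟨hc, n1, n3, n5, n7, -⟩ := even_class y.2 hb he
  have hw := weights_supports hc
  rw [union_card] at hw
  have hcases : ((atVal (y : Vec) 4).card = 2 ∧ (atVal (y : Vec) 2).card = 0 ∧
        (atVal (y : Vec) 6).card = 0 ∧ (atVal (y : Vec) 8).card = 0) ∨
      ((atVal (y : Vec) 4).card = 0 ∧ (atVal (y : Vec) 2).card = 8 ∧
        (atVal (y : Vec) 6).card = 0 ∧ (atVal (y : Vec) 8).card = 0) := by omega
  rcases hcases with ⟨c4, c2, c6, c8⟩ | ⟨c4, c2, c6, c8⟩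
  · left
    have hS := sum_fibre (y : Vec) hb fun a => a
    simp only [sum_range_succ, sum_range_zero] at hS
    push_cast at hS
    rw [n1, n3, n5, n7, c4, c2, c6, c8] at hS
    have hle : ∑ p, (y : Vec) p ≤ ∑ p, |(y : Vec) p| := sum_le_sum fun p _ => le_abs_self _
    refine ⟨by omega, ?_⟩
    simp only [Finset.card_eq_zero] at c2 c6 c8 n1 n3 n5 n7
    by_cases hp : (none : GolayPt) ∈ atVal (y : Vec) 4
    · have e := mem_atVal.1 hp
      rcases abs_choice ((y : Vec) none) with a | a <;> omega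
    · rw [rest_even hb (by simp [n1, n3, n5, n7]) (by simp [c2]) hp (by simp [c6]) (by simp [c8]) |> abs_eq_zero.1]
      rfl
  · simp only [Finset.card_eq_zero] at c4 c6 c8 n1 n3 n5 n7
    rw [c6, union_empty] at hc
    refine Or.inr ⟨_, ⟨hc, c2⟩, fun p => ?_⟩
    by_cases hp : p ∈ atVal (y : Vec) 2
    · rw [if_pos hp]; exact mem_atVal.1 hp
    · rw [if_neg hp]
      exact rest_even hb (by simp [n1, n3, n5, n7]) hp (by simp [c4]) (by simp [c6]) (by simp [c8])

set_option maxHeartbeats 1000000 in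
theorem odd_shape {y : leechLattice} (hn : sqNorm (y : Vec) = 32) (he : (y : Vec) none % 2 = 1) :
    ∃ j, ∀ p, |(y : Vec) p| = if p = j then 3 else 1 := by
  classical
  have hb := abs_le_eight hn (by norm_num)
  obtain ⟨hc1, hc2⟩ := counts hn (by norm_num)
  obtain ⟨n0, n2, n4, n6, n8⟩ := odd_class y.2 he
  have hcases : (atVal (y : Vec) 3).card = 1 ∧ (atVal (y : Vec) 5).card = 0 ∧
      (atVal (y : Vec) 7).card = 0 := by omega
  obtain ⟨h3, h5, h7⟩ := hcases
  obtain ⟨j, hj⟩ := Finset.card_eq_one.1 h3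
  simp only [Finset.card_eq_zero] at n0 n2 n4 n6 n8 h5 h7
  refine ⟨j, fun p => ?_⟩
  by_cases hp : p = j
  · rw [if_pos hp, hp]; exact mem_atVal.1 (hj ▸ mem_singleton_self j)
  · rw [if_neg hp]
    exact rest_odd hb (by simp [n0, n2, n4, n6, n8]) (by rw [hj]; simp [hp]) (by simp [h5]) (by simp [h7])

/-- The three kinds of vectors besides `w0`. -/
theorem classify {y : leechLattice} (hy : InX y) (hne : y ≠ w0) :
    ((y : Vec) none = 0 ∧ ∃ o ∈ octads, none ∉ o ∧ pt 0 ∉ o ∧ (y : Vec) = F0 o) ∨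
    ((y : Vec) none = 2 ∧ ∃ o ∈ octads, ∃ k, none ∈ o ∧ pt 0 ∈ o ∧ k ∈ o ∧ k ≠ none ∧ k ≠ pt 0 ∧
      (y : Vec) = F2 o k) ∨
    ((y : Vec) none = 1 ∧ ∃ c ∈ octads, ∃ j, none ∉ c ∧ pt 0 ∈ c ∧ j ∈ c ∧ j ≠ pt 0 ∧
      (y : Vec) = F1 c j) := by
  classical
  obtain ⟨hn, h0, h16⟩ := hy
  rw [dot_v0] at h0
  rw [dot_w1] at h16
  have hy0 : (y : Vec) (pt 0) = -(y : Vec) none := by omega
  have hb := abs_le_eight hn (by norm_num)
  have hn4 : (y : Vec) none ≠ 4 := fun h4 => by
    have := far (u := y) (w := w0) hne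
    rw [hn, w0_norm, dot_comm, dot_w0, hy0, h4] at this
    norm_num at this
  rcases Int.emod_two_eq_zero_or_one ((y : Vec) none) with he | he
  · rcases pair_shape hn he with ⟨h8, h4⟩ | ⟨o, ho, hyo⟩
    · exfalso
      have hr := range32 w0_norm y (mem_short.2 hn)
      rw [dot_w0, hy0] at hr
      simp only [mem_insert, mem_singleton] at hr
      omega
    have key : ∑ p, (y : Vec) p = 2 * ((o.card : ℤ)) - 4 * ((univ.filter fun p => (y : Vec) p < 0).card : ℤ) := by
      rw [show (o.card : ℤ) = ∑ p, if p ∈ o then 1 else 0 by rw [sum_boole, filter_univ_mem], ← sum_boole,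
        mul_sum, mul_sum, ← sum_sub_distrib]
      refine sum_congr rfl fun p _ => ?_
      have e := hyo p
      by_cases hp : p ∈ o
      · rw [if_pos hp] at e ⊢
        rcases abs_eq (by norm_num : (0 : ℤ) ≤ 2) |>.1 e with e | e <;> rw [e] <;> norm_num
      · rw [if_neg hp, abs_eq_zero] at e
        rw [if_neg hp, e]; norm_num
    rw [octad_card ho] at key
    set N := univ.filter fun p => (y : Vec) p < 0 with hN
    have hNcard : (N.card : ℤ) = (y : Vec) none := by omega
    have val : ∀ p, (y : Vec) p = (if p ∈ o then 2 else 0) - (if p ∈ N then 4 else 0) := by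
      intro p
      have e := hyo p
      have hiff : p ∈ N ↔ (y : Vec) p < 0 := by simp [hN]
      by_cases hp : p ∈ o
      · rw [if_pos hp] at e ⊢
        rcases abs_eq (by norm_num : (0 : ℤ) ≤ 2) |>.1 e with e | e
        · rw [e, if_neg (fun h => by have := hiff.1 h; omega)]; rfl
        · rw [e, if_pos (hiff.2 (by omega))]; rfl
      · rw [if_neg hp, abs_eq_zero] at e
        rw [if_neg hp, e, if_neg (fun h => by have := hiff.1 h; omega)]; rfl
    have hon : none ∈ o ↔ (y : Vec) none ≠ 0 := by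
      have e := hyo none
      by_cases hp : none ∈ o
      · rw [if_pos hp] at e
        exact ⟨fun _ h => by rw [h] at e; norm_num at e, fun _ => hp⟩
      · rw [if_neg hp, abs_eq_zero] at e
        exact ⟨fun h => absurd h hp, fun h => absurd e h⟩
    have ho0 : pt 0 ∈ o ↔ (y : Vec) none ≠ 0 := by
      have e := hyo (pt 0)
      rw [hy0, abs_neg] at e
      by_cases hp : pt 0 ∈ o
      · rw [if_pos hp] at e
        exact ⟨fun _ h => by rw [h] at e; norm_num at e, fun _ => hp⟩
      · rw [if_neg hp, abs_eq_zero] at e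
        exact ⟨fun h => absurd h hp, fun h => absurd e h⟩
    have hya : (y : Vec) none = 0 ∨ (y : Vec) none = 2 := by
      have e := hyo none
      by_cases hp : none ∈ o
      · rw [if_pos hp] at e
        rcases abs_eq (by norm_num : (0 : ℤ) ≤ 2) |>.1 e with e | e
        · exact Or.inr e
        · omega
      · rw [if_neg hp, abs_eq_zero] at e
        exact Or.inl e
    rcases hya with h | h
    · refine Or.inl ⟨h, o, ho, fun hp => hon.1 hp h, fun hp => ho0.1 hp h, funext fun p => ?_⟩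
      rw [val p, Finset.card_eq_zero.1 (by omega : N.card = 0), if_neg (notMem_empty p), sub_zero]
      rfl
    · have h0N : pt 0 ∈ N := by simp [hN, hy0, h]
      obtain ⟨k, hk⟩ := Finset.card_eq_one.1 (show (N.erase (pt 0)).card = 1 by
        rw [card_erase_of_mem h0N]; omega)
      have hkm : k ∈ N.erase (pt 0) := hk ▸ mem_singleton_self k
      rw [mem_erase] at hkm
      have hkneg : (y : Vec) k < 0 := (mem_filter.1 hkm.2).2
      refine Or.inr (Or.inl ⟨h, o, ho, k, hon.2 (by omega), ho0.2 (by omega), ?_, ?_, hkm.1, funext fun p => ?_⟩)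
      · by_contra hko
        have e := hyo k
        rw [if_neg hko, abs_eq_zero] at e
        omega
      · rintro rfl; omega
      · rw [val p]
        show _ = F2 o k p
        unfold F2
        congr 1
        have hiff : p ∈ N ↔ p = pt 0 ∨ p = k := by
          constructor
          · intro hp
            by_cases p0 : p = pt 0
            · exact Or.inl p0
            · have : p ∈ N.erase (pt 0) := mem_erase.2 ⟨p0, hp⟩
              rw [hk, mem_singleton] at this
              exact Or.inr this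
          · rintro (rfl | rfl)
            exacts [h0N, hkm.2]
        simp only [hiff]
  · obtain ⟨j, hyj⟩ := odd_shape hn he
    obtain ⟨m, c, a, hm, hc, hx, -⟩ := mem_lattice_iff.1 y.2
    have x1 := hx none
    have hm1 : m = 1 := by omega
    subst hm1
    have hiff : ∀ p, p ∈ c ↔ (y : Vec) p % 4 = 3 := by
      intro p
      have e1 := hx p
      unfold ind at e1
      by_cases p1 : p ∈ c <;> simp only [p1, if_true, if_false, true_iff, false_iff] at e1 ⊢ <;> omega
    set s : ℤ := if j ∈ c then 4 else -4 with hs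
    have val : ∀ p, (y : Vec) p = (if p ∈ c then -1 else 1) + (if p = j then s else 0) := by
      intro p
      have e := hyj p
      have h3 := hiff p
      by_cases hp : p = j
      · subst hp
        rw [if_pos rfl] at e ⊢
        by_cases hc' : p ∈ c
        · have := h3.1 hc'
          rw [if_pos hc', hs, if_pos hc']
          rcases abs_eq (by norm_num : (0 : ℤ) ≤ 3) |>.1 e with e | e <;> omega
        · have hne3 := mt h3.2 hc'
          rw [if_neg hc', hs, if_neg hc']
          rcases abs_eq (by norm_num : (0 : ℤ) ≤ 3) |>.1 e with e | e <;> omega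
      · rw [if_neg hp] at e ⊢
        by_cases hc' : p ∈ c
        · have := h3.1 hc'
          rw [if_pos hc']
          rcases abs_eq (by norm_num : (0 : ℤ) ≤ 1) |>.1 e with e | e <;> omega
        · have hne3 := mt h3.2 hc'
          rw [if_neg hc']
          rcases abs_eq (by norm_num : (0 : ℤ) ≤ 1) |>.1 e with e | e <;> omega
    have hsum : ∑ p, (y : Vec) p = 24 - 2 * (c.card : ℤ) + s := by
      rw [sum_congr rfl fun p _ => val p, sum_add_distrib, sum_ite_eq' univ j fun _ => s, if_pos (mem_univ _)]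
      have e : ∀ p : GolayPt, (if p ∈ c then (-1 : ℤ) else 1) = 1 - 2 * (if p ∈ c then 1 else 0) :=
        fun p => by split_ifs <;> rfl
      rw [sum_congr rfl fun p _ => e p, sum_sub_distrib, ← mul_sum, sum_boole, filter_univ_mem, sum_const,
        card_univ, show Fintype.card GolayPt = 24 by decide]
      simp
    have hj0 : j ≠ none ∧ j ≠ pt 0 := by
      have e1 := hyj none
      have e2 := hyj (pt 0)
      rw [hy0, abs_neg] at e2
      constructor <;> intro e
      · rw [if_pos e.symm] at e1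
        rw [if_neg (fun h : pt 0 = j => pt0_ne_none (h.trans e)), e1] at e2
        norm_num at e2
      · rw [if_pos e.symm] at e2
        rw [if_neg (fun h : none = j => pt0_ne_none (h.trans e).symm), e2] at e1
        norm_num at e1
    have v1 := val none
    have v2 := val (pt 0)
    rw [if_neg hj0.1.symm, add_zero] at v1
    rw [if_neg hj0.2.symm, add_zero] at v2
    have hw := weights_supports hc
    have hpos : none ∈ c → 1 ≤ c.card := fun h => card_pos.2 ⟨_, h⟩
    have hnc : none ∉ c := by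
      intro h
      rw [if_pos h] at v1
      have := hpos h
      rw [hs] at hsum
      split_ifs at hsum <;> omega
    rw [if_neg hnc] at v1
    have h0c : pt 0 ∈ c := by
      by_contra h
      rw [if_neg h] at v2
      omega
    have hjc : j ∈ c := by
      by_contra h
      rw [hs, if_neg h] at hsum
      omega
    rw [hs, if_pos hjc] at hsum
    refine Or.inr (Or.inr ⟨v1, c, ⟨hc, by omega⟩, j, hnc, h0c, hjc, hj0.2, funext fun p => ?_⟩)
    rw [val p, hs, if_pos hjc]
    rfl

theorem move_F0 (σ : M24) (o : Finset GolayPt) {y : leechLattice} (hy : (y : Vec) = F0 o) :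
    ((permHom σ • y : leechLattice) : Vec) = F0 ((σ : Equiv.Perm GolayPt) • o) := by
  funext p
  obtain ⟨q, rfl⟩ := (σ : Equiv.Perm GolayPt).surjective p
  rw [permHom_smul, hy]
  simp [F0, Cfsg.Agent.Golay.M24.mem_smul_iff]

theorem move_F2 {σ : M24} (hσ : σ ∈ M22s) (o : Finset GolayPt) (k : GolayPt) {y : leechLattice}
    (hy : (y : Vec) = F2 o k) : ((permHom σ • y : leechLattice) : Vec) =
      F2 ((σ : Equiv.Perm GolayPt) • o) ((σ : Equiv.Perm GolayPt) k) := by
  funext p
  obtain ⟨q, rfl⟩ := (σ : Equiv.Perm GolayPt).surjective p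
  rw [permHom_smul, hy]
  have e : (σ : Equiv.Perm GolayPt) q = pt 0 ↔ q = pt 0 := by
    rw [← (σ : Equiv.Perm GolayPt).injective.eq_iff (a := q), (mem_M22s.1 hσ).2]
  simp [F2, Cfsg.Agent.Golay.M24.mem_smul_iff, e]

theorem move_F1 (σ : M24) (c : Finset GolayPt) (j : GolayPt) {y : leechLattice}
    (hy : (y : Vec) = F1 c j) : ((permHom σ • y : leechLattice) : Vec) =
      F1 ((σ : Equiv.Perm GolayPt) • c) ((σ : Equiv.Perm GolayPt) j) := by
  funext p
  obtain ⟨q, rfl⟩ := (σ : Equiv.Perm GolayPt).surjective p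
  rw [permHom_smul, hy]
  simp [F1, Cfsg.Agent.Golay.M24.mem_smul_iff]

theorem exists_far_pair {o o' : Finset GolayPt} (ho : o ∈ octads) (hn : none ∉ o) (h0 : pt 0 ∉ o)
    (ho' : o' ∈ octads) (hn' : none ∉ o') (h0' : pt 0 ∉ o') :
    ∃ σ ∈ M22s, ((σ : M24) : Equiv.Perm GolayPt) • o = o' := by
  obtain ⟨a, ha, a1, a2, ea⟩ := McLData.exists_far ho hn h0
  obtain ⟨b, hb, b1, b2, eb⟩ := McLData.exists_far ho' hn' h0'
  refine ⟨⟨b * a⁻¹, M24.mul_mem hb (M24.inv_mem ha)⟩, mem_M22s.2 ⟨?_, ?_⟩, ?_⟩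
  · show b (a⁻¹ none) = none
    rw [show a⁻¹ none = none by rw [Equiv.Perm.inv_eq_iff_eq, a1], b1]
  · show b (a⁻¹ (pt 0)) = pt 0
    rw [show a⁻¹ (pt 0) = pt 0 by rw [Equiv.Perm.inv_eq_iff_eq, a2], b2]
  · show (b * a⁻¹) • o = o'
    rw [← ea, mul_smul, inv_smul_smul, eb]

/-- Five points of an octad determine it; moving one such configuration onto another. -/
theorem exists_octad_pair {o o' : Finset GolayPt} (ho : o ∈ octads) (ho' : o' ∈ octads)
    (l l' : List GolayPt) (hl : l.Nodup) (hl' : l'.Nodup) (h5 : l.length ≤ 5) (hlen : l.length = l'.length)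
    (hlo : ∀ x ∈ l, x ∈ o) (hlo' : ∀ x ∈ l', x ∈ o') :
    ∃ a ∈ M24, a • o = o' ∧ ∀ i < l.length, a (l.getD i none) = l'.getD i none := by
  obtain ⟨a, ha, a1, a2⟩ := Cfsg.Agent.Golay.Orbit.exists_five_ext (s := o)
    (by rw [octad_card ho]; norm_num) hl h5 hlo
  obtain ⟨b, hb, b1, b2⟩ := Cfsg.Agent.Golay.Orbit.exists_five_ext (s := o')
    (by rw [octad_card ho']; norm_num) hl' (hlen ▸ h5) hlo'
  refine ⟨b⁻¹ * a, M24.mul_mem (M24.inv_mem hb) ha, ?_, fun i hi => ?_⟩
  · rw [mul_smul, Cfsg.Agent.Golay.Orbit.smul_eq_o0 ha ho a2, ← Cfsg.Agent.Golay.Orbit.smul_eq_o0 hb ho' b2,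
      inv_smul_smul]
  · rw [Equiv.Perm.mul_apply, a1 i hi, Equiv.Perm.inv_eq_iff_eq, b1 i (hlen ▸ hi)]

theorem exists_near_pair {o o' : Finset GolayPt} (ho : o ∈ octads) (hn : none ∈ o) (h0 : pt 0 ∈ o)
    {k : GolayPt} (hk : k ∈ o) (hkn : k ≠ none) (hk0 : k ≠ pt 0) (ho' : o' ∈ octads) (hn' : none ∈ o')
    (h0' : pt 0 ∈ o') {k' : GolayPt} (hk' : k' ∈ o') (hkn' : k' ≠ none) (hk0' : k' ≠ pt 0) :
    ∃ σ ∈ M22s, ((σ : M24) : Equiv.Perm GolayPt) • o = o' ∧ ((σ : M24) : Equiv.Perm GolayPt) k = k' := by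
  obtain ⟨a, ha, hao, hal⟩ := exists_octad_pair ho ho' [none, pt 0, k] [none, pt 0, k']
    (by simp [pt0_ne_none.symm, Ne.symm hkn, Ne.symm hk0])
    (by simp [pt0_ne_none.symm, Ne.symm hkn', Ne.symm hk0']) (by simp) rfl
    (by simp [hn, h0, hk]) (by simp [hn', h0', hk'])
  exact ⟨⟨a, ha⟩, mem_M22s.2 ⟨hal 0 (by simp), hal 1 (by simp)⟩, hao, hal 2 (by simp)⟩

theorem exists_mid_pair {o o' : Finset GolayPt} (ho : o ∈ octads) (hn : none ∉ o) (h0 : pt 0 ∈ o)
    {k : GolayPt} (hk : k ∈ o) (hk0 : k ≠ pt 0) (ho' : o' ∈ octads) (hn' : none ∉ o')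
    (h0' : pt 0 ∈ o') {k' : GolayPt} (hk' : k' ∈ o') (hk0' : k' ≠ pt 0) :
    ∃ σ ∈ M22s, ((σ : M24) : Equiv.Perm GolayPt) • o = o' ∧ ((σ : M24) : Equiv.Perm GolayPt) k = k' := by
  open Cfsg.Agent.Golay.Orbit in
  have norm : ∀ {o : Finset GolayPt}, o ∈ octads → none ∉ o → pt 0 ∈ o → ∀ {k}, k ∈ o → k ≠ pt 0 →
      ∃ a ∈ M24, a • o = o0 ∧ a (pt 0) = pt 0 ∧ a k = pt 1 ∧ a none = pt 5 := by
    intro o ho hn h0 k hk hk0
    obtain ⟨a, ha, hao, a1, a2⟩ := normal_octad_mem_two ho h0 hk (Ne.symm hk0)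
    obtain ⟨g, hg, hfix, hgo, hgq⟩ := exists_fix_o0_map (t := a none) (by
      rw [← hao, Cfsg.Agent.Golay.M24.mem_smul_iff]; exact hn)
    refine ⟨g * a, M24.mul_mem hg ha, by rw [mul_smul, hao, hgo], ?_, ?_, hgq⟩
    · rw [Equiv.Perm.mul_apply, a1]; exact hfix _ (by decide +kernel)
    · rw [Equiv.Perm.mul_apply, a2]; exact hfix _ (by decide +kernel)
  obtain ⟨a, ha, hao, a0, ak, an⟩ := norm ho hn h0 hk hk0
  obtain ⟨b, hb, hbo, b0, bk, bn⟩ := norm ho' hn' h0' hk' hk0'
  refine ⟨⟨b⁻¹ * a, M24.mul_mem (M24.inv_mem hb) ha⟩, mem_M22s.2 ⟨?_, ?_⟩, ?_, ?_⟩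
  · show b⁻¹ (a none) = none
    rw [an, Equiv.Perm.inv_eq_iff_eq, bn]
  · show b⁻¹ (a (pt 0)) = pt 0
    rw [a0, Equiv.Perm.inv_eq_iff_eq, b0]
  · show (b⁻¹ * a) • o = o'
    rw [mul_smul, hao, ← hbo, inv_smul_smul]
  · show b⁻¹ (a k) = k'
    rw [ak, Equiv.Perm.inv_eq_iff_eq, bk]

theorem ne_w0 {y : leechLattice} {a : ℤ} (h : (y : Vec) none = a) (ha : a ≠ 4) : y ≠ w0 := fun e => by
  rw [e, w0_none] at h; exact ha h.symm

theorem S_trans {y y' : leechLattice} (hy : InX y) (hy' : InX y') (hne : y ≠ w0) (hne' : y' ≠ w0)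
    (he : (y : Vec) none = (y' : Vec) none) : ∃ g ∈ S, g • y = y' := by
  rcases classify hy hne with ⟨a, o, ho, hn, h0, ev⟩ | ⟨a, o, ho, k, hn, h0, hk, hkn, hk0, ev⟩ |
    ⟨a, o, ho, k, hn, h0, hk, hk0, ev⟩ <;>
  rcases classify hy' hne' with ⟨b, o', ho', hn', h0', ev'⟩ |
    ⟨b, o', ho', k', hn', h0', hk', hkn', hk0', ev'⟩ | ⟨b, o', ho', k', hn', h0', hk', hk0', ev'⟩ <;>
  first
  | omega
  | skip
  · obtain ⟨σ, hσ, e⟩ := exists_far_pair ho hn h0 ho' hn' h0'
    exact ⟨_, permHom_fix hσ, Subtype.ext (by rw [move_F0 σ o ev, e, ev'])⟩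
  · obtain ⟨σ, hσ, e, ek⟩ := exists_near_pair ho hn h0 hk hkn hk0 ho' hn' h0' hk' hkn' hk0'
    exact ⟨_, permHom_fix hσ, Subtype.ext (by rw [move_F2 hσ o k ev, e, ek, ev'])⟩
  · obtain ⟨σ, hσ, e, ek⟩ := exists_mid_pair ho hn h0 hk hk0 ho' hn' h0' hk' hk0'
    exact ⟨_, permHom_fix hσ, Subtype.ext (by rw [move_F1 σ o k ev, e, ek, ev'])⟩

/-- A vector of the first kind. -/
def seed0 : leechLattice := ⟨F0 (maskSet McLData.farRoot), mem_of_inLat (by decide +kernel)⟩

theorem seed0_inX : InX seed0 := by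
  show sqNorm (F0 (maskSet McLData.farRoot)) = 32 ∧ dotInt stdVec (F0 (maskSet McLData.farRoot)) = 0 ∧
    dotInt oneVec (F0 (maskSet McLData.farRoot)) = 16
  decide +kernel

/-- A vector of the second kind. -/
def seed2 : leechLattice := ⟨F2 (maskSet 13062145) (pt 12), mem_of_inLat (by decide +kernel)⟩

theorem seed2_facts : (maskSet 13062145 ∈ octads ∧ none ∈ maskSet 13062145 ∧ pt 0 ∈ maskSet 13062145) ∧
    pt 12 ∈ maskSet 13062145 ∧ pt 12 ≠ none ∧ pt 12 ≠ pt 0 := by
  refine ⟨⟨mem_octads_iff.2 (by decide +kernel), mem_maskSet.2 (by decide +kernel),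
    mem_maskSet.2 (by decide +kernel)⟩, mem_maskSet.2 (by decide +kernel), by decide, by decide⟩

theorem seed2_inX : InX seed2 := by
  show sqNorm (F2 (maskSet 13062145) (pt 12)) = 32 ∧ dotInt stdVec (F2 (maskSet 13062145) (pt 12)) = 0 ∧
    dotInt oneVec (F2 (maskSet 13062145) (pt 12)) = 16
  decide +kernel

theorem card_zero : {y : leechLattice | InX y ∧ (y : Vec) none = 0}.ncard = 330 := by
  rw [← McLData.ncard_far]
  have hroot : maskSet McLData.farRoot ∈ octads ∧ none ∉ maskSet McLData.farRoot ∧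
      pt 0 ∉ maskSet McLData.farRoot := by
    refine ⟨mem_octads_iff.2 (by decide +kernel), ?_, ?_⟩ <;> rw [mem_maskSet] <;> decide +kernel
  have hex : ∀ o, o ∈ octads ∧ none ∉ o ∧ pt 0 ∉ o →
      ∃ y : leechLattice, InX y ∧ (y : Vec) = F0 o := by
    rintro o ⟨ho, hn, h0⟩
    obtain ⟨σ, hσ, e⟩ := exists_far_pair hroot.1 hroot.2.1 hroot.2.2 ho hn h0
    exact ⟨_, inX_smul (S_le_G (permHom_fix hσ)) seed0_inX, by rw [move_F0 σ _ rfl, e]⟩
  refine (Set.ncard_congr (fun o ho => (hex o ho).choose) ?_ ?_ ?_).symm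
  · intro o ho
    obtain ⟨h1, h2⟩ := (hex o ho).choose_spec
    exact ⟨h1, by rw [h2, F0, if_neg ho.2.1]⟩
  · intro o o' ho ho' e
    have h := (hex o ho).choose_spec.2
    have h' := (hex o' ho').choose_spec.2
    rw [e, h'] at h
    ext p
    have := congrFun h p
    by_cases a : p ∈ o <;> by_cases b : p ∈ o' <;> simp [F0, a, b] at this ⊢
  · rintro y ⟨hy, h⟩
    rcases classify hy (ne_w0 h (by norm_num)) with ⟨-, o, ho, hn, h0, ev⟩ | ⟨a, -⟩ | ⟨a, -⟩
    · exact ⟨o, ⟨ho, hn, h0⟩, Subtype.ext ((hex o ⟨ho, hn, h0⟩).choose_spec.2.trans ev.symm)⟩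
    all_goals omega

theorem card_twos : {y : leechLattice | InX y ∧ (y : Vec) none = 2}.ncard = 462 := by
  classical
  have hfin : {o : Finset GolayPt | o ∈ octads ∧ none ∈ o ∧ pt 0 ∈ o}.Finite := Set.toFinite _
  set P := hfin.toFinset.sigma fun o => (o.erase none).erase (pt 0) with hP
  have hPcard : P.card = 462 := by
    rw [hP, card_sigma, sum_congr rfl (g := fun _ => 6) fun o ho => ?_, sum_const,
      ← Set.ncard_eq_toFinset_card _ hfin, McLData.ncard_near]
    · rfl
    rw [Set.Finite.mem_toFinset] at ho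
    rw [card_erase_of_mem (mem_erase.2 ⟨pt0_ne_none, ho.2.2⟩), card_erase_of_mem ho.2.1, octad_card ho.1]
  have hmem : ∀ q, q ∈ P ↔ (q.1 ∈ octads ∧ none ∈ q.1 ∧ pt 0 ∈ q.1) ∧ q.2 ≠ pt 0 ∧ q.2 ≠ none ∧ q.2 ∈ q.1 := by
    intro q
    rw [hP, mem_sigma, Set.Finite.mem_toFinset, mem_erase, mem_erase]
    rfl
  have hex : ∀ q ∈ P, ∃ y : leechLattice, InX y ∧ (y : Vec) = F2 q.1 q.2 := by
    intro q hq
    obtain ⟨⟨ho, hn, h0⟩, k0, kn, kq⟩ := (hmem q).1 hq
    obtain ⟨⟨s1, s2, s3⟩, s4, s5, s6⟩ := seed2_facts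
    obtain ⟨σ, hσ, e, ek⟩ := exists_near_pair s1 s2 s3 s4 s5 s6 ho hn h0 kq kn k0
    exact ⟨_, inX_smul (S_le_G (permHom_fix hσ)) seed2_inX, by rw [move_F2 hσ _ _ rfl, e, ek]⟩
  rw [← hPcard, ← Set.ncard_coe_finset]
  refine (Set.ncard_congr (fun q hq => (hex q (mem_coe.1 hq)).choose) ?_ ?_ ?_).symm
  · intro q hq
    obtain ⟨h1, h2⟩ := (hex q (mem_coe.1 hq)).choose_spec
    obtain ⟨⟨ho, hn, h0⟩, k0, kn, kq⟩ := (hmem q).1 (mem_coe.1 hq)
    refine ⟨h1, ?_⟩
    rw [h2]
    simp [F2, hn, pt0_ne_none.symm, Ne.symm kn]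
  · rintro ⟨o, k⟩ ⟨o', k'⟩ hq hq' e
    have h := (hex _ (mem_coe.1 hq)).choose_spec.2
    have h' := (hex _ (mem_coe.1 hq')).choose_spec.2
    rw [e, h'] at h
    obtain ⟨⟨-, -, h0⟩, k0, -, kq⟩ := (hmem _).1 (mem_coe.1 hq)
    obtain ⟨⟨-, -, h0'⟩, k0', -, kq'⟩ := (hmem _).1 (mem_coe.1 hq')
    simp only at h h0 k0 kq h0' k0' kq'
    have hk : k = k' := by
      have := congrFun h k
      simp [F2, k0, kq] at this
      by_cases a : k ∈ o' <;> by_cases b : k = k' <;> simp [a, b] at this ⊢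
    subst hk
    have ho : o = o' := by
      ext p
      have := congrFun h p
      by_cases a : p ∈ o <;> by_cases b : p ∈ o' <;> by_cases c : p = pt 0 ∨ p = k <;>
        simp [F2, a, b, c] at this ⊢
    rw [ho]
  · rintro y ⟨hy, h⟩
    rcases classify hy (ne_w0 h (by norm_num)) with ⟨a, -⟩ | ⟨-, o, ho, k, hn, h0, hk, hkn, hk0, ev⟩ | ⟨a, -⟩
    · omega
    · have hq : (⟨o, k⟩ : (_ : Finset GolayPt) × GolayPt) ∈ P :=
        (hmem _).2 ⟨⟨ho, hn, h0⟩, hk0, hkn, hk⟩
      exact ⟨⟨o, k⟩, mem_coe.2 hq, Subtype.ext ((hex _ hq).choose_spec.2.trans ev.symm)⟩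
    · omega

theorem value_cases {y : leechLattice} (hy : InX y) :
    y = w0 ∨ (y : Vec) none = 0 ∨ (y : Vec) none = 2 ∨ (y : Vec) none = 1 := by
  by_cases h : y = w0
  · exact Or.inl h
  · exact Or.inr ((classify hy h).imp And.left fun h => h.imp And.left And.left)

theorem card_ones : {y : leechLattice | InX y ∧ (y : Vec) none = 1}.ncard = 1232 := by
  have hfin : {y : leechLattice | InX y}.Finite := Set.finite_of_ncard_ne_zero (by rw [ncard_X]; norm_num)
  have f : ∀ a : ℤ, {y : leechLattice | InX y ∧ (y : Vec) none = a}.Finite :=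
    fun a => hfin.subset fun y h => h.1
  have e : {y : leechLattice | InX y} = insert w0
      ({y : leechLattice | InX y ∧ (y : Vec) none = 0} ∪ ({y : leechLattice | InX y ∧ (y : Vec) none = 2} ∪
        {y : leechLattice | InX y ∧ (y : Vec) none = 1})) := by
    ext y
    simp only [Set.mem_ofPred_eq, Set.mem_insert_iff, Set.mem_union]
    constructor
    · intro hy
      exact (value_cases hy).imp id fun h => h.imp (fun e => ⟨hy, e⟩) fun h =>
        h.imp (fun e => ⟨hy, e⟩) fun e => ⟨hy, e⟩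
    · rintro (rfl | h | h | h)
      exacts [w0_inX, h.1, h.1, h.1]
  have h := ncard_X
  rw [e, Set.ncard_insert_of_notMem (by simp [w0_none]) ((f 0).union ((f 2).union (f 1))),
    Set.ncard_union_eq (Set.disjoint_left.2 fun y h1 h2 => by
      rcases h2 with h2 | h2 <;> have := h1.2 <;> have := h2.2 <;> omega) (f 0) ((f 2).union (f 1)),
    Set.ncard_union_eq (Set.disjoint_left.2 fun y h1 h2 => by have := h1.2; have := h2.2; omega) (f 2) (f 1),
    card_zero, card_twos] at h
  omega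

/-! ### Simplicity -/

/-- The 2025 vectors as a type. -/
def X : Type := {y : leechLattice // InX y}

/-- The action of `G` on them. -/
instance actionX : MulAction G X where
  smul g y := ⟨(g : Co0) • y.1, inX_smul g.2 y.2⟩
  one_smul y := Subtype.ext (one_smul Co0 y.1)
  mul_smul g h y := Subtype.ext (mul_smul (g : Co0) h y.1)

/-- The base point. -/
def x0 : X := ⟨w0, w0_inX⟩

theorem stab_x0 : MulAction.stabilizer G x0 = S.subgroupOf G := by
  ext g
  rw [MulAction.mem_stabilizer_iff, Subgroup.mem_subgroupOf, mem_S]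
  exact ⟨fun h => ⟨g.2, congrArg Subtype.val h⟩, fun h => Subtype.ext h.2⟩

theorem isSimple_stab : IsSimpleGroup (MulAction.stabilizer G x0) := by
  rw [stab_x0]
  exact (Subgroup.subgroupOfEquivOfLe S_le_G).isSimpleGroup_congr.2 isSimple_S

theorem orbit_x0 : MulAction.orbit G x0 = Set.univ := by
  refine Set.eq_univ_of_forall fun y => ?_
  obtain ⟨g, hg, e⟩ := to_one y.1 y.2
  refine ⟨⟨g, hg⟩⁻¹, Subtype.ext ?_⟩
  show (g⁻¹ : Co0) • w0 = y.1
  rw [← e, inv_smul_smul]

theorem card_X : Nat.card X = 2025 := (Nat.card_coe_set_eq _).trans ncard_X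

theorem card_G : Nat.card G = 898128000 := by
  have h := Subgroup.index_mul_card (MulAction.stabilizer G x0)
  rw [MulAction.index_stabilizer, orbit_x0, Set.ncard_univ, card_X, stab_x0,
    Nat.card_congr (Subgroup.subgroupOfEquivOfLe S_le_G).toEquiv, card_S] at h
  omega

theorem faithful {g : G} (h : ∀ y : X, g • y = y) : g = 1 := by
  classical
  have hg : (g : Co0) ∈ S := mem_S.2 ⟨g.2, congrArg Subtype.val (h x0)⟩
  obtain ⟨σ, hσ, hgσ⟩ := S_perm hg
  obtain ⟨hn, h0⟩ := mem_M22s.1 hσ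
  have hid : σ = 1 := by
    refine Subtype.ext (Equiv.ext fun j => ?_)
    show (σ : Equiv.Perm GolayPt) j = j
    by_cases hj : j = none
    · subst hj; exact hn
    by_cases hj0 : j = pt 0
    · subst hj0; exact h0
    -- an octad through the three points gives a vector whose second negative entry is `j`
    obtain ⟨⟨s1, s2, s3⟩, s4, s5, s6⟩ := seed2_facts
    obtain ⟨τ, hτ, hl⟩ : ∃ τ ∈ M22s, ((τ : M24) : Equiv.Perm GolayPt) (pt 12) = j := by
      obtain ⟨a, ha, hl⟩ := exists_map_list [none, pt 0, pt 12] [none, pt 0, j]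
        (by simp [pt0_ne_none.symm, Ne.symm s5, Ne.symm s6])
        (by simp [pt0_ne_none.symm, Ne.symm hj, Ne.symm hj0]) rfl (by simp)
      simp only [List.map_cons, List.map_nil, List.cons.injEq, and_true] at hl
      exact ⟨⟨a, ha⟩, mem_M22s.2 ⟨hl.1, hl.2.1⟩, hl.2.2⟩
    have e := congrArg Subtype.val
      (h ⟨_, inX_smul (S_le_G (permHom_fix hτ)) seed2_inX⟩)
    change (g : Co0) • permHom τ • seed2 = permHom τ • seed2 at e
    rw [← hgσ] at e
    have v1 := move_F2 hτ (maskSet 13062145) (pt 12) (y := seed2) rfl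
    have v2 := move_F2 hσ _ _ v1
    rw [e, v1, hl] at v2
    by_contra hne
    have := congrFun v2 ((σ : Equiv.Perm GolayPt) j)
    have hne0 : (σ : Equiv.Perm GolayPt) j ≠ pt 0 := fun h' =>
      hj0 ((σ : Equiv.Perm GolayPt).injective (h'.trans h0.symm))
    simp only [F2, Cfsg.Agent.Golay.M24.mem_smul_iff, hne0, hne, or_self, if_false,
      or_true, if_true] at this
    split_ifs at this <;> omega
  exact Subtype.ext (by rw [← hgσ, hid, map_one]; rfl)

/-- The sizes of sets invariant under the stabiliser. -/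
theorem invariant_card {O : Set X} (hO : ∀ g ∈ MulAction.stabilizer G x0, ∀ y ∈ O, g • y ∈ O)
    (h0 : x0 ∈ O) : O.ncard ∈ [1, 331, 463, 793, 1233, 1563, 1695, 2025] := by
  classical
  have hfin : Finite X := Nat.finite_of_card_ne_zero (by rw [card_X]; norm_num)
  let C : ℤ → Set X := fun a => {y | (y.1 : Vec) none = a}
  have csize : ∀ a : ℤ, ∀ n : ℕ, {y : leechLattice | InX y ∧ (y : Vec) none = a}.ncard = n →
      (C a).ncard = n := by
    intro a n hn
    rw [← hn, ← Set.ncard_image_of_injective (C a) Subtype.val_injective]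
    refine congrArg Set.ncard (Set.ext fun y => ?_)
    exact ⟨fun ⟨z, hz, e⟩ => e ▸ ⟨z.2, hz⟩, fun ⟨hy, hk⟩ => ⟨⟨y, hy⟩, hk, rfl⟩⟩
  have part : ∀ a : ℤ, a ≠ 4 → (O ∩ C a).ncard = 0 ∨ (O ∩ C a).ncard = (C a).ncard := by
    intro a ha
    rcases Set.eq_empty_or_nonempty (O ∩ C a) with e | ⟨y, hy, hya⟩
    · exact Or.inl (by rw [e, Set.ncard_empty])
    · refine Or.inr (congrArg Set.ncard (Set.inter_eq_right.2 fun z hz => ?_))
      have hza : (z.1 : Vec) none = a := hz
      obtain ⟨g, hg, e⟩ := S_trans y.2 z.2 (ne_w0 hya ha) (ne_w0 hza ha) (hya.trans hza.symm)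
      have := hO ⟨g, S_le_G hg⟩ (by rw [stab_x0]; exact hg) y hy
      convert this using 1
      exact Subtype.ext e.symm
  have hx : ∀ a : ℤ, a ≠ 4 → x0 ∉ C a := fun a ha h => ne_w0 (y := w0) h ha rfl
  have split : O = insert x0 ((O ∩ C 0) ∪ ((O ∩ C 2) ∪ (O ∩ C 1))) := by
    ext y
    simp only [Set.mem_insert_iff, Set.mem_union, Set.mem_inter_iff]
    constructor
    · intro hy
      rcases value_cases y.2 with e | e | e | e
      · exact Or.inl (Subtype.ext e)
      · exact Or.inr (Or.inl ⟨hy, e⟩)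
      · exact Or.inr (Or.inr (Or.inl ⟨hy, e⟩))
      · exact Or.inr (Or.inr (Or.inr ⟨hy, e⟩))
    · rintro (rfl | h | h | h)
      exacts [h0, h.1, h.1, h.1]
  have dis : ∀ a b : ℤ, a ≠ b → Disjoint (O ∩ C a) (O ∩ C b) := fun a b hab =>
    Set.disjoint_left.2 fun y h1 h2 => hab (h1.2.symm.trans h2.2)
  have hc : O.ncard = (O ∩ C 0).ncard + ((O ∩ C 2).ncard + (O ∩ C 1).ncard) + 1 := by
    conv_lhs => rw [split]
    rw [Set.ncard_insert_of_notMem, Set.ncard_union_eq, Set.ncard_union_eq (dis 2 1 (by norm_num))]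
    · exact Set.disjoint_union_right.2 ⟨dis 0 2 (by norm_num), dis 0 1 (by norm_num)⟩
    · rintro (h | h | h)
      exacts [hx 0 (by norm_num) h.2, hx 2 (by norm_num) h.2, hx 1 (by norm_num) h.2]
  have p0 := part 0 (by norm_num)
  have p2 := part 2 (by norm_num)
  have p1 := part 1 (by norm_num)
  rw [csize 0 330 card_zero] at p0
  rw [csize 2 462 card_twos] at p2
  rw [csize 1 1232 card_ones] at p1
  rcases p0 with a | a <;> rcases p2 with b | b <;> rcases p1 with c | c <;> rw [hc, a, b, c] <;> decide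

theorem card_sylow {N : Type*} [Group N] [Finite N] (hN : Nat.card N = 3 ^ 4 * 5 ^ 2) (p k : ℕ)
    [Fact p.Prime] (hk : p = 3 ∧ k = 4 ∨ p = 5 ∧ k = 2) (P : Sylow p N) : Nat.card (P : Subgroup N) = p ^ k := by
  rw [Sylow.card_eq_multiplicity, hN, Nat.factorization_mul (by norm_num) (by norm_num),
    Nat.Prime.factorization_pow Nat.prime_three,
    Nat.Prime.factorization_pow (by norm_num : Nat.Prime 5)]
  rcases hk with ⟨rfl, rfl⟩ | ⟨rfl, rfl⟩ <;> simp

/-- In a group of order `3⁴ · 5²` one of the Sylow subgroups is a set defined by an exponent. -/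
theorem exists_char (N : Type*) [Group N] [Finite N] (hN : Nat.card N = 3 ^ 4 * 5 ^ 2) :
    {n : N | n ^ 81 = 1}.ncard = 81 ∨ {n : N | n ^ 25 = 1}.ncard = 25 := by
  have h3 : Fact (Nat.Prime 3) := ⟨Nat.prime_three⟩
  have h5 : Fact (Nat.Prime 5) := ⟨by norm_num⟩
  have set_eq : ∀ (p k : ℕ) [Fact p.Prime] (P : Sylow p N), Nat.card (P : Subgroup N) = p ^ k →
      (P : Subgroup N).Normal → {n : N | n ^ (p ^ k) = 1}.ncard = p ^ k := by
    intro p k _ P hP hn
    have : {n : N | n ^ (p ^ k) = 1} = ((P : Subgroup N) : Set N) := by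
      haveI := Sylow.unique_of_normal P hn
      ext n
      simp only [Set.mem_ofPred_eq, SetLike.mem_coe]
      refine ⟨fun hnk => ?_, fun h => ?_⟩
      · have hp : IsPGroup p (Subgroup.zpowers n) := by
          intro ⟨m, hm⟩
          obtain ⟨i, rfl⟩ := Subgroup.mem_zpowers_iff.1 hm
          refine ⟨k, Subtype.ext ?_⟩
          show (n ^ i) ^ (p ^ k) = 1
          rw [← zpow_natCast, ← zpow_mul, mul_comm, zpow_mul, zpow_natCast, hnk, one_zpow]
        obtain ⟨Q, hQ⟩ := hp.exists_le_sylow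
        rw [Subsingleton.elim P Q]
        exact hQ (Subgroup.mem_zpowers n)
      · have := pow_card_eq_one' (G := (P : Subgroup N)) (x := ⟨n, h⟩)
        rw [hP] at this
        exact congrArg Subtype.val this
    rw [this, ← Nat.card_coe_set_eq]
    exact hP
  let P : Sylow 5 N := Classical.arbitrary _
  have hP := card_sylow hN 5 2 (Or.inr ⟨rfl, rfl⟩) P
  by_cases hn : (P : Subgroup N).Normal
  · exact Or.inr (by simpa using set_eq 5 2 P hP hn)
  left
  -- otherwise the subgroup is self-normalising and abelian, so has a normal complement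
  have hidx : (P : Subgroup N).index = 81 := by
    have h := (P : Subgroup N).index_mul_card
    rw [hP, hN] at h
    omega
  have hdvd : Nat.card (Sylow 5 N) ∣ 81 := hidx ▸ P.card_dvd_index
  have hmod : Nat.card (Sylow 5 N) % 5 = 1 := card_sylow_modEq_one 5 N
  have hne1 : Nat.card (Sylow 5 N) ≠ 1 := fun h1 => hn (by
    haveI : Subsingleton (Sylow 5 N) := (Nat.card_eq_one_iff_unique.1 h1).1
    exact P.normal_of_subsingleton)
  have h81 : Nat.card (Sylow 5 N) = 81 := by
    obtain ⟨i, hi, e⟩ := (Nat.dvd_prime_pow Nat.prime_three).1 (show Nat.card (Sylow 5 N) ∣ 3 ^ 4 from hdvd)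
    rw [e] at hmod hne1 ⊢
    interval_cases i <;> omega
  have hnorm : Subgroup.normalizer ((P : Subgroup N) : Set N) = (P : Subgroup N) := by
    refine (Subgroup.eq_of_le_of_card_ge Subgroup.le_normalizer ?_).symm
    have h := (Subgroup.normalizer ((P : Subgroup N) : Set N)).index_mul_card
    rw [show (Subgroup.normalizer ((P : Subgroup N) : Set N)).index = 81 from
      P.card_eq_index_normalizer.symm.trans h81, hN] at h
    rw [hP]; omega
  have hcomm : IsMulCommutative (P : Subgroup N) :=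
    ⟨⟨IsPGroup.commutative_of_card_eq_prime_sq hP⟩⟩
  have hcent : Subgroup.normalizer ((P : Subgroup N) : Set N) ≤ Subgroup.centralizer ((P : Subgroup N) : Set N) := by
    rw [hnorm]; exact Subgroup.le_centralizer _
  set K := (MonoidHom.transferSylow P hcent).ker with hK
  have hcompl := MonoidHom.ker_transferSylow_isComplement' P hcent
  have hKcard : Nat.card K = 81 := by
    have h := hcompl.card_mul
    rw [hP, hN, ← hK] at h
    omega
  obtain ⟨Q, hQ⟩ := (IsPGroup.of_card (p := 3) (n := 4) (show Nat.card K = 3 ^ 4 from hKcard)).exists_le_sylow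
  have hQc := card_sylow hN 3 4 (Or.inl ⟨rfl, rfl⟩) Q
  have hQK : K = (Q : Subgroup N) := Subgroup.eq_of_le_of_card_ge hQ (by rw [hKcard, hQc]; norm_num)
  have hQn : (Q : Subgroup N).Normal := hQK ▸ (MonoidHom.transferSylow P hcent).normal_ker
  simpa using set_eq 3 4 Q hQc hQn

theorem isSimple_G : IsSimpleGroup G := by
  classical
  haveI : Finite G := Nat.finite_of_card_ne_zero (by rw [card_G]; norm_num)
  haveI : Finite X := Nat.finite_of_card_ne_zero (by rw [card_X]; norm_num)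
  haveI : Nontrivial G := Finite.one_lt_card_iff_nontrivial.1 (by rw [card_G]; norm_num)
  haveI := isSimple_stab
  refine ⟨fun N hN => ?_⟩
  set St := MulAction.stabilizer G x0 with hSt
  set O := MulAction.orbit N x0 with hO
  have hinv : ∀ g ∈ St, ∀ y ∈ O, g • y ∈ O := by
    rintro g hg _ ⟨n, rfl⟩
    refine ⟨⟨g * n * g⁻¹, hN.conj_mem n n.2 g⟩, ?_⟩
    show (g * (n : G) * g⁻¹) • x0 = g • (n : G) • x0
    rw [mul_smul, mul_smul, inv_smul_eq_iff.2 (MulAction.mem_stabilizer_iff.1 hg).symm]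
  have hdvdO : O.ncard ∣ Nat.card G := by
    refine dvd_trans ?_ (Subgroup.card_subgroup_dvd_card N)
    rw [hO, ← MulAction.index_stabilizer]
    exact Subgroup.index_dvd_card _
  have hcardO := invariant_card hinv (MulAction.mem_orbit_self x0)
  rw [card_G] at hdvdO
  simp only [List.mem_cons, List.not_mem_nil, or_false] at hcardO
  rcases hcardO with h | h | h | h | h | h | h | h
  · left
    rw [eq_bot_iff]
    intro n hn
    rw [Subgroup.mem_bot]
    refine faithful fun y => ?_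
    obtain ⟨g, rfl⟩ : y ∈ MulAction.orbit G x0 := orbit_x0 ▸ Set.mem_univ y
    have hmem : g⁻¹ * n * g ∈ N := by simpa using hN.conj_mem n hn g⁻¹
    have : (g⁻¹ * n * g) • x0 = x0 := by
      obtain ⟨a, ha⟩ := Set.ncard_eq_one.1 h
      have h1 : (g⁻¹ * n * g) • x0 ∈ O := ⟨⟨_, hmem⟩, rfl⟩
      have h2 : x0 ∈ O := MulAction.mem_orbit_self x0
      rw [ha, Set.mem_singleton_iff] at h1 h2
      rw [h1, ← h2]
    rw [← mul_smul, show n * g = g * (g⁻¹ * n * g) by group, mul_smul, this]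
  iterate 6 (rw [h] at hdvdO; norm_num at hdvdO)
  rcases Subgroup.Normal.eq_bot_or_eq_top (H := N.subgroupOf St) inferInstance with hb | ht
  · exfalso
    have hst : MulAction.stabilizer N x0 = ⊥ := by
      rw [eq_bot_iff]
      intro n hn
      rw [Subgroup.mem_bot]
      have : (⟨(n : G), hn⟩ : St) ∈ N.subgroupOf St := n.2
      rw [hb, Subgroup.mem_bot] at this
      exact Subtype.ext (congrArg Subtype.val this : (n : G) = 1)
    have hcN : Nat.card N = 3 ^ 4 * 5 ^ 2 := by
      have := Subgroup.index_mul_card (MulAction.stabilizer N x0)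
      rw [MulAction.index_stabilizer, ← hO, h, hst, Subgroup.card_bot] at this
      omega
    have hinj : Function.Injective fun n : N => n • x0 := fun a b e => by
      have : b⁻¹ * a ∈ MulAction.stabilizer N x0 := by
        rw [MulAction.mem_stabilizer_iff, mul_smul]
        exact inv_smul_eq_iff.2 e
      rw [hst, Subgroup.mem_bot, inv_mul_eq_one] at this
      exact this.symm
    have key : ∀ k : ℕ, {n : N | n ^ k = 1}.ncard ∈ [1, 331, 463, 793, 1233, 1563, 1695, 2025] := by
      intro k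
      rw [← Set.ncard_image_of_injective _ hinj]
      refine invariant_card ?_ ⟨1, one_pow k, one_smul _ _⟩
      rintro g hg _ ⟨n, hn, rfl⟩
      refine ⟨⟨g * n * g⁻¹, hN.conj_mem n n.2 g⟩, ?_, ?_⟩
      · show (⟨g * n * g⁻¹, hN.conj_mem n n.2 g⟩ : N) ^ k = 1
        apply Subtype.ext
        show (g * (n : G) * g⁻¹) ^ k = 1
        have hn' : (n : G) ^ k = 1 := congrArg Subtype.val (hn : n ^ k = 1)
        rw [conj_pow, hn', mul_one, mul_inv_cancel]
      · show (g * (n : G) * g⁻¹) • x0 = g • (n : G) • x0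
        rw [mul_smul, mul_smul, inv_smul_eq_iff.2 (MulAction.mem_stabilizer_iff.1 hg).symm]
    rcases exists_char N hcN with e | e
    · have := key 81; rw [e] at this; simp at this
    · have := key 25; rw [e] at this; simp at this
  · right
    have hle : St ≤ N := fun g hg => by
      have : (⟨g, hg⟩ : St) ∈ N.subgroupOf St := ht ▸ Subgroup.mem_top _
      exact this
    refine (Subgroup.eq_top_iff' N).2 fun g => ?_
    have hgO : g • x0 ∈ O := by
      have hu : O = Set.univ := Set.eq_of_subset_of_ncard_le (Set.subset_univ _)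
        (by rw [Set.ncard_univ, card_X, h])
      rw [hu]; exact Set.mem_univ _
    obtain ⟨n, hn⟩ := hgO
    have hmem : (n : G)⁻¹ * g ∈ St := by
      rw [hSt, MulAction.mem_stabilizer_iff, mul_smul]
      exact inv_smul_eq_iff.2 hn.symm
    have := N.mul_mem n.2 (hle hmem)
    rwa [mul_inv_cancel_left] at this

theorem isMcL_G : IsMcL G := ⟨isSimple_G, card_G⟩

/-- Every admissible pair gives a group isomorphic to `G`. -/
theorem equiv_G (v w : leechLattice) (hv : sqNorm (v : Vec) = 32) (hw : sqNorm (w : Vec) = 32)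
    (hvw : dotInt (v : Vec) (w : Vec) = -8) :
    Nonempty (↥(MulAction.stabilizer Co0 v ⊓ MulAction.stabilizer Co0 w) ≃* G) := by
  obtain ⟨h, h1, h2⟩ := trans_pairs v w v0 w1 hv hw sqNorm_v0 w1_norm (Or.inl (by rw [hvw]; rfl))
    (by rw [hvw, dot_v0w1])
  have e : (MulAction.stabilizer Co0 v ⊓ MulAction.stabilizer Co0 w).map (MulAut.conj h).toMonoidHom = G := by
    ext g
    simp only [Subgroup.mem_map, Subgroup.mem_inf, MulAction.mem_stabilizer_iff,
      MulEquiv.coe_toMonoidHom, MulAut.conj_apply, mem_G]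
    constructor
    · rintro ⟨k, ⟨k1, k2⟩, rfl⟩
      rw [← h1, ← h2]
      simp only [mul_smul, inv_smul_smul, k1, k2, and_self]
    · rintro ⟨g1, g2⟩
      refine ⟨h⁻¹ * g * h, ⟨?_, ?_⟩, by group⟩
      · rw [mul_smul, mul_smul, h1, g1, ← h1, inv_smul_smul]
      · rw [mul_smul, mul_smul, h2, g2, ← h2, inv_smul_smul]
  exact ⟨((Subgroup.equivMapOfInjective _ _ (MulAut.conj h).injective)).trans (MulEquiv.subgroupCongr e)⟩

/-! ### Transport to an arbitrary pair -/

theorem orbit_S {y : leechLattice} {a : ℤ} (ha : a ≠ 4) (hy : InX y) (hya : (y : Vec) none = a) :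
    MulAction.orbit S y = {z : leechLattice | InX z ∧ (z : Vec) none = a} := by
  ext z
  constructor
  · rintro ⟨g, rfl⟩
    refine ⟨inX_smul (S_le_G g.2) hy, ?_⟩
    have h := dot_w0_X (inX_smul (S_le_G g.2) hy)
    rw [show dotInt (w0 : Vec) (((g : Co0) • y : leechLattice) : Vec) = dotInt (w0 : Vec) (y : Vec) by
      conv_lhs => rw [← (mem_S.1 g.2).2]
      exact dot_smul _ _ _, dot_w0_X hy, hya] at h
    show (((g : Co0) • y : leechLattice) : Vec) none = a
    omega
  · rintro ⟨hz, hza⟩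
    obtain ⟨g, hg, e⟩ := S_trans hy hz (ne_w0 hya ha) (ne_w0 hza ha) (hya.trans hza.symm)
    exact ⟨⟨g, hg⟩, e⟩

/-- An orbit of a three-point stabiliser is the translate of an orbit of `S`. -/
theorem orbit_transport {v w x : leechLattice} {t : Co0} (tv : t • v = v0) (tw : t • w = w1)
    (tx : t • x = w0) (z : leechLattice) :
    (MulAction.orbit ↥(MulAction.stabilizer Co0 v ⊓ MulAction.stabilizer Co0 w ⊓ MulAction.stabilizer Co0 x)
      (t⁻¹ • z)).ncard = (MulAction.orbit S z).ncard := by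
  rw [← Set.ncard_image_of_injective _ (MulAction.injective t)]
  refine congrArg Set.ncard (Set.ext fun u => ?_)
  constructor
  · rintro ⟨_, ⟨⟨g, hg⟩, rfl⟩, rfl⟩
    simp only [Subgroup.mem_inf, MulAction.mem_stabilizer_iff] at hg
    obtain ⟨⟨gv, gw⟩, gx⟩ := hg
    refine ⟨⟨t * g * t⁻¹, mem_S.2 ⟨mem_G.2 ⟨?_, ?_⟩, ?_⟩⟩, ?_⟩
    · rw [mul_smul, mul_smul, ← tv, inv_smul_smul, gv]
    · rw [mul_smul, mul_smul, ← tw, inv_smul_smul, gw]
    · rw [mul_smul, mul_smul, ← tx, inv_smul_smul, gx]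
    · show (t * g * t⁻¹) • z = t • g • t⁻¹ • z
      rw [mul_smul, mul_smul]
  · rintro ⟨⟨g, hg⟩, rfl⟩
    obtain ⟨hG, gx⟩ := mem_S.1 hg
    obtain ⟨gv, gw⟩ := mem_G.1 hG
    refine ⟨(t⁻¹ * g * t) • (t⁻¹ • z), ⟨⟨t⁻¹ * g * t, ?_⟩, rfl⟩, ?_⟩
    · simp only [Subgroup.mem_inf, MulAction.mem_stabilizer_iff]
      refine ⟨⟨?_, ?_⟩, ?_⟩
      · rw [mul_smul, mul_smul, tv, gv, ← tv, inv_smul_smul]
      · rw [mul_smul, mul_smul, tw, gw, ← tw, inv_smul_smul]
      · rw [mul_smul, mul_smul, tx, gx, ← tx, inv_smul_smul]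
    · show t • ((t⁻¹ * g * t) • (t⁻¹ • z)) = g • z
      simp only [mul_smul, smul_inv_smul]

end Cfsg.Agent.LeechAut.McL
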