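import Cfsg.Prelude.Def_SporadicCombinatorics
import Cfsg.Agent.Lib.LeechAut.Shells
import Cfsg.Agent.Lib.Leech.Mod2
import Cfsg.Agent.S0396

/-!
The stabiliser of the standard cross in `Co0` is monomial, and the order of `Co0`.
-/

set_option autoImplicit false
set_option maxRecDepth 10000

namespace Cfsg.Agent.LeechAut.Cross

open Cfsg Cfsg.Agent.Golay.Basic Cfsg.Agent.Golay.Design Cfsg.Agent.Leech.Basic Cfsg.Agent.Leech.Index
  Cfsg.Agent.LeechAut.Basic Finset
open scoped Pointwise

theorem frame_mem (i : GolayPt) : (Pi.single i 8 : Vec) ∈ leechLattice := by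
  refine Gens.mem_of_inLat ?_
  revert i; decide +kernel

/-- The vector `8 eᵢ`. -/
def frame (i : GolayPt) : leechLattice := ⟨Pi.single i 8, frame_mem i⟩

theorem frame_coe (i : GolayPt) : ((frame i : leechLattice) : Vec) = Pi.single i 8 := rfl

theorem sqNorm_single (i : GolayPt) (s : ℤ) : sqNorm (Pi.single i s : Vec) = s ^ 2 := by
  unfold sqNorm
  rw [Finset.sum_eq_single i (fun j _ hj => by simp [hj]) (by simp), Pi.single_eq_same]

theorem sqNorm_frame (i : GolayPt) : sqNorm ((frame i : leechLattice) : Vec) = 64 := by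
  rw [frame_coe, sqNorm_single]; norm_num

theorem eight_smul (v : leechLattice) : (8 : ℤ) • v = ∑ i, (v : Vec) i • frame i := by
  apply Subtype.ext
  rw [AddSubgroup.coe_zsmul, AddSubmonoidClass.coe_finsetSum]
  funext j
  rw [Pi.smul_apply, Finset.sum_apply]
  simp only [AddSubgroup.coe_zsmul, Pi.smul_apply, frame_coe, smul_eq_mul]
  rw [Finset.sum_eq_single j (fun i _ h => by simp [Ne.symm h]) (by simp), Pi.single_eq_same]
  ring

/-- An element sending every `8 eᵢ` to plus or minus another one is a signed permutation. -/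
theorem signed_of_frames (g : Co0) (π : Equiv.Perm GolayPt) (c : Finset GolayPt)
    (h : ∀ i, ((g • frame i : leechLattice) : Vec) = Pi.single (π i) (if π i ∈ c then -8 else 8))
    (v : leechLattice) : ((g • v : leechLattice) : Vec) = signedPerm π c (v : Vec) := by
  funext j
  have e := congrArg (fun w : leechLattice => (w : Vec) j) (congrArg (actHom g) (eight_smul v))
  simp only [map_zsmul, map_sum, actHom_apply, AddSubgroup.coe_zsmul, Pi.smul_apply,
    AddSubmonoidClass.coe_finsetSum, Finset.sum_apply, h, smul_eq_mul] at e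
  rw [Finset.sum_eq_single (π.symm j) (fun i _ hi => by
      rw [Pi.single_eq_of_ne (fun hj => hi (by rw [hj, Equiv.symm_apply_apply])), mul_zero])
    (by simp), Equiv.apply_symm_apply, Pi.single_eq_same] at e
  unfold signedPerm
  split_ifs at e ⊢ <;> omega

/-- Preserving the cross. -/
def FixesCross (g : Co0) : Prop :=
  ∀ v : leechLattice, (v : Vec) ∈ stdCross → ((g • v : leechLattice) : Vec) ∈ stdCross

theorem exists_signed (g : Co0) (h : FixesCross g) :
    ∃ π : Equiv.Perm GolayPt, ∃ c : Finset GolayPt,
      ∀ v : leechLattice, ((g • v : leechLattice) : Vec) = signedPerm π c (v : Vec) := by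
  classical
  have hf : ∀ i, ∃ (k : GolayPt) (s : ℤ), (s = 8 ∨ s = -8) ∧
      ((g • frame i : leechLattice) : Vec) = Pi.single k s :=
    fun i => h (frame i) ⟨i, 8, Or.inl rfl, rfl⟩
  choose k s hs hk using hf
  have hinj : Function.Injective k := by
    intro i j hij
    rcases eq_or_ne (s i) (s j) with e | e
    · have : frame i = frame j := by
        refine MulAction.injective g (Subtype.ext ?_)
        show ((g • frame i : leechLattice) : Vec) = ((g • frame j : leechLattice) : Vec)
        rw [hk i, hk j, hij, e]
      have := congrArg (fun w : leechLattice => (w : Vec) i) this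
      simp only [frame_coe, Pi.single_eq_same] at this
      by_contra hne
      rw [Pi.single_eq_of_ne hne] at this
      norm_num at this
    · have hsij : s i = -s j := by
        rcases hs i with a | a <;> rcases hs j with b | b <;> rw [a, b] at e ⊢ <;> simp at e ⊢
      have : frame i = -frame j := by
        refine MulAction.injective g (Subtype.ext ?_)
        show ((g • frame i : leechLattice) : Vec) = ((g • -frame j : leechLattice) : Vec)
        rw [smul_neg', AddSubgroup.coe_neg, hk i, hk j, hij, hsij, Pi.single_neg]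
      have := congrArg (fun w : leechLattice => (w : Vec) i) this
      simp only [AddSubgroup.coe_neg, Pi.neg_apply, frame_coe, Pi.single_eq_same] at this
      by_contra hne
      rw [Pi.single_eq_of_ne hne] at this
      norm_num at this
  let π : Equiv.Perm GolayPt := Equiv.ofBijective k (Finite.injective_iff_bijective.1 hinj)
  refine ⟨π, (univ.filter fun i => s i = -8).image k, signed_of_frames g π _ fun i => ?_⟩
  rw [hk i]
  show (Pi.single (k i) (s i) : Vec) = Pi.single (k i) _
  congr 1
  rcases hs i with e | e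
  · rw [if_neg, e]
    intro hmem
    obtain ⟨j, hj, hkj⟩ := Finset.mem_image.1 hmem
    rw [hinj hkj, Finset.mem_filter, e] at hj
    norm_num at hj
  · rw [if_pos, e]
    exact Finset.mem_image_of_mem _ (Finset.mem_filter.2 ⟨mem_univ _, e⟩)

theorem oddVec_apply (i : GolayPt) : Cfsg.Agent.Leech.Gen.oddVec i = if i = none then -3 else 1 := rfl

theorem signed_support {π : Equiv.Perm GolayPt} {c : Finset GolayPt}
    (h : ∀ x ∈ leechLattice, signedPerm π c x ∈ leechLattice) :
    π ∈ M24 ∧ c ∈ codeSets := by
  classical
  constructor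
  · refine Cfsg.Agent.Golay.M24.mem_M24_of_basis fun b hb => ?_
    have hb8 : maskSet b ∈ octads := mem_octads_iff.2 (by revert b; decide +kernel)
    obtain ⟨m, d, y, hm, hd, hx, -⟩ := mem_lattice_iff.1 (h _ (Cfsg.Agent.Leech.Gen.twoInd_mem hb8).1)
    have hval : ∀ i, signedPerm π c (Cfsg.Agent.Leech.Gen.twoInd (maskSet b)) i % 4 =
        if i ∈ π • maskSet b then 2 else 0 := by
      intro i
      have hm' : π.symm i ∈ maskSet b ↔ i ∈ π • maskSet b := by
        have e := (Cfsg.Agent.Golay.M24.mem_smul_iff π (maskSet b) (π.symm i)).symm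
        rwa [Equiv.apply_symm_apply] at e
      simp only [← hm']
      by_cases a : π.symm i ∈ maskSet b <;> by_cases b' : i ∈ c <;>
        simp [signedPerm, Cfsg.Agent.Leech.Gen.twoInd, ind, a, b']
    have e : π • maskSet b = d := by
      ext i
      have h1 := hval i
      have h2 := hx i
      have h3 := hval none
      have h4 := hx none
      rcases hm with rfl | rfl
      · by_cases a : i ∈ π • maskSet b <;> by_cases b' : i ∈ d <;>
          simp only [a, b', ind, if_true, if_false, iff_true, iff_false, not_true_eq_false,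
            not_false_eq_true] at h1 h2 ⊢ <;> omega
      · exfalso; split_ifs at h3 <;> omega
    rw [e]; exact hd
  · obtain ⟨m, d, y, hm, hd, hx, -⟩ := mem_lattice_iff.1 (h _ Cfsg.Agent.Leech.Gen.oddVec_mem.1)
    have hval : ∀ i, signedPerm π c Cfsg.Agent.Leech.Gen.oddVec i % 4 = if i ∈ c then 3 else 1 := by
      intro i
      by_cases b' : i ∈ c <;> by_cases a : π.symm i = none <;>
        simp [signedPerm, oddVec_apply, a, b']
    have e : c = d := by
      ext i
      have h1 := hval i
      have h2 := hx i
      rcases hm with rfl | rfl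
      · exfalso; split_ifs at h1 <;> omega
      · by_cases a : i ∈ c <;> by_cases b' : i ∈ d <;>
          simp only [a, b', ind, if_true, if_false, iff_true, iff_false, not_true_eq_false,
            not_false_eq_true] at h1 h2 ⊢ <;> omega
    rw [e]; exact hd

theorem signedPerm_surj (g : Co0) (π : Equiv.Perm GolayPt) (c : Finset GolayPt)
    (h : ∀ v : leechLattice, ((g • v : leechLattice) : Vec) = signedPerm π c (v : Vec)) :
    π ∈ M24 ∧ c ∈ codeSets :=
  signed_support fun x hx => h ⟨x, hx⟩ ▸ (g • (⟨x, hx⟩ : leechLattice)).2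

/-- The monomial element of a permutation in M24 and a code word. -/
def mono (p : M24 × codeSets) : Co0 :=
  sign p.2.1 p.2.2 * perm (p.1 : Equiv.Perm GolayPt)⁻¹ (M24.inv_mem p.1.2)

theorem mono_smul (p : M24 × codeSets) (v : leechLattice) :
    ((mono p • v : leechLattice) : Vec) = signedPerm p.1.1 p.2.1 (v : Vec) := by
  funext i
  rw [mono, mul_smul, sign_smul]
  simp [Basic.flip, signedPerm, Equiv.Perm.inv_def]

theorem mono_frame (p : M24 × codeSets) (i : GolayPt) : ((mono p • frame i : leechLattice) : Vec) =
    Pi.single ((p.1 : Equiv.Perm GolayPt) i) (if (p.1 : Equiv.Perm GolayPt) i ∈ p.2.1 then -8 else 8) := by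
  funext j
  rw [mono_smul, signedPerm, frame_coe]
  by_cases hj : j = (p.1 : Equiv.Perm GolayPt) i
  · subst hj
    rw [Equiv.symm_apply_apply, Pi.single_eq_same, Pi.single_eq_same]
  · rw [Pi.single_eq_of_ne hj,
      Pi.single_eq_of_ne (fun e => hj (by rw [← e, Equiv.apply_symm_apply]))]
    simp

theorem mono_injective : Function.Injective mono := by
  intro p q h
  have hπ : (p.1 : Equiv.Perm GolayPt) = q.1 := by
    refine Equiv.ext fun i => ?_
    have e := mono_frame p i
    rw [h, mono_frame] at e
    by_contra hne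
    have := congrFun e ((p.1 : Equiv.Perm GolayPt) i)
    rw [Pi.single_eq_of_ne hne, Pi.single_eq_same] at this
    split_ifs at this <;> omega
  have hc : p.2.1 = q.2.1 := by
    ext j
    obtain ⟨i, rfl⟩ := (p.1 : Equiv.Perm GolayPt).surjective j
    have e := mono_frame p i
    rw [h, mono_frame, ← hπ] at e
    have := congrFun e ((p.1 : Equiv.Perm GolayPt) i)
    rw [Pi.single_eq_same, Pi.single_eq_same] at this
    split_ifs at this with a b b <;> simp_all
  exact Prod.ext (Subtype.ext hπ) (Subtype.ext hc)

theorem mono_fixesCross (p : M24 × codeSets) : FixesCross (mono p) := by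
  rintro v ⟨i, s, hs, hv⟩
  refine ⟨(p.1 : Equiv.Perm GolayPt) i, if (p.1 : Equiv.Perm GolayPt) i ∈ p.2.1 then -s else s, ?_, ?_⟩
  · split_ifs
    · rcases hs with rfl | rfl <;> simp
    · exact hs
  · funext j
    rw [mono_smul, signedPerm, hv]
    by_cases hj : j = (p.1 : Equiv.Perm GolayPt) i
    · subst hj
      rw [Equiv.symm_apply_apply, Pi.single_eq_same, Pi.single_eq_same]
    · rw [Pi.single_eq_of_ne hj,
        Pi.single_eq_of_ne (fun e => hj (by rw [← e, Equiv.apply_symm_apply]))]
      simp

theorem exists_mono (g : Co0) (h : FixesCross g) : ∃ p, mono p = g := by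
  obtain ⟨π, c, hv⟩ := exists_signed g h
  obtain ⟨hπ, hc⟩ := signedPerm_surj g π c hv
  exact ⟨(⟨π, hπ⟩, ⟨c, hc⟩), ext' fun v => Subtype.ext ((mono_smul _ v).trans (hv v).symm)⟩

theorem card_codeSets : Nat.card codeSets = 4096 := by
  rw [Nat.card_coe_set_eq]
  exact ncard_code_filter' (fun _ => true) _ (fun s => by simp [mem_supports_iff]) _ (by decide +kernel)

theorem card_fixesCross : Nat.card {g : Co0 // FixesCross g} = 4096 * 244823040 := by
  rw [← Nat.card_congr (Equiv.ofBijective (fun p => (⟨mono p, mono_fixesCross p⟩ : {g : Co0 // FixesCross g}))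
    ⟨fun p q h => mono_injective (congrArg Subtype.val h),
      fun g => let ⟨p, hp⟩ := exists_mono g.1 g.2; ⟨p, Subtype.ext hp⟩⟩),
    Nat.card_prod, card_codeSets, Cfsg.Agent.Golay.M24.card_M24]

/-- A norm 64 vector congruent to `8 e∞` modulo twice the lattice lies in the cross. -/
theorem mem_cross_of_congr {x : Vec} (hn : sqNorm x = 64) {z : Vec} (hz : z ∈ leechLattice)
    (h : x = Pi.single none 8 + 2 • z) : x ∈ stdCross := by
  classical
  obtain ⟨m, c, y, hm, hc, hzs, hs⟩ := mem_lattice_iff.1 hz
  have hxi : ∀ i, x i = (if i = none then 8 else 0) + 2 * m + 4 * ind c i + 8 * y i := by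
    intro i
    have e := congrFun h i
    rw [Pi.add_apply, Pi.smul_apply, hzs i] at e
    by_cases hi : i = none <;> simp [hi, Pi.single_apply] at e ⊢ <;> omega
  have hsum : (∑ i, x i ^ 2 : ℤ) = 64 := hn
  have hm0 : m = 0 := by
    rcases hm with rfl | rfl
    · rfl
    exfalso
    have hx2 : ∀ i, 4 ≤ x i ^ 2 := fun i => by
      have := hxi i
      have h2 : x i ≤ -2 ∨ 2 ≤ x i := by omega
      rcases h2 with h2 | h2 <;> nlinarith
    have hle := Finset.sum_le_sum (s := (univ : Finset GolayPt)) fun i _ => hx2 i
    rw [Finset.sum_const, card_univ, show Fintype.card GolayPt = 24 by decide, hsum] at hle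
    norm_num at hle
  subst hm0
  have hge : ∀ i ∈ c, 16 ≤ x i ^ 2 := fun i hi => by
    have := hxi i
    simp only [ind, hi, if_true] at this
    have h2 : x i ≤ -4 ∨ 4 ≤ x i := by split_ifs at this <;> omega
    rcases h2 with h2 | h2 <;> nlinarith
  have hc4 : c.card ≤ 4 := by
    have h1 := Finset.sum_le_sum hge
    have h2 := Finset.sum_le_sum_of_subset_of_nonneg (Finset.subset_univ c)
      (fun i _ _ => sq_nonneg (x i))
    rw [Finset.sum_const, nsmul_eq_mul] at h1
    rw [hsum] at h2
    exact_mod_cast (show (c.card : ℤ) ≤ 4 by linarith)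
  have hc0 : c = ∅ := Finset.card_eq_zero.1 (by rcases weights_supports hc with e | e | e | e | e <;> omega)
  subst hc0
  obtain ⟨i, hi⟩ : ∃ i, x i ≠ 0 := by
    by_contra h0
    push Not at h0
    simp [h0] at hsum
  have hdiv : ∀ j, (8 : ℤ) ∣ x j := fun j => by
    have := hxi j
    simp only [ind, Finset.notMem_empty, if_false] at this
    split_ifs at this <;> omega
  have hbig : ∀ j, x j ≠ 0 → 64 ≤ x j ^ 2 := fun j hj => by
    have := hdiv j
    have h2 : x j ≤ -8 ∨ 8 ≤ x j := by omega
    rcases h2 with h2 | h2 <;> nlinarith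
  have hrest : ∀ j, j ≠ i → x j = 0 := by
    intro j hj
    by_contra hj0
    have h2 := Finset.sum_le_sum_of_subset_of_nonneg (Finset.subset_univ ({i, j} : Finset GolayPt))
      (fun a _ _ => sq_nonneg (x a))
    rw [Finset.sum_pair hj.symm, hsum] at h2
    have := hbig i hi
    have := hbig j hj0
    omega
  rw [Finset.sum_eq_single i (fun j _ hj => by rw [hrest j hj]; rfl) (by simp)] at hsum
  refine ⟨i, x i, ?_, funext fun j => ?_⟩
  · rcases sq_eq_sq_iff_eq_or_eq_neg.1 (hsum.trans (by norm_num : (64 : ℤ) = 8 ^ 2)) with e | e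
    exacts [Or.inl e, Or.inr e]
  · by_cases hj : j = i
    · subst hj; rw [Pi.single_eq_same]
    · rw [Pi.single_eq_of_ne hj, hrest j hj]

theorem four_pair_mem (i : GolayPt) :
    (fun j => (if j = i then 4 else 0) - (if j = none then 4 else 0) : Vec) ∈ leechLattice := by
  refine Gens.mem_of_inLat ?_
  revert i; decide +kernel

theorem fixesCross_of_fix {g : Co0} (h : g • frame none = frame none) : FixesCross g := by
  have hf : ∀ i, ((g • frame i : leechLattice) : Vec) ∈ stdCross := by
    intro i
    refine mem_cross_of_congr ((sqNorm_smul g _).trans (sqNorm_frame i))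
      (g • (⟨_, four_pair_mem i⟩ : leechLattice)).2 ?_
    have e : frame i = frame none + 2 • (⟨_, four_pair_mem i⟩ : leechLattice) := by
      apply Subtype.ext
      funext j
      rw [AddSubgroup.coe_add, AddSubgroup.coe_nsmul, frame_coe, frame_coe, Pi.add_apply,
        Pi.smul_apply]
      by_cases a : j = i <;> by_cases b : j = none <;> simp [a, b, Pi.single_apply] <;>
        simp_all
    have e' := congrArg (actHom g) e
    rw [map_add, map_nsmul, actHom_apply, actHom_apply, actHom_apply, h] at e'
    rw [e', AddSubgroup.coe_add, AddSubgroup.coe_nsmul, frame_coe]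
  rintro v ⟨i, s, hs, hv⟩
  obtain ⟨k, t, ht, hk⟩ := hf i
  rcases hs with rfl | rfl
  · rw [show v = frame i from Subtype.ext hv]; exact ⟨k, t, ht, hk⟩
  · rw [show v = -frame i from Subtype.ext (by rw [hv, AddSubgroup.coe_neg, frame_coe, Pi.single_neg]),
      smul_neg', AddSubgroup.coe_neg, hk, ← Pi.single_neg]
    exact ⟨k, -t, by rcases ht with rfl | rfl <;> simp, rfl⟩

theorem card_codeSets_avoid : Nat.card {c : codeSets // none ∉ c.1} = 2048 := by
  have h : {s : Finset GolayPt | s ∈ codeSets ∧ none ∉ s}.ncard = 2048 :=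
    ncard_code_filter' (fun m => !m.testBit 23) _ (fun s => by
      have e : (mask s).testBit 23 = decide (none ∈ s) := testBit_mask s none
      simp [mem_supports_iff, e]) _ (by decide +kernel)
  rw [← h, ← Nat.card_coe_set_eq]
  exact Nat.card_congr (Equiv.subtypeSubtypeEquivSubtypeInter (fun s => s ∈ codeSets) (fun s => none ∉ s))

theorem card_stab_frame : Nat.card (MulAction.stabilizer Co0 (frame none)) = 10200960 * 2048 := by
  let f : MulAction.stabilizer M24 (none : GolayPt) × {c : codeSets // none ∉ c.1} →
      MulAction.stabilizer Co0 (frame none) := fun p => ⟨mono (p.1.1, p.2.1),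
    MulAction.mem_stabilizer_iff.2 (Subtype.ext (by
      rw [mono_frame, frame_coe, show ((p.1.1 : M24) : Equiv.Perm GolayPt) none = none from
        MulAction.mem_stabilizer_iff.1 p.1.2, if_neg p.2.2]))⟩
  have hf : Function.Bijective f := by
    refine ⟨fun p q h => ?_, fun g => ?_⟩
    · have := mono_injective (congrArg Subtype.val h)
      rw [Prod.mk.injEq] at this
      exact Prod.ext (Subtype.ext this.1) (Subtype.ext this.2)
    · obtain ⟨⟨σ, c⟩, hp⟩ := exists_mono g.1 (fixesCross_of_fix (MulAction.mem_stabilizer_iff.1 g.2))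
      have e := mono_frame (σ, c) none
      rw [hp, MulAction.mem_stabilizer_iff.1 g.2, frame_coe] at e
      have h0 : (σ : Equiv.Perm GolayPt) none = none := by
        by_contra hne
        have := congrFun e none
        rw [Pi.single_eq_same, Pi.single_eq_of_ne (Ne.symm hne)] at this
        norm_num at this
      rw [h0] at e
      have hc : none ∉ c.1 := fun hc => by
        have := congrFun e none
        rw [if_pos hc, Pi.single_eq_same, Pi.single_eq_same] at this
        norm_num at this
      exact ⟨(⟨σ, h0⟩, ⟨c, hc⟩), Subtype.ext hp⟩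
  rw [← Nat.card_congr (Equiv.ofBijective f hf), Nat.card_prod, card_codeSets_avoid,
    Cfsg.Agent.Golay.Trans.card_stabilizer_point]

theorem orbit_frame :
    MulAction.orbit Co0 (frame none) = {v : leechLattice | sqNorm (v : Vec) = 64} := by
  ext v
  constructor
  · rintro ⟨g, rfl⟩
    exact (sqNorm_smul g _).trans (sqNorm_frame none)
  · intro hv
    obtain ⟨g, hg⟩ := Shells.transitive64 (frame none) v (sqNorm_frame none) hv
    exact ⟨g, hg⟩

theorem card_Co0 : Nat.card Co0 = 8315553613086720000 := by
  rw [← (MulAction.stabilizer Co0 (frame none)).card_mul_index, MulAction.index_stabilizer,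
    card_stab_frame, orbit_frame]
  have h : {v : leechLattice | sqNorm (v : Vec) = 64}.ncard = 398034000 := by
    rw [← S0396.result, ← Set.ncard_image_of_injective _ Subtype.val_injective]
    congr 1
    ext x
    exact ⟨fun ⟨v, hv, e⟩ => e ▸ ⟨v.2, hv⟩, fun ⟨hx, hn⟩ => ⟨⟨x, hx⟩, hn, rfl⟩⟩
  rw [h]

theorem finite_Co0 : Finite Co0 := Nat.finite_of_card_ne_zero (by rw [card_Co0]; norm_num)

/-- The centre consists of plus and minus one. -/
theorem center_eq (g : Co0) (hg : g ∈ Subgroup.center Co0) : g = 1 ∨ g = negOne := by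
  have hcomm := Subgroup.mem_center_iff.1 hg
  -- the image of `8 e∞` vanishes off `∞`
  have hv : ∀ i, i ≠ none → ((g • frame none : leechLattice) : Vec) i = 0 := by
    intro i hi
    have hc : ∀ i : GolayPt, i ≠ none → ∃ m ∈ basisMasks ++ [0],
        ∃ m' ∈ basisMasks ++ [0], ((m ^^^ m').testBit (ix i) = true) ∧ (m ^^^ m').testBit 23 = false := by
      decide +kernel
    obtain ⟨m, hm, m', hm', h1, h2⟩ := hc i hi
    have hmc : ∀ m ∈ basisMasks ++ [0], isCode m = true ∧ m < 2 ^ 24 := by decide +kernel
    have hcode : maskSet (m ^^^ m') ∈ codeSets := mem_supports_iff.2 (by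
      rw [mask_maskSet (Nat.xor_lt_two_pow (hmc m hm).2 (hmc m' hm').2)]
      exact isCode_xor (hmc m hm).1 (hmc m' hm').1)
    have hfix : sign _ hcode • frame none = frame none := by
      apply Subtype.ext
      funext j
      rw [sign_smul, frame_coe, Basic.flip]
      by_cases hj : j = none
      · subst hj
        rw [if_neg (by simp [mem_maskSet, show ix (none : GolayPt) = 23 from rfl, h2])]
      · rw [Pi.single_eq_of_ne hj]; simp
    have e : sign _ hcode • g • frame none = g • frame none := by
      rw [← mul_smul, hcomm, mul_smul, hfix]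
    have e' := congrArg (fun w : leechLattice => (w : Vec) i) e
    simp only [sign_smul, Basic.flip] at e'
    rw [if_pos (mem_maskSet.2 h1)] at e'
    omega
  obtain ⟨s, hs, hgs⟩ : ∃ s : ℤ, (s = 1 ∨ s = -1) ∧ g • frame none = s • frame none := by
    have hn := (sqNorm_smul g _).trans (sqNorm_frame none)
    rw [sqNorm, Finset.sum_eq_single none (fun j _ hj => by rw [hv j hj]; rfl) (by simp)] at hn
    rcases sq_eq_sq_iff_eq_or_eq_neg.1 (hn.trans (by norm_num : (64 : ℤ) = 8 ^ 2)) with e | e
    · refine ⟨1, Or.inl rfl, Subtype.ext (funext fun j => ?_)⟩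
      by_cases hj : j = none
      · subst hj; simp [e, frame_coe]
      · simp [hv j hj, frame_coe, hj]
    · refine ⟨-1, Or.inr rfl, Subtype.ext (funext fun j => ?_)⟩
      by_cases hj : j = none
      · subst hj; simp [e, frame_coe]
      · simp [hv j hj, frame_coe, hj]
  have hall : ∀ i, g • frame i = s • frame i := by
    intro i
    obtain ⟨h, hh⟩ := Shells.transitive64 (frame none) (frame i) (sqNorm_frame none) (sqNorm_frame i)
    rw [← hh, ← mul_smul, ← hcomm, mul_smul, hgs]
    exact map_zsmul (actHom h) s _
  have hgv : ∀ v : leechLattice, g • v = s • v := by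
    intro v
    have e := congrArg (actHom g) (eight_smul v)
    simp only [map_zsmul, map_sum, actHom_apply, hall, smul_comm _ s] at e
    rw [← Finset.smul_sum, ← eight_smul] at e
    rw [smul_comm s (8 : ℤ)] at e
    refine Subtype.ext (funext fun j => ?_)
    have := congrArg (fun w : leechLattice => (w : Vec) j) e
    simp only [AddSubgroup.coe_zsmul, Pi.smul_apply, smul_eq_mul] at this ⊢
    omega
  rcases hs with rfl | rfl
  · exact Or.inl (ext' fun v => by rw [hgv, one_smul, one_smul])
  · exact Or.inr (ext' fun v => by rw [hgv, negOne_smul, neg_one_smul])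

theorem negOne_ne_one : negOne ≠ 1 := by
  intro h
  have := congrArg (fun g : Co0 => ((g • frame none : leechLattice) : Vec) none) h
  simp [negOne_smul, frame_coe] at this

theorem card_center : Nat.card (Subgroup.center Co0) = 2 := by
  rw [Nat.card_eq_two_iff]
  refine ⟨⟨1, one_mem _⟩, ⟨negOne, negOne_central⟩,
    fun h => negOne_ne_one (congrArg Subtype.val h).symm, ?_⟩
  rw [Set.eq_univ_iff_forall]
  rintro ⟨g, hg⟩
  rcases center_eq g hg with rfl | rfl <;> simp

end Cfsg.Agent.LeechAut.Cross
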