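import Cfsg.Agent.Lib.LeechAut.Basic

/-!
The element of `Co0` attached to a sextet: on each tetrad, half the sum minus the coordinate, with
one tetrad negated.
-/

set_option autoImplicit false
set_option maxRecDepth 10000

namespace Cfsg.Agent.LeechAut.Xi

open Cfsg Cfsg.Agent.Golay.Basic Cfsg.Agent.Golay.Design Cfsg.Agent.Leech.Basic Cfsg.Agent.Leech.Gen
  Cfsg.Agent.Leech.Index Cfsg.Agent.LeechAut.Gens Cfsg.Agent.LeechAut.Basic Finset

/-- The six tetrads, one after the other. -/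
def tetList : List ℕ :=
  [0, 1, 2, 23, 4, 13, 16, 22, 3, 5, 14, 17, 6, 7, 19, 21, 9, 10, 15, 20, 8, 11, 12, 18]

/-- The point in position `(b, j)`. -/
def pos (q : Fin 6 × Fin 4) : GolayPt := pt (tetList.getD (4 * q.1.1 + q.2.1) 0)

/-- The block of a point. -/
def blk (p : GolayPt) : Fin 6 := ⟨tetList.idxOf (ix p) / 4 % 6, Nat.mod_lt _ (by norm_num)⟩

theorem pos_bijective : Function.Bijective pos :=
  (Fintype.bijective_iff_surjective_and_card pos).2 ⟨by decide +kernel, by decide⟩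

theorem blk_pos : ∀ q, blk (pos q) = q.1 := by decide +kernel

/-- The sum over a block. -/
def bsum (x : Vec) (b : Fin 6) : ℤ := x (pos (b, 0)) + x (pos (b, 1)) + x (pos (b, 2)) + x (pos (b, 3))

/-- The sign on a block. -/
def sg (b : Fin 6) : ℤ := if b = 0 then -1 else 1

theorem sg_sq (b : Fin 6) : sg b * sg b = 1 := by by_cases h : b = 0 <;> simp [sg, h]

/-- The map on vectors. -/
def xiFun (x : Vec) : Vec := fun p => sg (blk p) * (bsum x (blk p) / 2 - x p)

theorem bsum_even {x : Vec} (hx : x ∈ leechLattice) (b : Fin 6) : (2 : ℤ) ∣ bsum x b := by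
  obtain ⟨m, c, y, -, -, hx, -⟩ := mem_lattice_iff.1 hx
  simp only [bsum, hx]
  omega

theorem xiFun_add {x y : Vec} (hx : x ∈ leechLattice) :
    xiFun (x + y) = xiFun x + xiFun y := by
  funext p
  have e : bsum (x + y) (blk p) = bsum x (blk p) + bsum y (blk p) := by
    simp only [bsum, Pi.add_apply]; ring
  simp only [xiFun, e, Pi.add_apply, Int.add_ediv_of_dvd_left (bsum_even hx _)]
  ring

theorem xiFun_zero : xiFun 0 = 0 := funext fun p => by simp [xiFun, bsum]

theorem xiFun_neg {x : Vec} (hx : x ∈ leechLattice) : xiFun (-x) = -xiFun x := by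
  have h := xiFun_add (y := -x) hx
  rw [add_neg_cancel, xiFun_zero] at h
  exact eq_neg_of_add_eq_zero_right h.symm

theorem xi_mem {x : Vec} (hx : x ∈ leechLattice) : xiFun x ∈ leechLattice := by
  let K : AddSubgroup Vec :=
    { carrier := {x | x ∈ leechLattice ∧ xiFun x ∈ leechLattice}
      zero_mem' := ⟨zero_mem _, by rw [xiFun_zero]; exact zero_mem _⟩
      add_mem' := fun {a b} ha hb => ⟨add_mem ha.1 hb.1, by rw [xiFun_add ha.1]; exact add_mem ha.2 hb.2⟩
      neg_mem' := fun {a} ha => ⟨neg_mem ha.1, by rw [xiFun_neg ha.1]; exact neg_mem ha.2⟩ }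
  have key : ∀ v : Vec, inLat v = true → inLat (xiFun v) = true → v ∈ K :=
    fun v h h' => ⟨mem_of_inLat h, mem_of_inLat h'⟩
  have h1 : inLat oddVec = true ∧ inLat (xiFun oddVec) = true := by decide +kernel
  have h2 : ∀ i : GolayPt, i ≠ none → ∀ t ∈ [(1 : ℤ), -1],
      inLat (pairVec i t) = true ∧ inLat (xiFun (pairVec i t)) = true := by decide +kernel
  have h3 : ∀ b ∈ basisMasks,
      inLat (twoInd (maskSet b)) = true ∧ inLat (xiFun (twoInd (maskSet b))) = true := by decide +kernel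
  exact (le_of_gens K (key _ h1.1 h1.2) (fun i hi t ht => key _ (h2 i hi t ht).1 (h2 i hi t ht).2)
    (fun b hb => key _ (h3 b hb).1 (h3 b hb).2) hx).2

theorem bsum_xi {x : Vec} (hx : x ∈ leechLattice) (b : Fin 6) : bsum (xiFun x) b = sg b * bsum x b := by
  obtain ⟨k, hk⟩ := bsum_even hx b
  simp only [bsum, xiFun, blk_pos] at hk ⊢
  rw [hk, Int.mul_ediv_cancel_left _ (by norm_num)]
  linear_combination (-sg b) * hk

theorem xi_xi {x : Vec} (hx : x ∈ leechLattice) : xiFun (xiFun x) = x := by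
  funext p
  obtain ⟨k, hk⟩ := bsum_even hx (blk p)
  rw [xiFun, bsum_xi hx, hk, xiFun, hk]
  rcases (show sg (blk p) = 1 ∨ sg (blk p) = -1 by unfold sg; split_ifs <;> simp) with e | e <;>
    rw [e] <;> omega

theorem sqNorm_xi {x : Vec} (hx : x ∈ leechLattice) : sqNorm (xiFun x) = sqNorm x := by
  have key : ∀ f : Vec, ∑ p, f p ^ 2 =
      ∑ b : Fin 6, (f (pos (b, 0)) ^ 2 + f (pos (b, 1)) ^ 2 + f (pos (b, 2)) ^ 2 + f (pos (b, 3)) ^ 2) := by
    intro f
    rw [← pos_bijective.sum_comp fun p => f p ^ 2, Fintype.sum_prod_type]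
    simp only [Fin.sum_univ_four]
  simp only [sqNorm, key]
  refine sum_congr rfl fun b _ => ?_
  obtain ⟨k, hk⟩ := bsum_even hx b
  simp only [xiFun, blk_pos, hk, Int.mul_ediv_cancel_left k (two_ne_zero (α := ℤ))]
  simp only [bsum] at hk
  have h2 := sg_sq b
  simp only [mul_pow, sq (sg b), h2, one_mul]
  linear_combination (-2 * k) * hk

/-- The element. -/
def xi : Co0 :=
  mk (fun v => ⟨xiFun v, xi_mem v.2⟩) (fun v => ⟨xiFun v, xi_mem v.2⟩)
    (fun v => Subtype.ext (xi_xi v.2)) (fun v => Subtype.ext (xi_xi v.2))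
    (fun v _ => Subtype.ext (xiFun_add v.2)) (fun v => sqNorm_xi v.2)

@[simp] theorem xi_smul (v : leechLattice) : ((xi • v : leechLattice) : Vec) = xiFun v := rfl

end Cfsg.Agent.LeechAut.Xi
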