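import Cfsg.Agent.Lib.LeechAut.Gens

/-!
Elements of `Co0`: permutations from `M24`, sign changes on code words; algebra of the action.
-/

set_option autoImplicit false

namespace Cfsg.Agent.LeechAut.Basic

open Cfsg Cfsg.Agent.Golay.Basic Cfsg.Agent.Golay.Design Cfsg.Agent.Leech.Basic Cfsg.Agent.Leech.Index
  Finset

/-- The image of a lattice vector, as a vector. -/
def act (g : Co0) (v : leechLattice) : Vec := ((g • v : leechLattice) : Vec)

theorem smul_def' (g : Co0) (v : leechLattice) : g • v = (g : Equiv.Perm leechLattice) v := rfl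

theorem smul_add' (g : Co0) (v w : leechLattice) : g • (v + w) = g • v + g • w := g.2.1 v w

/-- The action as an additive map. -/
def actHom (g : Co0) : leechLattice →+ leechLattice := AddMonoidHom.mk' (fun v => g • v) (smul_add' g)

@[simp] theorem actHom_apply (g : Co0) (v : leechLattice) : actHom g v = g • v := rfl

theorem smul_zero' (g : Co0) : g • (0 : leechLattice) = 0 := map_zero (actHom g)

theorem smul_neg' (g : Co0) (v : leechLattice) : g • (-v) = -(g • v) := map_neg (actHom g) v

theorem smul_sub' (g : Co0) (v w : leechLattice) : g • (v - w) = g • v - g • w := map_sub (actHom g) v w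

theorem sqNorm_smul (g : Co0) (v : leechLattice) :
    sqNorm ((g • v : leechLattice) : Vec) = sqNorm (v : Vec) := g.2.2 v

theorem sqNorm_add (x y : Vec) : sqNorm (x + y) = sqNorm x + 2 * dotInt x y + sqNorm y := by
  simp only [sqNorm, dotInt, Pi.add_apply, mul_sum, ← sum_add_distrib]
  exact sum_congr rfl fun i _ => by ring

theorem dot_smul (g : Co0) (v w : leechLattice) :
    dotInt ((g • v : leechLattice) : Vec) ((g • w : leechLattice) : Vec) = dotInt (v : Vec) (w : Vec) := by
  have h := sqNorm_smul g (v + w)
  rw [smul_add', AddSubgroup.coe_add, AddSubgroup.coe_add, sqNorm_add, sqNorm_add, sqNorm_smul,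
    sqNorm_smul] at h
  omega

theorem ext' {g h : Co0} (e : ∀ v : leechLattice, g • v = h • v) : g = h :=
  Subtype.ext (Equiv.ext e)

/-- An element given by two inverse additive isometries. -/
def mk (f f' : leechLattice → leechLattice) (h1 : ∀ v, f' (f v) = v) (h2 : ∀ v, f (f' v) = v)
    (hadd : ∀ v w, f (v + w) = f v + f w) (hn : ∀ v : leechLattice, sqNorm (f v : Vec) = sqNorm (v : Vec)) :
    Co0 :=
  ⟨⟨f, f', h1, h2⟩, hadd, hn⟩

@[simp] theorem mk_smul (f f' : leechLattice → leechLattice) (h1 : ∀ v, f' (f v) = v)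
    (h2 : ∀ v, f (f' v) = v) (hadd : ∀ v w, f (v + w) = f v + f w)
    (hn : ∀ v : leechLattice, sqNorm (f v : Vec) = sqNorm (v : Vec)) (v : leechLattice) :
    mk f f' h1 h2 hadd hn • v = f v := rfl

/-- Substituting coordinates by an element of `M24`. -/
def perm (σ : Equiv.Perm GolayPt) (hσ : σ ∈ M24) : Co0 :=
  mk (fun v => ⟨fun i => (v : Vec) (σ i), perm_mem hσ v.2⟩)
    (fun v => ⟨fun i => (v : Vec) (σ⁻¹ i), perm_mem (M24.inv_mem hσ) v.2⟩)
    (fun v => Subtype.ext (funext fun i => by simp)) (fun v => Subtype.ext (funext fun i => by simp))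
    (fun _ _ => rfl) (fun v => Equiv.sum_comp σ fun i => (v : Vec) i ^ 2)

@[simp] theorem perm_smul (σ : Equiv.Perm GolayPt) (hσ : σ ∈ M24) (v : leechLattice) (i : GolayPt) :
    ((perm σ hσ • v : leechLattice) : Vec) i = (v : Vec) (σ i) := rfl

/-- Sign change on a set. -/
def flip (c : Finset GolayPt) (x : Vec) : Vec := fun i => if i ∈ c then -x i else x i

theorem flip_flip (c : Finset GolayPt) (x : Vec) : flip c (flip c x) = x :=
  funext fun i => by by_cases h : i ∈ c <;> simp [flip, h]

/-- Sign change on a code word. -/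
def sign (c : Finset GolayPt) (hc : c ∈ codeSets) : Co0 :=
  mk (fun v => ⟨flip c v, sign_mem hc v.2⟩) (fun v => ⟨flip c v, sign_mem hc v.2⟩)
    (fun v => Subtype.ext (flip_flip c v)) (fun v => Subtype.ext (flip_flip c v))
    (fun v w => Subtype.ext (funext fun i => by
      by_cases h : i ∈ c <;> simp [flip, h, add_comm]))
    (fun v => sum_congr rfl fun i _ => by by_cases h : i ∈ c <;> simp [flip, h])

@[simp] theorem sign_smul (c : Finset GolayPt) (hc : c ∈ codeSets) (v : leechLattice) :
    ((sign c hc • v : leechLattice) : Vec) = flip c (v : Vec) := rfl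

/-- Negation. -/
def negOne : Co0 := sign univ univ_mem

theorem negOne_smul (v : leechLattice) : negOne • v = -v :=
  Subtype.ext (funext fun i => by simp [negOne, flip])

theorem negOne_comm (g : Co0) : g * negOne = negOne * g :=
  ext' fun v => by rw [mul_smul, mul_smul, negOne_smul, negOne_smul, smul_neg']

theorem negOne_central : negOne ∈ Subgroup.center Co0 :=
  Subgroup.mem_center_iff.2 negOne_comm

end Cfsg.Agent.LeechAut.Basic
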