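import Cfsg.Agent.Lib.LeechAut.Moments

/-!
The hundred vectors at inner products 24 and -24 to a pair of squared length 48.
-/

set_option autoImplicit false
set_option maxRecDepth 10000

namespace Cfsg.Agent.LeechAut.Census

open Cfsg Cfsg.Agent.Golay.Basic Cfsg.Agent.Golay.Design Cfsg.Agent.Leech.Basic Cfsg.Agent.Leech.Index
  Cfsg.Agent.LeechAut.Gens Cfsg.Agent.LeechAut.Basic
  Cfsg.Agent.LeechAut.Shells Cfsg.Agent.LeechAut.Cross Cfsg.Agent.LeechAut.Pairs
  Cfsg.Agent.LeechAut.Triples Cfsg.Agent.LeechAut.Moments Finset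

theorem ncard_cnt (u : Vec) (T : ℤ) :
    {w : leechLattice | sqNorm (w : Vec) = 32 ∧ dotInt u (w : Vec) = T}.ncard = cnt u T := by
  classical
  rw [cnt, ← Set.ncard_coe_finset]
  refine congrArg Set.ncard (Set.ext fun w => ?_)
  rw [Set.mem_ofPred_eq, mem_coe, mem_filter, mem_short]

/-- A vector of squared length 48 with `5` at the extra point. -/
def five : Vec := fun p => if p = none then 5 else if (5279 : ℕ).testBit (ix p) then -1 else 1

/-- The same as a lattice vector. -/
def u5 : leechLattice := ⟨five, mem_of_inLat (by decide +kernel)⟩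

theorem u5_facts : sqNorm (u5 : Vec) = 48 ∧ (u5 : Vec) none = 5 ∧ (u5 : Vec) (pt 0) = -1 := by
  show sqNorm five = 48 ∧ five none = 5 ∧ five (pt 0) = -1
  decide +kernel

theorem u5_ne_zero (p : GolayPt) : (u5 : Vec) p ≠ 0 := by
  show five p ≠ 0
  revert p
  decide +kernel

theorem card_avoid_two : {s : Finset GolayPt | s ∈ codeSets ∧ none ∉ s ∧ pt 0 ∉ s}.ncard = 1024 :=
  ncard_code_filter' (fun m => !m.testBit 23 && !m.testBit 0) _ (fun s => by
    have e1 : (mask s).testBit 23 = decide (none ∈ s) := testBit_mask s none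
    have e2 : (mask s).testBit 0 = decide (pt 0 ∈ s) := testBit_mask s (pt 0)
    simp [mem_supports_iff, e1, e2]) _ (by decide +kernel)

theorem abs_five {x : leechLattice} (hx : sqNorm (x : Vec) = 48) (h1 : (x : Vec) none = 5) (p : GolayPt) :
    |(x : Vec) p| = |(u5 : Vec) p| := by
  have h : ∀ q, q ≠ none → 1 ≤ (x : Vec) q ^ 2 := by
    intro q hq
    obtain ⟨m, c, a, hm, -, hxs, -⟩ := mem_lattice_iff.1 x.2
    have e1 := hxs none
    have e2 := hxs q
    have : (x : Vec) q ≠ 0 := by omega
    nlinarith [mul_self_pos.2 this]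
  have hsum : sqNorm (x : Vec) = 25 + ∑ q ∈ (univ : Finset GolayPt).erase none, (x : Vec) q ^ 2 := by
    rw [sqNorm, ← add_sum_erase univ _ (mem_univ none), h1]; norm_num
  by_cases hp : p = none
  · subst hp; rw [h1, u5_facts.2.1]
  · have hle : (x : Vec) p ^ 2 + ∑ q ∈ ((univ : Finset GolayPt).erase none).erase p, (1 : ℤ) ≤
        ∑ q ∈ (univ : Finset GolayPt).erase none, (x : Vec) q ^ 2 := by
      rw [← add_sum_erase _ (fun q => (x : Vec) q ^ 2) (mem_erase.2 ⟨hp, mem_univ p⟩)]
      exact add_le_add le_rfl (sum_le_sum fun q hq => h q (mem_erase.1 (mem_of_mem_erase hq)).1)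
    rw [sum_const, card_erase_of_mem (mem_erase.2 ⟨hp, mem_univ p⟩), card_erase_of_mem (mem_univ _),
      card_univ, show Fintype.card GolayPt = 24 by decide] at hle
    simp only [nsmul_eq_mul, mul_one] at hle
    push_cast at hle
    have hp1 := h p hp
    have e : (x : Vec) p ^ 2 = 1 := by omega
    have e' : |(u5 : Vec) p| = 1 := by
      show |five p| = 1
      simp only [five, if_neg hp]
      split_ifs <;> rfl
    rw [e']
    rcases sq_eq_one_iff.1 e with a | a <;> rw [a] <;> rfl

/-- The vectors of squared length 48 with `5` and `-1` at the first two points. -/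
theorem card_fives :
    (mid.filter fun x : leechLattice => (x : Vec) none = 5 ∧ (x : Vec) (pt 0) = -1).card = 1024 := by
  classical
  rw [← card_avoid_two, ← Set.ncard_coe_finset]
  refine (Set.ncard_congr (fun d hd => sign d hd.1 • u5) ?_ ?_ ?_).symm
  · rintro d ⟨hd, h1, h2⟩
    obtain ⟨f1, f2, f3⟩ := u5_facts
    rw [mem_coe, mem_filter, mem_mid]
    refine ⟨(sqNorm_smul _ _).trans f1, ?_, ?_⟩
    · rw [sign_smul, Basic.flip, if_neg h1, f2]
    · rw [sign_smul, Basic.flip, if_neg h2, f3]
  · intro d d' hd hd' e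
    ext p
    have e' := congrArg (fun z : leechLattice => (z : Vec) p) e
    have hne := u5_ne_zero p
    simp only [sign_smul, Basic.flip] at e'
    split_ifs at e' with a b b
    · simp [a, b]
    · omega
    · omega
    · simp [a, b]
  · intro x hx
    rw [mem_coe, mem_filter, mem_mid] at hx
    obtain ⟨hx, h1, h0⟩ := hx
    obtain ⟨f1, f2, f3⟩ := u5_facts
    obtain ⟨d, hd, he, hav⟩ := flip_mem (x := u5) (y := x) (by rw [f2]; rfl) fun p => (abs_five hx h1 p).symm
    exact ⟨d, ⟨hd, hav _ (by rw [f2, h1]), hav _ (by rw [f3, h0])⟩, he⟩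

/-- Next to a vector of squared length 32. -/
theorem card_near {s : leechLattice} (hs : sqNorm (s : Vec) = 32) :
    (mid.filter fun u : leechLattice => dotInt (s : Vec) (u : Vec) = 16).card = 953856 := by
  classical
  have h := card_mul_eq_card_mul (fun (t : leechLattice) (u : leechLattice) => dotInt (t : Vec) (u : Vec) = 16)
    (s := short) (t := mid) (m := (mid.filter fun u : leechLattice => dotInt (s : Vec) (u : Vec) = 16).card)
    (n := 11178) ?_ ?_
  · rw [card_short, card_mid] at h; omega
  · intro t ht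
    obtain ⟨g, hg⟩ := transitive32 t s (mem_short.1 ht) hs
    subst hg
    rw [bipartiteAbove]
    refine card_nbij' (fun w => g • w) (fun w => g⁻¹ • w) ?_ ?_ (fun w _ => inv_smul_smul g w)
      (fun w _ => smul_inv_smul g w)
    · intro w hw
      rw [mem_coe, mem_filter, mem_mid] at hw ⊢
      exact ⟨(sqNorm_smul g w).trans hw.1, by rw [dot_smul]; exact hw.2⟩
    · intro w hw
      rw [mem_coe, mem_filter, mem_mid] at hw ⊢
      exact ⟨(sqNorm_smul g⁻¹ w).trans hw.1, by rw [← dot_smul g, smul_inv_smul]; exact hw.2⟩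
  · intro u hu
    rw [bipartiteBelow, ← (census48 (mem_mid.1 hu)).2.1, cnt]
    exact congrArg Finset.card (filter_congr fun w _ => by rw [dot_comm])

/-- The hundred vectors. -/
theorem card_hundred {s v : leechLattice} (hs : sqNorm (s : Vec) = 32) (hv : sqNorm (v : Vec) = 48)
    (hsv : dotInt (s : Vec) (v : Vec) = 16) :
    (short.filter fun y : leechLattice => dotInt (s : Vec) (y : Vec) = 0 ∧
      dotInt (v : Vec) (y : Vec) = 24).card = 100 := by
  classical
  have h := card_mul_eq_card_mul (fun (u : leechLattice) (y : leechLattice) => dotInt (u : Vec) (y : Vec) = 24)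
    (s := mid.filter fun u : leechLattice => dotInt (s : Vec) (u : Vec) = 16)
    (t := short.filter fun y : leechLattice => dotInt (s : Vec) (y : Vec) = 0)
    (m := (short.filter fun y : leechLattice => dotInt (s : Vec) (y : Vec) = 0 ∧
      dotInt (v : Vec) (y : Vec) = 24).card) (n := 1024) ?_ ?_
  · have e : (short.filter fun y : leechLattice => dotInt (s : Vec) (y : Vec) = 0).card = 93150 :=
      (census32 hs).2.2
    rw [card_near hs, e] at h
    omega
  · intro u hu
    rw [mem_filter, mem_mid] at hu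
    obtain ⟨g, g1, g2⟩ := trans_sv s v s u hs hv hsv hs hu.1 hu.2
    rw [bipartiteAbove, filter_filter]
    refine card_nbij' (fun w => g⁻¹ • w) (fun w => g • w) ?_ ?_ (fun w _ => smul_inv_smul g w)
      (fun w _ => inv_smul_smul g w)
    · intro w hw
      rw [mem_coe, mem_filter] at hw ⊢
      refine ⟨smul_short.2 hw.1, ?_, ?_⟩
      · rw [← dot_smul g, g1, smul_inv_smul]; exact hw.2.1
      · rw [← dot_smul g, g2, smul_inv_smul]; exact hw.2.2
    · intro w hw
      rw [mem_coe, mem_filter] at hw ⊢
      refine ⟨smul_short.2 hw.1, ?_, ?_⟩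
      · conv_lhs => rw [← g1]
        rw [dot_smul]; exact hw.2.1
      · rw [← g2, dot_smul]; exact hw.2.2
  · intro y hy
    rw [mem_filter, mem_short] at hy
    obtain ⟨g, g1, g2⟩ := to_pair0 s y hs hy.1 hy.2
    rw [bipartiteBelow, filter_filter, ← card_fives]
    refine card_nbij' (fun u => g • u) (fun u => g⁻¹ • u) ?_ ?_ (fun w _ => inv_smul_smul g w)
      (fun w _ => smul_inv_smul g w)
    · intro u hu
      rw [mem_coe, mem_filter, mem_mid] at hu ⊢
      obtain ⟨hu, h16, h24⟩ := hu
      have e1 := dot_smul g s u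
      have e2 := dot_smul g y u
      rw [g1, dot_v0, h16] at e1
      rw [g2, dot_w0, dot_comm (y : Vec), h24] at e2
      show _ ∧ ((g • u : leechLattice) : Vec) none = 5 ∧ ((g • u : leechLattice) : Vec) (pt 0) = -1
      exact ⟨(sqNorm_smul g u).trans hu, by omega, by omega⟩
    · intro u hu
      rw [mem_coe, mem_filter, mem_mid] at hu ⊢
      obtain ⟨hu, h5, h1⟩ := hu
      refine ⟨(sqNorm_smul g⁻¹ u).trans hu, ?_, ?_⟩
      · rw [← dot_smul g, g1, smul_inv_smul, dot_v0, h5, h1]; norm_num
      · rw [← dot_smul g, g2, smul_inv_smul, dot_comm, dot_w0, h5, h1]; norm_num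

end Cfsg.Agent.LeechAut.Census
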