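import Cfsg.Agent.Lib.LeechAut.Co3Moments
import Cfsg.Agent.Lib.LeechAut.McL

/-!
Vectors at inner product 16 with the fixed vector of squared length 48, described relative to it by a
code word and a few further points; how the two-point stabiliser moves the descriptions.
-/

set_option autoImplicit false
set_option maxRecDepth 10000

namespace Cfsg.Agent.LeechAut.Co3Forms

open Cfsg Cfsg.Agent.Golay.Basic Cfsg.Agent.Golay.Design Cfsg.Agent.Leech.Basic Cfsg.Agent.Leech.Index
  Cfsg.Agent.LeechAut.Gens Cfsg.Agent.LeechAut.Basic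
  Cfsg.Agent.LeechAut.Shells Cfsg.Agent.LeechAut.Cross Cfsg.Agent.LeechAut.Pairs
  Cfsg.Agent.LeechAut.Triples Cfsg.Agent.LeechAut.Moments Cfsg.Agent.LeechAut.Census
  Cfsg.Agent.LeechAut.HS Cfsg.Agent.LeechAut.Co3Moments Finset
open scoped Pointwise

/-- The value relative to the fixed vector. -/
def coef (b c e r : ℤ) (o D : Finset GolayPt) (p : GolayPt) : ℤ :=
  if p = pt 0 then b else if p ∈ D then c else if p ∈ o then e else r

/-- A description of a vector. -/
def Form (a b c e r : ℤ) (o D : Finset GolayPt) (y : leechLattice) : Prop :=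
  (y : Vec) none = a ∧ ∀ p, p ≠ none → (y : Vec) p = coef b c e r o D p * (u5 : Vec) p

/-- The points of a block besides the two fixed ones. -/
def base (o : Finset GolayPt) : Finset GolayPt := (o.erase none).erase (pt 0)

theorem form_ext {a b c e r : ℤ} {o D : Finset GolayPt} {y y' : leechLattice}
    (h : Form a b c e r o D y) (h' : Form a b c e r o D y') : y = y' := by
  refine Subtype.ext (funext fun p => ?_)
  by_cases hp : p = none
  · rw [hp, h.1, h'.1]
  · rw [h.2 p hp, h'.2 p hp]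

theorem form_param {a b c e r : ℤ} {o D o' D' : Finset GolayPt} {y : leechLattice}
    (hce : c ≠ e) (hcr : c ≠ r) (her : e ≠ r) (h : Form a b c e r o D y) (h' : Form a b c e r o' D' y)
    (hn : none ∈ o ↔ none ∈ o') (h0 : pt 0 ∈ o ↔ pt 0 ∈ o') (hD : D ⊆ base o) (hD' : D' ⊆ base o') :
    o = o' ∧ D = D' := by
  have key : ∀ p, p ≠ none → p ≠ pt 0 → (p ∈ o ↔ p ∈ o') ∧ (p ∈ D ↔ p ∈ D') := by
    intro p hp hp0
    have e1 := (h.2 p hp).symm.trans (h'.2 p hp)
    have hu : (u5 : Vec) p ≠ 0 := u5_ne_zero p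
    have e2 := mul_right_cancel₀ hu e1
    have dd : ∀ {o D : Finset GolayPt}, D ⊆ base o → p ∈ D → p ∈ o := fun hs hpD =>
      mem_of_mem_erase (mem_of_mem_erase (hs hpD))
    simp only [coef, if_neg hp0] at e2
    by_cases d1 : p ∈ D <;> by_cases d2 : p ∈ D' <;> by_cases o1 : p ∈ o <;> by_cases o2 : p ∈ o' <;>
      simp only [d1, d2, o1, o2, if_true, if_false, iff_true, iff_false, not_true_eq_false, not_false_eq_true,
        and_self] at e2 ⊢ <;>
      first
        | exact absurd e2 hce | exact absurd e2.symm hce | exact absurd e2 hcr | exact absurd e2.symm hcr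
        | exact absurd e2 her | exact absurd e2.symm her | exact absurd (dd hD d1) o1 | exact absurd (dd hD' d2) o2
  refine ⟨Finset.ext fun p => ?_, Finset.ext fun p => ?_⟩
  · by_cases hp : p = none
    · rw [hp]; exact hn
    by_cases hp0 : p = pt 0
    · rw [hp0]; exact h0
    exact (key p hp hp0).1
  · by_cases hp : p = none ∨ p = pt 0
    · have : ∀ {o D : Finset GolayPt}, D ⊆ base o → p ∉ D := fun hs hpD => by
        have := hs hpD
        rw [base, mem_erase, mem_erase] at this
        rcases hp with rfl | rfl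
        · exact this.2.1 rfl
        · exact this.1 rfl
      exact iff_of_false (this hD) (this hD')
    · rw [not_or] at hp
      exact (key p hp.1 hp.2).2

/-- An element of `S` acts by a permutation and the signs that fix `u5`. -/
theorem S_act {g : Co0} (hg : g ∈ HS.S) {σ : Equiv.Perm GolayPt} (hσ : AbsPerm g σ) (v : leechLattice)
    (p : GolayPt) :
    (u5 : Vec) p * ((g • v : leechLattice) : Vec) (σ p) = (u5 : Vec) (σ p) * (v : Vec) p := by
  obtain ⟨hG, hw⟩ := HS.mem_S.1 hg
  obtain ⟨hv, hu⟩ := HS.mem_G.1 hG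
  have hfr : g • frame none = frame none := by rw [← add_eq, smul_add', hv, hw]
  obtain ⟨q, rfl⟩ := exists_mono g (fixesCross_of_fix hfr)
  have hq : AbsPerm (mono q) (q.1 : Equiv.Perm GolayPt) := fun x i => by
    rw [mono_smul, signedPerm, Equiv.symm_apply_apply]
    split_ifs <;> simp
  rw [absPerm_unique hσ hq]
  have e := congrArg (fun z : leechLattice => (z : Vec) ((q.1 : Equiv.Perm GolayPt) p)) hu
  simp only [mono_smul, signedPerm, Equiv.symm_apply_apply] at e
  rw [mono_smul, signedPerm, Equiv.symm_apply_apply, ← e]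
  split_ifs <;> ring

theorem form_move {a b c e r : ℤ} {o D : Finset GolayPt} {y : leechLattice} {g : Co0} (hg : g ∈ HS.S)
    {σ : M24} (hσ : σ ∈ HS.M22s) (habs : AbsPerm g (σ : Equiv.Perm GolayPt))
    (h : Form a b c e r o D y) :
    Form a b c e r ((σ : Equiv.Perm GolayPt) • o) ((σ : Equiv.Perm GolayPt) • D) (g • y) := by
  obtain ⟨hn, h0⟩ := HS.mem_M22s.1 hσ
  refine ⟨?_, fun p hp => ?_⟩
  · have e' := S_act hg habs y none
    rw [hn, h.1] at e'
    exact mul_left_cancel₀ (u5_ne_zero none) e'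
  · obtain ⟨q, rfl⟩ := (σ : Equiv.Perm GolayPt).surjective p
    have hq : q ≠ none := fun e' => hp (by rw [e', hn])
    have e' := S_act hg habs y q
    rw [h.2 q hq] at e'
    refine mul_left_cancel₀ (u5_ne_zero q) (e'.trans ?_)
    have h0' : (σ : Equiv.Perm GolayPt) q = pt 0 ↔ q = pt 0 := by
      rw [← (σ : Equiv.Perm GolayPt).injective.eq_iff (a := q), h0]
    simp only [coef, Cfsg.Agent.Golay.M24.mem_smul_iff, h0']
    ring

theorem dot_u5_split (y : Vec) :
    dotInt (u5 : Vec) y = 5 * y none + -y (pt 0) +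
      ∑ p ∈ ((univ : Finset GolayPt).erase none).erase (pt 0), (u5 : Vec) p * y p := by
  show ∑ p, (u5 : Vec) p * y p = _
  rw [← add_sum_erase univ _ (mem_univ none), ← add_sum_erase _ _ (mem_erase.2 ⟨pt0_ne_none, mem_univ (pt 0)⟩),
    u5_facts.2.1, u5_facts.2.2]
  ring

theorem coords {y : leechLattice} {d k a b : ℤ} (hd : dotInt (v0 : Vec) (y : Vec) = d)
    (hk : dotInt (w0 : Vec) (y : Vec) = k) (e1 : d = 4 * (a + b)) (e2 : k = 4 * (a - b)) :
    (y : Vec) none = a ∧ (y : Vec) (pt 0) = b := by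
  rw [dot_v0] at hd
  rw [dot_w0] at hk
  omega

set_option maxHeartbeats 1000000 in
theorem odd_form {y : leechLattice} (hy : InB y) (ha : (y : Vec) none = 1)
    (hb : (y : Vec) (pt 0) = -3 ∨ (y : Vec) (pt 0) = 1) :
    ∃ o ∈ octads, none ∉ o ∧ pt 0 ∈ o ∧
      (((y : Vec) (pt 0) = -3 ∧ Form 1 3 7 (-1) 1 o ∅ y) ∨
        ((y : Vec) (pt 0) = 1 ∧ ∃ j ∈ base o, Form 1 (-1) 3 (-1) 1 o {j} y)) := by
  classical
  obtain ⟨hn, hu⟩ := hy
  obtain ⟨j, hyj⟩ := McL.odd_shape hn (by rw [ha]; rfl)
  obtain ⟨m, cy, z, hm, hcy, hx, -⟩ := mem_lattice_iff.1 y.2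
  obtain ⟨m', cu, z', hm', hcu, hx', -⟩ := mem_lattice_iff.1 u5.2
  obtain ⟨-, f2, f3⟩ := u5_facts
  have x1 := hx none
  have x1' := hx' none
  rw [ha] at x1
  rw [f2] at x1'
  have hm1 : m = 1 := by omega
  have hm1' : m' = 1 := by omega
  subst hm1 hm1'
  have hiff : ∀ p, (p ∈ cy ↔ (y : Vec) p % 4 = 3) ∧ (p ∈ cu ↔ (u5 : Vec) p % 4 = 3) := by
    intro p
    have e1 := hx p
    have e2 := hx' p
    unfold ind at e1 e2
    constructor
    · by_cases p1 : p ∈ cy <;> simp only [p1, if_true, if_false, true_iff, false_iff] at e1 ⊢ <;> omega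
    · by_cases p1 : p ∈ cu <;> simp only [p1, if_true, if_false, true_iff, false_iff] at e2 ⊢ <;> omega
  set o := symmDiff cy cu with ho
  have hoc : o ∈ codeSets := symmDiff_mem_supports hcy hcu
  have hmem : ∀ p, p ∈ o ↔ ¬ ((y : Vec) p % 4 = 3 ↔ (u5 : Vec) p % 4 = 3) := fun p => by
    rw [ho, mem_symmDiff, (hiff p).1, (hiff p).2]; tauto
  have hno : none ∉ o := by rw [hmem, ha, f2]; norm_num
  have h0o : pt 0 ∈ o := by
    rw [hmem, f3]
    rcases hb with h | h <;> rw [h] <;> norm_num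
  have rest : ∀ p, p ≠ none → p ≠ pt 0 → p ≠ j →
      (y : Vec) p = (if p ∈ o then -1 else 1) * (u5 : Vec) p := by
    intro p p1 p0 pj
    have e := hyj p
    rw [if_neg pj] at e
    have h := hmem p
    rcases abs_eq (by norm_num : (0 : ℤ) ≤ 1) |>.1 e with e | e <;> rcases u5_one p1 with u | u <;>
      rw [e, u] at h <;> norm_num at h <;> simp [h, e, u]
  have hw := weights_supports hoc
  have hsum := dot_u5_split (y : Vec)
  rw [hu, ha] at hsum
  have hsq : ∀ p : GolayPt, p ≠ none → (u5 : Vec) p * (u5 : Vec) p = 1 := fun p hp => by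
    rcases u5_one hp with u | u <;> rw [u] <;> rfl
  have hE : ∀ E : Finset GolayPt, E ⊆ ((univ : Finset GolayPt).erase none).erase (pt 0) → j ∉ E →
      ∑ p ∈ E, (u5 : Vec) p * (y : Vec) p = (E.card : ℤ) - 2 * ((E ∩ o).card : ℤ) := by
    intro E hs hjE
    rw [sum_congr rfl (g := fun p => 1 - 2 * (if p ∈ o then (1 : ℤ) else 0)) fun p hp => ?_, sum_sub_distrib,
      ← mul_sum, sum_boole, filter_mem_eq_inter, sum_const]
    · simp
    · have := hs hp
      rw [mem_erase, mem_erase] at this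
      rw [rest p this.2.1 this.1 (fun e => hjE (e ▸ hp))]
      rw [show (u5 : Vec) p * ((if p ∈ o then -1 else 1) * (u5 : Vec) p) = (if p ∈ o then -1 else 1) by
        rw [mul_comm, mul_assoc, hsq p this.2.1, mul_one]]
      split_ifs <;> rfl
  have hE2 : (((univ : Finset GolayPt).erase none).erase (pt 0)).card = 22 := by decide
  have hEo : ((univ : Finset GolayPt).erase none).erase (pt 0) ∩ o = o.erase (pt 0) := by
    ext p
    simp only [mem_inter, mem_erase, mem_univ, and_true]
    exact ⟨fun h => ⟨h.1.1, h.2⟩, fun h => ⟨⟨h.1, fun e => hno (e ▸ h.2)⟩, h.2⟩⟩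
  rcases hb with h3 | h1
  · have hj : j = pt 0 := by
      by_contra hne
      have := hyj (pt 0)
      rw [if_neg (Ne.symm hne), h3] at this
      norm_num at this
    subst hj
    rw [h3, hE _ (Finset.Subset.refl _) (fun h => (mem_erase.1 h).1 rfl), hE2, hEo, card_erase_of_mem h0o] at hsum
    have hpos := card_pos.2 ⟨_, h0o⟩
    refine ⟨o, ⟨hoc, by omega⟩, hno, h0o, Or.inl ⟨h3, ha, fun p hp => ?_⟩⟩
    by_cases p0 : p = pt 0
    · rw [p0, h3, coef, if_pos rfl, f3]; rfl
    · rw [rest p hp p0 p0, coef, if_neg p0, if_neg (notMem_empty p)]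
  · have hj0 : j ≠ pt 0 := fun e => by
      have := hyj (pt 0)
      rw [if_pos e.symm, h1] at this
      norm_num at this
    have hjn : j ≠ none := fun e => by
      have := hyj none
      rw [if_pos e.symm, ha] at this
      norm_num at this
    have hjE : j ∈ ((univ : Finset GolayPt).erase none).erase (pt 0) :=
      mem_erase.2 ⟨hj0, mem_erase.2 ⟨hjn, mem_univ j⟩⟩
    rw [h1, ← add_sum_erase _ _ hjE, hE _ (erase_subset _ _) (notMem_erase j _), card_erase_of_mem hjE, hE2,
      erase_inter, hEo] at hsum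
    have hj3 := hyj j
    rw [if_pos rfl] at hj3
    have h := hmem j
    have hpos := card_pos.2 ⟨_, h0o⟩
    by_cases hjo : j ∈ o
    · have hjeq : (y : Vec) j = 3 * (u5 : Vec) j := by
        rcases abs_eq (by norm_num : (0 : ℤ) ≤ 3) |>.1 hj3 with e | e <;> rcases u5_one hjn with u | u <;>
          rw [e, u] at h ⊢ <;> norm_num at h ⊢ <;> exact absurd hjo h
      have hmj : j ∈ o.erase (pt 0) := mem_erase.2 ⟨hj0, hjo⟩
      rw [card_erase_of_mem hmj, card_erase_of_mem h0o, hjeq, mul_left_comm, hsq j hjn] at hsum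
      have hpos2 : 2 ≤ o.card := by
        have := card_pos.2 ⟨_, hmj⟩
        rw [card_erase_of_mem h0o] at this
        omega
      refine ⟨o, ⟨hoc, by omega⟩, hno, h0o, Or.inr ⟨h1, j, ?_, ha, fun p hp => ?_⟩⟩
      · rw [base, erase_eq_of_notMem hno]; exact hmj
      · by_cases p0 : p = pt 0
        · rw [p0, h1, coef, if_pos rfl, f3]; rfl
        by_cases pj : p = j
        · rw [pj, hjeq, coef, if_neg hj0, if_pos (mem_singleton_self j)]
        · rw [rest p hp p0 pj, coef, if_neg p0, if_neg (show p ∉ ({j} : Finset GolayPt) from fun h => pj (mem_singleton.1 h))]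
    · exfalso
      have hjeq : (y : Vec) j = -3 * (u5 : Vec) j := by
        rcases abs_eq (by norm_num : (0 : ℤ) ≤ 3) |>.1 hj3 with e | e <;> rcases u5_one hjn with u | u <;>
          rw [e, u] at h ⊢ <;> norm_num at h ⊢ <;> exact absurd h hjo
      rw [erase_eq_of_notMem (fun h' => hjo (mem_of_mem_erase h')), card_erase_of_mem h0o, hjeq, mul_left_comm,
        hsq j hjn] at hsum
      omega

theorem even_form {y : leechLattice} (hy : InB y) (ha : (y : Vec) none = 2)
    (hb : (y : Vec) (pt 0) = -2 ∨ (y : Vec) (pt 0) = 2) :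
    ∃ o ∈ octads, none ∈ o ∧ pt 0 ∈ o ∧
      (((y : Vec) (pt 0) = -2 ∧ ∃ D ⊆ base o, D.card = 2 ∧ Form 2 2 (-2) 2 0 o D y) ∨
        ((y : Vec) (pt 0) = 2 ∧ ∃ D ⊆ base o, D.card = 1 ∧ Form 2 (-2) (-2) 2 0 o D y)) := by
  classical
  obtain ⟨hn, hu⟩ := hy
  obtain ⟨o, ho, hyo⟩ := two_shape hn (by rw [ha]; rfl)
  obtain ⟨-, f2, f3⟩ := u5_facts
  have hno : none ∈ o := by
    by_contra h
    have := hyo none
    rw [if_neg h, ha] at this
    norm_num at this
  have h0o : pt 0 ∈ o := by
    by_contra h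
    have := hyo (pt 0)
    rw [if_neg h] at this
    rcases hb with e | e <;> rw [e] at this <;> norm_num at this
  set D := (base o).filter fun p => (u5 : Vec) p * (y : Vec) p < 0 with hD
  have hval : ∀ p, p ≠ none → p ≠ pt 0 →
      (y : Vec) p = (if p ∈ D then -2 else if p ∈ o then 2 else 0) * (u5 : Vec) p := by
    intro p p1 p0
    have e := hyo p
    by_cases hp : p ∈ o
    · rw [if_pos hp] at e
      have hpD : p ∈ D ↔ (u5 : Vec) p * (y : Vec) p < 0 := by simp [hD, base, p1, p0, hp]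
      rcases abs_eq (by norm_num : (0 : ℤ) ≤ 2) |>.1 e with e | e <;> rcases u5_one p1 with u | u <;>
        rw [e, u] at hpD <;> norm_num at hpD <;> simp [hpD, hp, e, u]
    · rw [if_neg hp, abs_eq_zero] at e
      have hpD : p ∉ D := fun h => hp (mem_of_mem_erase (mem_of_mem_erase (mem_filter.1 h).1))
      rw [e, if_neg hpD, if_neg hp, zero_mul]
  have hbase : (base o).card = 6 := by
    rw [base, card_erase_of_mem (mem_erase.2 ⟨pt0_ne_none, h0o⟩), card_erase_of_mem hno, octad_card ho]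
  have hsum := dot_u5_split (y : Vec)
  have hsub : ∑ p ∈ ((univ : Finset GolayPt).erase none).erase (pt 0), (u5 : Vec) p * (y : Vec) p =
      ∑ p ∈ base o, (u5 : Vec) p * (y : Vec) p := by
    refine (sum_subset (erase_subset_erase _ (erase_subset_erase _ (subset_univ o))) fun p hp hp' => ?_).symm
    rw [mem_erase, mem_erase] at hp
    have hp'' : p ∉ o := fun h => hp' (mem_erase.2 ⟨hp.1, mem_erase.2 ⟨hp.2.1, h⟩⟩)
    have := hyo p
    rw [if_neg hp'', abs_eq_zero] at this
    rw [this, mul_zero]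
  have hterm : ∀ p ∈ base o, (u5 : Vec) p * (y : Vec) p = 2 - 4 * (if p ∈ D then (1 : ℤ) else 0) := by
    intro p hp
    have hp2 : p ≠ pt 0 ∧ p ≠ none ∧ p ∈ o := by
      have := hp
      rw [base, mem_erase, mem_erase] at this
      exact this
    rw [hval p hp2.2.1 hp2.1, if_pos hp2.2.2]
    rcases u5_one hp2.2.1 with u | u <;> rw [u] <;> split_ifs <;> norm_num
  rw [hu, ha, hsub, sum_congr rfl hterm, sum_sub_distrib, ← mul_sum, sum_boole, filter_mem_eq_inter, sum_const,
    hbase, inter_eq_right.2 (show D ⊆ base o from filter_subset _ _)] at hsum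
  · simp only [nsmul_eq_mul] at hsum
    push_cast at hsum
    refine ⟨o, ho, hno, h0o, ?_⟩
    rcases hb with e | e
    · refine Or.inl ⟨e, D, filter_subset _ _, by rw [e] at hsum; omega, ha, fun p hp => ?_⟩
      by_cases p0 : p = pt 0
      · rw [p0, e, coef, if_pos rfl, f3]; rfl
      · rw [hval p hp p0, coef, if_neg p0]
    · refine Or.inr ⟨e, D, filter_subset _ _, by rw [e] at hsum; omega, ha, fun p hp => ?_⟩
      by_cases p0 : p = pt 0
      · rw [p0, e, coef, if_pos rfl, f3]; rfl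
      · rw [hval p hp p0, coef, if_neg p0]

end Cfsg.Agent.LeechAut.Co3Forms
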