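import Cfsg.Agent.Lib.LeechAut.HS

/-!
First and second moments of the hundred vectors, and the inner products they can have with a vector
of squared length 32 at inner product 16 to the vector of squared length 48.
-/

set_option autoImplicit false
set_option maxRecDepth 10000

namespace Cfsg.Agent.LeechAut.Co3Moments

open Cfsg Cfsg.Agent.Golay.Basic Cfsg.Agent.Golay.Design Cfsg.Agent.Leech.Basic Cfsg.Agent.Leech.Index
  Cfsg.Agent.LeechAut.Gens Cfsg.Agent.LeechAut.Basic
  Cfsg.Agent.LeechAut.Shells Cfsg.Agent.LeechAut.Cross Cfsg.Agent.LeechAut.Pairs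
  Cfsg.Agent.LeechAut.Triples Cfsg.Agent.LeechAut.Moments Cfsg.Agent.LeechAut.Census
  Cfsg.Agent.LeechAut.HS Finset

/-- The hundred vectors as a finite set. -/
noncomputable def Yf : Finset leechLattice :=
  short.filter fun y : leechLattice => dotInt (v0 : Vec) (y : Vec) = 0 ∧ dotInt (u5 : Vec) (y : Vec) = 24

theorem mem_Yf {y : leechLattice} : y ∈ Yf ↔ InY y := by
  rw [Yf, mem_filter, mem_short]; rfl

theorem card_Yf : Yf.card = 100 := by
  rw [← Set.ncard_coe_finset, ← ncard_Y]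
  exact congrArg Set.ncard (Set.ext fun y => by rw [mem_coe, mem_Yf]; rfl)

theorem w0_none : (w0 : Vec) none = 4 := by
  show orthVec none = 4
  decide +kernel

theorem sum_none (f : ℤ → ℤ) : ∑ z ∈ Yf, f ((z : Vec) none) = f 4 + 22 * f 1 + 77 * f 2 := by
  classical
  have h1 : (Yf.filter fun z : leechLattice => (z : Vec) none = 1).card = 22 := by
    rw [← Set.ncard_coe_finset, ← HS.card_one]
    exact congrArg Set.ncard (Set.ext fun y => by rw [mem_coe, mem_filter, mem_Yf]; rfl)
  have h2 : (Yf.filter fun z : leechLattice => (z : Vec) none = 2).card = 77 := by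
    rw [← Set.ncard_coe_finset, ← HS.card_two]
    exact congrArg Set.ncard (Set.ext fun y => by rw [mem_coe, mem_filter, mem_Yf]; rfl)
  have hw : w0 ∈ Yf := mem_Yf.2 w0_inY
  have e : Yf.erase w0 = (Yf.filter fun z : leechLattice => (z : Vec) none = 1) ∪
      (Yf.filter fun z : leechLattice => (z : Vec) none = 2) := by
    ext z
    simp only [mem_erase, mem_union, mem_filter]
    constructor
    · rintro ⟨hne, hz⟩
      exact (one_or_two (mem_Yf.1 hz) hne).imp (fun h => ⟨hz, h⟩) fun h => ⟨hz, h⟩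
    · rintro (⟨hz, h⟩ | ⟨hz, h⟩) <;> refine ⟨fun e => ?_, hz⟩ <;> rw [e, w0_none] at h <;> norm_num at h
  have s1 : ∑ z ∈ Yf.filter (fun z : leechLattice => (z : Vec) none = 1), f ((z : Vec) none) = 22 * f 1 := by
    rw [sum_congr rfl (g := fun _ => f 1) fun z hz => by rw [(mem_filter.1 hz).2], sum_const, h1]
    simp only [nsmul_eq_mul]; push_cast; ring
  have s2 : ∑ z ∈ Yf.filter (fun z : leechLattice => (z : Vec) none = 2), f ((z : Vec) none) = 77 * f 2 := by
    rw [sum_congr rfl (g := fun _ => f 2) fun z hz => by rw [(mem_filter.1 hz).2], sum_const, h2]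
    simp only [nsmul_eq_mul]; push_cast; ring
  rw [← add_sum_erase Yf _ hw, e, sum_union, w0_none, s1, s2]
  · ring
  · rw [disjoint_left]
    intro z a b
    rw [mem_filter] at a b
    omega

theorem sum_dot_member {x : leechLattice} (hx : InY x) (f : ℤ → ℤ) :
    ∑ z ∈ Yf, f (dotInt (x : Vec) (z : Vec)) = f 32 + 22 * f 8 + 77 * f 16 := by
  obtain ⟨g, hg, e⟩ := G_transitive w0_inY hx
  have h : ∑ z ∈ Yf, f (dotInt (x : Vec) (z : Vec)) = ∑ z ∈ Yf, f (dotInt (w0 : Vec) (z : Vec)) := by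
    refine (sum_nbij' (fun z => g • z) (fun z => g⁻¹ • z) (fun z hz => mem_Yf.2 (inY_smul hg (mem_Yf.1 hz)))
      (fun z hz => mem_Yf.2 (inY_smul (G.inv_mem hg) (mem_Yf.1 hz))) (fun z _ => inv_smul_smul g z)
      (fun z _ => smul_inv_smul g z) fun z _ => ?_).symm
    rw [← e, dot_smul]
  rw [h, sum_congr rfl (g := fun z : leechLattice => f (8 * (z : Vec) none)) fun z hz => by
    rw [dot_w0_Y (mem_Yf.1 hz)]]
  exact (sum_none fun a => f (8 * a)).trans (by norm_num)

/-- The sum of the hundred vectors. -/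
noncomputable def S1 : Vec := fun p => ∑ z ∈ Yf, (z : Vec) p

theorem dot_S1 (x : Vec) : dotInt x S1 = ∑ z ∈ Yf, dotInt x (z : Vec) := by
  show ∑ p, x p * S1 p = ∑ z ∈ Yf, ∑ p, x p * (z : Vec) p
  rw [sum_comm]
  exact sum_congr rfl fun p _ => mul_sum _ _ _

/-- What that sum is. -/
def L1 : Vec := fun p => 60 * five p - 30 * stdVec p

theorem dot_L1 (x : Vec) : dotInt x L1 = 60 * dotInt x (u5 : Vec) - 30 * dotInt x (v0 : Vec) := by
  simp only [dotInt, mul_sum, ← sum_sub_distrib]
  refine sum_congr rfl fun p _ => ?_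
  show x p * (60 * five p - 30 * stdVec p) = 60 * (x p * five p) - 30 * (x p * stdVec p)
  ring

theorem S1_eq : S1 = L1 := by
  have h1 : dotInt L1 S1 = 144000 := by
    rw [dot_S1, sum_congr rfl (g := fun _ => (1440 : ℤ)) fun z hz => ?_, sum_const, card_Yf]
    · rfl
    · rw [dot_comm, dot_L1, dot_comm _ (u5 : Vec), dot_comm _ (v0 : Vec), (mem_Yf.1 hz).2.1, (mem_Yf.1 hz).2.2]
      rfl
  have h2 : dotInt S1 S1 = 144000 := by
    rw [dot_S1, sum_congr rfl (g := fun _ => (1440 : ℤ)) fun z hz => ?_, sum_const, card_Yf]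
    · rfl
    · rw [dot_comm, dot_S1, sum_dot_member (mem_Yf.1 hz) fun a => a]
      rfl
  have h3 : dotInt L1 L1 = 144000 := by decide +kernel
  have h0 : ∑ p, (S1 p - L1 p) ^ 2 = 0 := by
    have : ∀ p, (S1 p - L1 p) ^ 2 = S1 p * S1 p - 2 * (L1 p * S1 p) + L1 p * L1 p := fun p => by ring
    rw [sum_congr rfl fun p _ => this p, sum_add_distrib, sum_sub_distrib, ← mul_sum]
    show dotInt S1 S1 - 2 * dotInt L1 S1 + dotInt L1 L1 = 0
    rw [h1, h2, h3]; norm_num
  funext p
  have := (sum_eq_zero_iff_of_nonneg fun p _ => sq_nonneg _).1 h0 p (mem_univ p)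
  exact sub_eq_zero.1 (eq_zero_of_pow_eq_zero this)

/-- The second moment. -/
noncomputable def T2 (p q : GolayPt) : ℤ := ∑ z ∈ Yf, (z : Vec) p * (z : Vec) q

/-- What the second moment is. -/
def M2 (p q : GolayPt) : ℤ :=
  (if p = q then 80 else 0) + 6 * (stdVec p * stdVec q) + 34 * (five p * five q) -
    17 * (stdVec p * five q + five p * stdVec q)

theorem quad_T2 (x : Vec) : ∑ p, ∑ q, x p * x q * T2 p q = ∑ z ∈ Yf, dotInt x (z : Vec) ^ 2 := by
  simp only [T2, mul_sum]
  rw [sum_congr rfl fun p _ => sum_comm, sum_comm]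
  refine sum_congr rfl fun z _ => ?_
  rw [dotInt, sq, sum_mul_sum]
  exact sum_congr rfl fun p _ => sum_congr rfl fun q _ => by ring

theorem quad_M2 (x : Vec) : ∑ p, ∑ q, x p * x q * M2 p q =
    80 * sqNorm x + 6 * dotInt x (v0 : Vec) ^ 2 + 34 * dotInt x (u5 : Vec) ^ 2 -
      34 * (dotInt x (v0 : Vec) * dotInt x (u5 : Vec)) := by
  have e : ∀ p q, x p * x q * M2 p q = (if p = q then 80 * (x p * x q) else 0) +
      6 * ((x p * stdVec p) * (x q * stdVec q)) + 34 * ((x p * five p) * (x q * five q)) -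
      17 * ((x p * stdVec p) * (x q * five q)) - 17 * ((x p * five p) * (x q * stdVec q)) := fun p q => by
    unfold M2; split_ifs <;> ring
  simp only [e, sum_sub_distrib, sum_add_distrib, ← mul_sum, ← sum_mul, sum_ite_eq, mem_univ, if_true]
  show 80 * ∑ p, x p * x p + 6 * (dotInt x stdVec * dotInt x stdVec) + 34 * (dotInt x five * dotInt x five) -
    17 * (dotInt x stdVec * dotInt x five) - 17 * (dotInt x five * dotInt x stdVec) = _
  rw [show ∑ p, x p * x p = sqNorm x from sum_congr rfl fun p _ => (sq (x p)).symm,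
    show (v0 : Vec) = stdVec from rfl, show (u5 : Vec) = five from rfl]
  ring

theorem T2_eq (p q : GolayPt) : T2 p q = M2 p q := by
  have hTT : ∑ p, ∑ q, T2 p q * T2 p q = 2214400 := by
    have e : ∑ p, ∑ q, T2 p q * T2 p q = ∑ z ∈ Yf, ∑ p, ∑ q, (z : Vec) p * (z : Vec) q * T2 p q := by
      conv_rhs => rw [sum_comm]
      refine sum_congr rfl fun p _ => ?_
      conv_rhs => rw [sum_comm]
      refine sum_congr rfl fun q _ => ?_
      rw [← sum_mul]; rfl
    rw [e, sum_congr rfl (g := fun _ => (22144 : ℤ)) fun z hz => ?_, sum_const, card_Yf]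
    · rfl
    · rw [quad_T2, sum_dot_member (mem_Yf.1 hz) fun a => a ^ 2]
      rfl
  have hTM : ∑ p, ∑ q, T2 p q * M2 p q = 2214400 := by
    have e : ∑ p, ∑ q, T2 p q * M2 p q = ∑ z ∈ Yf, ∑ p, ∑ q, (z : Vec) p * (z : Vec) q * M2 p q := by
      conv_rhs => rw [sum_comm]
      refine sum_congr rfl fun p _ => ?_
      conv_rhs => rw [sum_comm]
      refine sum_congr rfl fun q _ => ?_
      rw [← sum_mul]; rfl
    rw [e, sum_congr rfl (g := fun _ => (22144 : ℤ)) fun z hz => ?_, sum_const, card_Yf]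
    · rfl
    · rw [quad_M2, (mem_Yf.1 hz).1, dot_comm _ (v0 : Vec), dot_comm _ (u5 : Vec), (mem_Yf.1 hz).2.1,
        (mem_Yf.1 hz).2.2]
      rfl
  have hMM : ∑ p, ∑ q, M2 p q * M2 p q = 2214400 := by decide +kernel
  have h0 : ∑ p, ∑ q, (T2 p q - M2 p q) ^ 2 = 0 := by
    have : ∀ p q, (T2 p q - M2 p q) ^ 2 = T2 p q * T2 p q - 2 * (T2 p q * M2 p q) + M2 p q * M2 p q :=
      fun p q => by ring
    simp only [this, sum_add_distrib, sum_sub_distrib, ← mul_sum, hTT, hTM, hMM]
    norm_num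
  have := (sum_eq_zero_iff_of_nonneg fun p _ => sum_nonneg fun q _ => sq_nonneg _).1 h0 p (mem_univ p)
  have := (sum_eq_zero_iff_of_nonneg fun q _ => sq_nonneg _).1 this q (mem_univ q)
  exact sub_eq_zero.1 (eq_zero_of_pow_eq_zero this)

/-- One of the 11178 vectors, up to sign. -/
def InB (y : leechLattice) : Prop := sqNorm (y : Vec) = 32 ∧ dotInt (u5 : Vec) (y : Vec) = 16

theorem dot_range {y z : leechLattice} (hy : InB y) (hz : InY z) :
    dotInt (y : Vec) (z : Vec) = 0 ∨ dotInt (y : Vec) (z : Vec) = 8 ∨ dotInt (y : Vec) (z : Vec) = 16 := by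
  obtain ⟨hn, hu⟩ := hy
  obtain ⟨zn, -, zu⟩ := hz
  have hr := range32 hn z (mem_short.2 zn)
  simp only [mem_insert, mem_singleton] at hr
  have hneg : -8 ≤ dotInt (y : Vec) (z : Vec) ∧ dotInt (y : Vec) (z : Vec) ≠ -8 := by
    have hne : u5 ≠ y + z := fun e => by
      have h := congrArg (fun w : leechLattice => dotInt (u5 : Vec) (w : Vec)) e
      simp only [AddSubgroup.coe_add] at h
      rw [dot_self, u5_facts.1, dot_comm _ ((y : Vec) + (z : Vec)), dot_add_left, dot_comm (y : Vec),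
        dot_comm (z : Vec), hu, zu] at h
      norm_num at h
    have hf := far hne
    rw [u5_facts.1, AddSubgroup.coe_add, sqNorm_add, hn, zn, dot_comm _ ((y : Vec) + (z : Vec)), dot_add_left,
      dot_comm (y : Vec) (u5 : Vec), dot_comm (z : Vec) (u5 : Vec), hu, zu] at hf
    omega
  have h32 : dotInt (y : Vec) (z : Vec) ≠ 32 := fun h => by
    have hne : y ≠ z := fun e => by rw [e, zu] at hu; norm_num at hu
    have := far hne
    rw [hn, zn, h] at this
    norm_num at this
  omega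

/-- How many of the hundred have a given inner product. -/
noncomputable def num (y : leechLattice) (k : ℤ) : ℕ :=
  (Yf.filter fun z : leechLattice => dotInt (y : Vec) (z : Vec) = k).card

theorem num_eqs {y : leechLattice} (hy : InB y) :
    num y 0 + num y 8 + num y 16 = 100 ∧
      8 * (num y 8 : ℤ) + 16 * (num y 16 : ℤ) = 960 - 30 * dotInt (v0 : Vec) (y : Vec) ∧
      64 * (num y 8 : ℤ) + 256 * (num y 16 : ℤ) =
        11264 + 6 * dotInt (v0 : Vec) (y : Vec) ^ 2 - 544 * dotInt (v0 : Vec) (y : Vec) := by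
  classical
  have key : ∀ f : ℤ → ℤ, ∑ z ∈ Yf, f (dotInt (y : Vec) (z : Vec)) =
      f 0 * num y 0 + f 8 * num y 8 + f 16 * num y 16 := by
    intro f
    have e : ∀ z ∈ Yf, f (dotInt (y : Vec) (z : Vec)) =
        f 0 * (if dotInt (y : Vec) (z : Vec) = 0 then 1 else 0) +
        f 8 * (if dotInt (y : Vec) (z : Vec) = 8 then 1 else 0) +
        f 16 * (if dotInt (y : Vec) (z : Vec) = 16 then 1 else 0) := fun z hz => by
      rcases dot_range hy (mem_Yf.1 hz) with h | h | h <;> simp [h]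
    rw [sum_congr rfl e, sum_add_distrib, sum_add_distrib, ← mul_sum, ← mul_sum, ← mul_sum, sum_boole, sum_boole,
      sum_boole]
    rfl
  refine ⟨?_, ?_, ?_⟩
  · have h := key fun _ => 1
    rw [sum_const, card_Yf] at h
    simp only [one_mul, nsmul_eq_mul, mul_one] at h
    omega
  · have h := key fun a => a
    rw [← dot_S1, S1_eq, dot_L1, dot_comm (y : Vec) (u5 : Vec), hy.2, dot_comm (y : Vec) (v0 : Vec)] at h
    omega
  · have h := key fun a => a ^ 2
    rw [← quad_T2, sum_congr rfl fun p _ => sum_congr rfl fun q _ => by rw [T2_eq], quad_M2, hy.1,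
      dot_comm (y : Vec) (u5 : Vec), hy.2, dot_comm (y : Vec) (v0 : Vec)] at h
    linarith

end Cfsg.Agent.LeechAut.Co3Moments
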