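import Cfsg.Agent.Lib.LeechAut.Xi

/-!
Functionals on the lattice modulo two invariant under sign changes; the invariant ones vanish.
-/

set_option autoImplicit false
set_option maxRecDepth 10000

namespace Cfsg.Agent.LeechAut.Functional

open Cfsg Cfsg.Agent.Golay.Basic Cfsg.Agent.Golay.Design Cfsg.Agent.Leech.Basic Cfsg.Agent.Leech.Gen
  Cfsg.Agent.Leech.Index Cfsg.Agent.LeechAut.Gens Cfsg.Agent.LeechAut.Basic Cfsg.Agent.LeechAut.Xi Finset

/-- For each point, a pair of octads meeting in it and the extra point. -/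
def meetList : List (ℕ × ℕ) :=
  [(13062145, 11575377), (9347075, 11538486), (13938692, 8536111), (11100169, 8683614),
   (10170384, 8683614), (11952160, 12685424), (15515712, 9506893), (14254209, 10768524),
   (11731203, 13148440), (12325377, 12698124), (11654144, 13370381), (14919680, 9963547),
   (13062145, 11538486), (9347075, 14688364), (13062145, 8937586), (9347075, 12685424),
   (13062145, 9543722), (13062145, 12222476), (13062145, 8683614), (9347075, 14176296),
   (13938692, 11731203), (11100169, 11538486), (13062145, 14688364)]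

/-- The vector `8` at the extra point. -/
def eightVec : Vec := fun p => if p = none then 8 else 0

/-- Subtraction of a sign change. -/
def cut (d : Finset GolayPt) (x : Vec) : Vec := x - flip d x

theorem cut_pair : ∀ i : GolayPt, i ≠ none →
    inLat (twoInd (maskSet (meetList.getD (ix i) (0, 0)).1)) = true ∧
    isCode (mask (maskSet (meetList.getD (ix i) (0, 0)).2)) = true ∧
    lst (cut (maskSet (meetList.getD (ix i) (0, 0)).2) (twoInd (maskSet (meetList.getD (ix i) (0, 0)).1))) =
      lst (pairVec i 1) := by decide +kernel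

/-- A functional invariant under all sign changes factors through the parity. -/
theorem eq_parity (φ : leechLattice →+ ZMod 2)
    (hE : ∀ (d : Finset GolayPt) (hd : d ∈ codeSets) (v : leechLattice), φ (sign d hd • v) = φ v) :
    ∀ v : leechLattice, φ v = φ ⟨oddVec, oddVec_mem.1⟩ * (((v : Vec) none : ℤ) : ZMod 2) := by
  classical
  set a := φ ⟨oddVec, oddVec_mem.1⟩
  let K : AddSubgroup Vec :=
    { carrier := {x | ∃ h : x ∈ leechLattice, φ ⟨x, h⟩ = a * ((x none : ℤ) : ZMod 2)}
      zero_mem' := ⟨zero_mem _, by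
        rw [show (⟨0, zero_mem _⟩ : leechLattice) = 0 from rfl, map_zero]; simp⟩
      add_mem' := fun {x y} hx hy => ⟨add_mem hx.1 hy.1, by
        rw [show (⟨x + y, _⟩ : leechLattice) = ⟨x, hx.1⟩ + ⟨y, hy.1⟩ from rfl, map_add, hx.2, hy.2,
          Pi.add_apply, Int.cast_add, mul_add]⟩
      neg_mem' := fun {x} hx => ⟨neg_mem hx.1, by
        rw [show (⟨-x, _⟩ : leechLattice) = -⟨x, hx.1⟩ from rfl, map_neg, hx.2, Pi.neg_apply,
          Int.cast_neg, mul_neg]⟩ }
  have hcut : ∀ (d : Finset GolayPt), d ∈ codeSets → ∀ x ∈ leechLattice, (2 : ℤ) ∣ cut d x none →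
      cut d x ∈ K := by
    intro d hd x hx hev
    refine ⟨sub_mem hx (sign_mem hd hx), ?_⟩
    rw [show (⟨cut d x, _⟩ : leechLattice) = ⟨x, hx⟩ - sign d hd • ⟨x, hx⟩ from rfl, map_sub, hE,
      sub_self, (ZMod.intCast_zmod_eq_zero_iff_dvd _ 2).2 hev, mul_zero]
  have hodd : oddVec ∈ K := ⟨oddVec_mem.1, by
    rw [show ((oddVec none : ℤ) : ZMod 2) = 1 by decide, mul_one]⟩
  have hplus : ∀ i, i ≠ none → pairVec i 1 ∈ K := by
    intro i hi
    obtain ⟨h1, h2, h3⟩ := cut_pair i hi
    rw [← lst_injective h3]
    refine hcut _ (mem_supports_iff.2 h2) _ (mem_of_inLat h1) ?_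
    rw [lst_injective h3]
    simp only [pairVec, if_neg (Ne.symm hi), zero_add, if_true, mul_one]
    norm_num
  have h8 : eightVec ∈ K := by
    obtain ⟨h1, h2, h3⟩ := cut_pair (some 1) (by simp)
    have hd := mem_supports_iff.2 h2
    have hflip : lst (cut (maskSet (meetList.getD (ix (some 1)) (0, 0)).2) (pairVec (some 0) 1)) =
        lst eightVec ∧ inLat (pairVec (some 0) 1) = true := by decide +kernel
    rw [← lst_injective hflip.1]
    refine hcut _ hd _ (mem_of_inLat hflip.2) ?_
    rw [lst_injective hflip.1]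
    simp [eightVec]
  have hpair : ∀ i, i ≠ none → ∀ t ∈ [(1 : ℤ), -1], pairVec i t ∈ K := by
    intro i hi t ht
    simp only [List.mem_cons, List.not_mem_nil, or_false] at ht
    rcases ht with rfl | rfl
    · exact hplus i hi
    · have e : pairVec i (-1) = pairVec i 1 - eightVec := by
        funext p
        by_cases hn : p = none <;> simp [pairVec, eightVec, hn] <;> ring
      rw [e]; exact sub_mem (hplus i hi) h8
  have hb : ∀ b ∈ basisMasks, twoInd (maskSet b) ∈ K := by
    intro b hb
    have hc : isCode (mask (maskSet b)) = true ∧ (2 : ℤ) ∣ cut (maskSet b) oddVec none ∧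
        lst (cut (maskSet b) oddVec) =
          lst (twoInd (maskSet b) - (if none ∈ maskSet b then eightVec else 0)) := by
      revert b; decide +kernel
    have h := hcut _ (mem_supports_iff.2 hc.1) _ oddVec_mem.1 hc.2.1
    rw [lst_injective hc.2.2] at h
    have h' : (if none ∈ maskSet b then eightVec else 0) ∈ K := by
      split_ifs
      · exact h8
      · exact zero_mem _
    simpa using add_mem h h'
  intro v
  exact (le_of_gens K hodd hpair hb v.2).2

/-- An invariant functional vanishes. -/
theorem eq_zero (φ : leechLattice →+ ZMod 2) (h : ∀ (g : Co0) (v : leechLattice), φ (g • v) = φ v) :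
    φ = 0 := by
  have hp := eq_parity φ (fun d hd v => h (sign d hd) v)
  have hw : ∃ b ∈ basisMasks, inLat (twoInd (maskSet b)) = true ∧ (twoInd (maskSet b) none) % 2 = 0 ∧
      (xiFun (twoInd (maskSet b)) none) % 2 = 1 := by decide +kernel
  obtain ⟨b, -, hmem, he, ho⟩ := hw
  have h2 := h xi ⟨_, mem_of_inLat hmem⟩
  rw [hp (xi • _), hp ⟨twoInd (maskSet b), mem_of_inLat hmem⟩] at h2
  have e1 : (((twoInd (maskSet b) none : ℤ)) : ZMod 2) = 0 :=
    (ZMod.intCast_zmod_eq_zero_iff_dvd _ 2).2 (by omega)
  have e2 : ((xiFun (twoInd (maskSet b)) none : ℤ) : ZMod 2) = 1 := by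
    rw [← Int.cast_one, ZMod.intCast_eq_intCast_iff']; omega
  rw [xi_smul] at h2
  simp only [e1, e2, mul_one, mul_zero] at h2
  ext v
  rw [hp v, h2, zero_mul]; rfl

end Cfsg.Agent.LeechAut.Functional
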