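import Cfsg.Agent.Lib.Leech.Gen
import Cfsg.Agent.Lib.Leech.Index

/-!
A finite generating set of the lattice, a computable membership test, lists as vectors.
-/

set_option autoImplicit false
set_option maxRecDepth 10000

namespace Cfsg.Agent.LeechAut.Gens

open Cfsg Cfsg.Agent.Golay.Basic Cfsg.Agent.Golay.Design Cfsg.Agent.Leech.Basic Cfsg.Agent.Leech.Gen
  Cfsg.Agent.Leech.Index Finset

/-- The vector of a list of coordinates. -/
def vec (l : List ℤ) : Vec := fun p => l.getD (ix p) 0

/-- The coordinates of a vector. -/
def lst (x : Vec) : List ℤ := (List.range 24).map fun i => x (pt i)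

theorem vec_lst (x : Vec) : vec (lst x) = x := by
  funext p
  rw [vec, lst, List.getD_eq_getElem _ _ (by simpa using ix_lt p), List.getElem_map,
    List.getElem_range, pt_ix]

theorem getD_lst (x : Vec) (p : GolayPt) : (lst x).getD (ix p) 0 = x p := congrFun (vec_lst x) p

theorem lst_injective : Function.Injective lst := fun x y h => by rw [← vec_lst x, h, vec_lst]

/-- The membership test. -/
def inLat (x : Vec) : Bool :=
  let m := x none % 2
  ((List.range 24).all fun i => x (pt i) % 2 == m) &&
    isCode (Nat.ofBits fun i : Fin 24 => decide ((x (pt i.1) - m) % 4 = 2)) &&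
    ((((List.range 24).map fun i => x (pt i)).sum - 4 * m) % 8 == 0)

theorem mask_class {x : Vec} {c : Finset GolayPt} (h : ∀ i, i ∈ c ↔ (x i - x none % 2) % 4 = 2) :
    (Nat.ofBits fun i : Fin 24 => decide ((x (pt i.1) - x none % 2) % 4 = 2)) = mask c := by
  unfold mask
  congr 1
  funext i
  simp only [h]

theorem sum_range (x : Vec) : ((List.range 24).map fun i => x (pt i)).sum = ∑ p, x p := by
  rw [← List.sum_toFinset _ List.nodup_range, List.toFinset_range]
  exact Finset.sum_bij' (fun i _ => pt i) (fun p _ => ix p) (fun i _ => mem_univ _)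
    (fun p _ => mem_range.2 (ix_lt p)) (fun i hi => ix_pt (mem_range.1 hi)) (fun p _ => pt_ix p)
    (fun i _ => rfl)

theorem inLat_of_mem {x : Vec} (h : x ∈ leechLattice) : inLat x = true := by
  obtain ⟨m, c, y, hm, hc, hx, hs⟩ := mem_lattice_iff.1 h
  have hpar : x none % 2 = m := by have := hx none; omega
  have hcl : ∀ i, i ∈ c ↔ (x i - x none % 2) % 4 = 2 := fun i => by
    have := hx i
    rw [hpar]
    unfold ind at this
    split_ifs at this with hi <;> simp only [hi, true_iff, false_iff] <;> omega
  simp only [inLat, Bool.and_eq_true, List.all_eq_true, List.mem_range, beq_iff_eq]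
  refine ⟨⟨fun i _ => ?_, ?_⟩, ?_⟩
  · have := hx (pt i); rw [hpar]; omega
  · rw [mask_class hcl]; exact mem_supports_iff.1 hc
  · rw [sum_range, hpar]; omega

theorem mem_of_inLat {x : Vec} (h : inLat x = true) : x ∈ leechLattice := by
  simp only [inLat, Bool.and_eq_true, List.all_eq_true, List.mem_range, beq_iff_eq] at h
  obtain ⟨⟨hpar, hcode⟩, hsum⟩ := h
  rw [sum_range] at hsum
  rw [mask_class (c := univ.filter fun i => (x i - x none % 2) % 4 = 2) (fun i => by simp)] at hcode
  refine mem_lattice_iff.2 ⟨x none % 2, _, fun i => (x i - x none % 2) / 4, by omega,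
    mem_supports_iff.2 hcode, fun i => ?_, by omega⟩
  have hi := hpar (ix i) (ix_lt i)
  rw [pt_ix] at hi
  simp only [ind, mem_filter, mem_univ, true_and]
  split_ifs <;> omega

theorem mem_iff_inLat {x : Vec} : x ∈ leechLattice ↔ inLat x = true :=
  ⟨inLat_of_mem, mem_of_inLat⟩

/-- The vector with `4` at a point and `4 t` at the extra point. -/
def pairVec (i : GolayPt) (t : ℤ) : Vec := fun p => (if p = i then 4 else 0) + if p = none then 4 * t else 0

/-- Four times an integer vector with even sum lies in a group containing the pair vectors. -/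
theorem four_mem_of_pairs (K : AddSubgroup Vec)
    (hpair : ∀ i, i ≠ none → ∀ t ∈ [(1 : ℤ), -1], pairVec i t ∈ K) (y : Vec)
    (hy : (2 : ℤ) ∣ ∑ i, y i) : (fun i => 4 * y i) ∈ K := by
  classical
  obtain ⟨k, hk⟩ := hy
  let D : GolayPt → Vec := fun i => if i = none then 0 else pairVec i (-1)
  have hD : ∀ i, D i ∈ K := fun i => by
    by_cases hi : i = none
    · simp only [D, if_pos hi]; exact zero_mem _
    · simp only [D, if_neg hi]; exact hpair i hi _ (by simp)
  have h8 : (fun p => if p = none then 8 else 0) ∈ K := by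
    have := sub_mem (hpair (some 0) (by simp) 1 (by simp)) (hpair (some 0) (by simp) (-1) (by simp))
    convert this using 1
    funext p
    by_cases hn : p = none <;> simp [pairVec, hn]
  have : (fun i => 4 * y i) = ∑ i, y i • D i + k • (fun p : GolayPt => if p = none then (8 : ℤ) else 0) := by
    funext j
    have e : ∀ i, D i j = (if i = j then 4 else 0) - if j = none then 4 else 0 := fun i => by
      by_cases hi : i = none <;> by_cases hj : j = none <;> by_cases hij : i = j <;>
        simp_all [D, pairVec, eq_comm]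
    simp only [Pi.add_apply, Finset.sum_apply, Pi.smul_apply, smul_eq_mul, e, mul_sub,
      sum_sub_distrib, mul_ite, mul_zero, sum_ite_eq', mem_univ, if_true]
    split_ifs with h
    · rw [← sum_mul, hk]; ring
    · simp; ring
  rw [this]
  exact add_mem (sum_mem fun i _ => zsmul_mem (hD i) _) (zsmul_mem h8 _)

/-- An induction over generators of the lattice. -/
theorem le_of_gens (K : AddSubgroup Vec) (hodd : oddVec ∈ K)
    (hpair : ∀ i, i ≠ none → ∀ t ∈ [(1 : ℤ), -1], pairVec i t ∈ K)
    (hb : ∀ b ∈ basisMasks, twoInd (maskSet b) ∈ K) : leechLattice ≤ K := by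
  classical
  have h4 := four_mem_of_pairs K hpair
  have span : ∀ (L : List ℕ), (∀ b ∈ L, maskSet b ∈ codeSets ∧ twoInd (maskSet b) ∈ K) → ∀ a,
      maskSet (enc L a) ∈ codeSets ∧ ∃ y : Vec, (2 : ℤ) ∣ ∑ i, y i ∧
        (fun i => twoInd (maskSet (enc L a)) i + 4 * y i) ∈ K := by
    intro L
    induction L with
    | nil =>
      intro _ a
      have he : maskSet (enc [] a) = ∅ := by simp only [enc]; decide
      rw [he]
      refine ⟨empty_mem, 0, by simp, ?_⟩
      have : (fun i => twoInd ∅ i + 4 * (0 : Vec) i) = 0 := by funext i; simp [twoInd, ind]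
      rw [this]; exact zero_mem _
    | cons c cs ih =>
      intro h a
      obtain ⟨hcode, y, hy, hmem⟩ := ih (fun b hb => h b (List.mem_cons_of_mem _ hb)) (a / 2)
      simp only [enc]
      rcases Nat.mod_two_eq_zero_or_one a with ha | ha
      · rw [ha, zero_mul, Nat.zero_xor]; exact ⟨hcode, y, hy, hmem⟩
      rw [ha, one_mul, mask_maskSet_xor]
      set d := maskSet (enc cs (a / 2))
      obtain ⟨ho, hK⟩ := h c List.mem_cons_self
      refine ⟨symmDiff_mem_supports ho hcode, fun i => y i + ind (maskSet c ∩ d) i, ?_, ?_⟩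
      · rw [sum_add_distrib, sum_ind]
        have := two_dvd_inter ho hcode
        omega
      · have e : (fun i => twoInd (symmDiff (maskSet c) d) i + 4 * (y i + ind (maskSet c ∩ d) i)) =
            twoInd (maskSet c) + fun i => twoInd d i + 4 * y i := by
          funext i
          have := ind_add (maskSet c) d i
          simp only [Pi.add_apply, twoInd]
          omega
        rw [e]
        exact add_mem hK hmem
  have hbasis : ∀ b ∈ basisMasks, maskSet b ∈ codeSets ∧ twoInd (maskSet b) ∈ K := fun b hbm =>
    ⟨mem_supports_iff.2 (by revert b; decide +kernel), hb b hbm⟩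
  have even : ∀ x c y, Shape x 0 c y → x ∈ K := by
    rintro x c y ⟨-, hc, hx, hs⟩
    have hm := mem_supports_iff.1 hc
    simp only [isCode, beq_iff_eq] at hm
    obtain ⟨-, y', hy', hmem⟩ := span basisMasks hbasis (mask c)
    rw [hm, maskSet_mask] at hmem
    have hy : (2 : ℤ) ∣ ∑ i, y i := by
      simp only [hx, sum_add_distrib, ← mul_sum, sum_ind, sum_const_zero] at hs
      have := four_dvd_card hc
      omega
    have := h4 (fun i => y i - y' i) (by rw [sum_sub_distrib]; omega)
    have e : x = (fun i => twoInd c i + 4 * y' i) + fun i => 4 * (y i - y' i) := by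
      funext i
      simp only [Pi.add_apply, twoInd, hx i]
      omega
    rw [e]; exact add_mem hmem this
  intro x hx
  obtain ⟨m, c, y, hsh⟩ := mem_lattice_iff.1 hx
  rcases hsh.1 with rfl | rfl
  · exact even x c y hsh
  · obtain ⟨m', c', y', hsh'⟩ := mem_lattice_iff.1 (sub_mem hx oddVec_mem.1)
    have h1 := hsh.2.2.1 (some 0)
    have h2 := hsh'.2.2.1 (some 0)
    rw [Pi.sub_apply, show oddVec (some 0) = 1 from rfl] at h2
    have hm' : m' = 0 := by
      have := hsh'.1
      omega
    subst hm'
    have := add_mem (even _ _ _ hsh') hodd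
    rwa [sub_add_cancel] at this

end Cfsg.Agent.LeechAut.Gens
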