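import Cfsg.Agent.Lib.LeechAut.Census
import Cfsg.Agent.S0379
import Cfsg.Prelude.Def_Sporadic

/-!
The Higman–Sims group inside `Co0`: stabiliser of two vectors of squared length 48, its action on
the hundred vectors, and simplicity.
-/

set_option autoImplicit false
set_option maxRecDepth 10000

namespace Cfsg.Agent.LeechAut.HS

open Cfsg Cfsg.Agent.Golay.Basic Cfsg.Agent.Golay.Design Cfsg.Agent.Golay.Trans Cfsg.Agent.Leech.Basic
  Cfsg.Agent.Leech.Index Cfsg.Agent.LeechAut.Gens Cfsg.Agent.LeechAut.Basic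
  Cfsg.Agent.LeechAut.Shells Cfsg.Agent.LeechAut.Cross Cfsg.Agent.LeechAut.Pairs
  Cfsg.Agent.LeechAut.Triples Cfsg.Agent.LeechAut.Moments Cfsg.Agent.LeechAut.Census Finset
open scoped Pointwise

/-- The group: the stabiliser of `v0` and `u5`. -/
def G : Subgroup Co0 := MulAction.stabilizer Co0 v0 ⊓ MulAction.stabilizer Co0 u5

theorem mem_G {g : Co0} : g ∈ G ↔ g • v0 = v0 ∧ g • u5 = u5 := by
  simp [G, MulAction.mem_stabilizer_iff]

/-- One of the hundred vectors. -/
def InY (y : leechLattice) : Prop :=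
  sqNorm (y : Vec) = 32 ∧ dotInt (v0 : Vec) (y : Vec) = 0 ∧ dotInt (u5 : Vec) (y : Vec) = 24

theorem inY_smul {g : Co0} (hg : g ∈ G) {y : leechLattice} (hy : InY y) : InY (g • y) := by
  obtain ⟨h1, h2⟩ := mem_G.1 hg
  refine ⟨(sqNorm_smul g y).trans hy.1, ?_, ?_⟩
  · rw [← h1, dot_smul]; exact hy.2.1
  · rw [← h2, dot_smul]; exact hy.2.2

theorem sqNorm_v0v : sqNorm (v0 : Vec) = 32 := sqNorm_v0

theorem dot_v0u5 : dotInt (v0 : Vec) (u5 : Vec) = 16 := by
  rw [dot_v0, u5_facts.2.1, u5_facts.2.2]; rfl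

theorem w0_inY : InY w0 := by
  refine ⟨?_, ?_, ?_⟩
  · show sqNorm orthVec = 32
    decide +kernel
  · rw [dot_v0]
    show 4 * orthVec none + 4 * orthVec (pt 0) = 0
    decide +kernel
  · rw [dot_comm, dot_w0, u5_facts.2.1, u5_facts.2.2]; rfl

theorem ncard_Y : {y : leechLattice | InY y}.ncard = 100 := by
  rw [← card_hundred sqNorm_v0 u5_facts.1 dot_v0u5, ← Set.ncard_coe_finset]
  refine congrArg Set.ncard (Set.ext fun y => ?_)
  rw [Set.mem_ofPred_eq, mem_coe, mem_filter, mem_short]
  rfl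

theorem G_transitive {y y' : leechLattice} (hy : InY y) (hy' : InY y') : ∃ g ∈ G, g • y = y' := by
  obtain ⟨g, h1, h2, h3⟩ := trans_triple v0 u5 y v0 u5 y' sqNorm_v0 u5_facts.1 hy.1 dot_v0u5 hy.2.1
    hy.2.2 sqNorm_v0 u5_facts.1 hy'.1 dot_v0u5 hy'.2.1 hy'.2.2
  exact ⟨g, mem_G.2 ⟨h1, h2⟩, h3⟩

/-! ### The stabiliser of `w0` and the Mathieu group -/

/-- `g` permutes absolute values by `σ`. -/
def AbsPerm (g : Co0) (σ : Equiv.Perm GolayPt) : Prop :=
  ∀ (v : leechLattice) (p : GolayPt), |((g • v : leechLattice) : Vec) (σ p)| = |(v : Vec) p|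

theorem absPerm_mul {g h : Co0} {σ τ : Equiv.Perm GolayPt} (hg : AbsPerm g σ) (hh : AbsPerm h τ) :
    AbsPerm (g * h) (σ * τ) := fun v p => by
  rw [mul_smul, Equiv.Perm.mul_apply, hg, hh]

theorem absPerm_unique {g : Co0} {σ τ : Equiv.Perm GolayPt} (h1 : AbsPerm g σ) (h2 : AbsPerm g τ) :
    σ = τ := by
  refine Equiv.ext fun i => ?_
  by_contra hne
  have a := h1 (frame i) i
  have b := h2 (frame i) (τ.symm (σ i))
  have hne' : τ.symm (σ i) ≠ i := fun e => hne (by
    conv_lhs => rw [← τ.apply_symm_apply (σ i), e])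
  rw [Equiv.apply_symm_apply, a, frame_coe, Pi.single_eq_same, Pi.single_eq_of_ne hne'] at b
  norm_num at b

/-- The stabiliser of `w0` in `G`. -/
def S : Subgroup Co0 := G ⊓ MulAction.stabilizer Co0 w0

theorem mem_S {g : Co0} : g ∈ S ↔ g ∈ G ∧ g • w0 = w0 := by
  simp [S, MulAction.mem_stabilizer_iff]

/-- The two-point stabiliser in `M24`. -/
def M22s : Subgroup M24 := MulAction.stabilizer M24 (none : GolayPt) ⊓ MulAction.stabilizer M24 (pt 0)

theorem mem_M22s {σ : M24} : σ ∈ M22s ↔
    (σ : Equiv.Perm GolayPt) none = none ∧ (σ : Equiv.Perm GolayPt) (pt 0) = pt 0 := by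
  simp only [M22s, Subgroup.mem_inf, MulAction.mem_stabilizer_iff]
  exact Iff.rfl

theorem exists_lift (σ : M24) (hσ : σ ∈ M22s) : ∃ g ∈ S, AbsPerm g (σ : Equiv.Perm GolayPt) := by
  obtain ⟨hn, h0⟩ := mem_M22s.1 hσ
  set ρ := (σ : Equiv.Perm GolayPt)⁻¹ with hρdef
  have hρ : ρ ∈ M24 := M24.inv_mem σ.2
  have hρn : ρ none = none := by rw [hρdef, Equiv.Perm.inv_eq_iff_eq, hn]
  have hρ0 : ρ (pt 0) = pt 0 := by rw [hρdef, Equiv.Perm.inv_eq_iff_eq, h0]
  obtain ⟨f1, f2, f3⟩ := u5_facts
  set x := perm ρ hρ • u5 with hx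
  have x1 : (x : Vec) none = 5 := by rw [hx, perm_smul, hρn, f2]
  have x0 : (x : Vec) (pt 0) = -1 := by rw [hx, perm_smul, hρ0, f3]
  obtain ⟨d, hd, he, hav⟩ := flip_mem (x := x) (y := u5) (by rw [x1]; rfl)
    (abs_five ((sqNorm_smul _ u5).trans f1) x1)
  have a1 : none ∉ d := hav _ (by rw [x1, f2])
  have a0 : pt 0 ∉ d := hav _ (by rw [x0, f3])
  refine ⟨sign d hd * perm ρ hρ, mem_S.2 ⟨mem_G.2 ⟨?_, by rw [mul_smul]; exact he⟩, ?_⟩, fun v p => ?_⟩
  · rw [mul_smul, perm_fix hρ hρn hρ0, sign_fix hd a1 a0]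
  · apply Subtype.ext
    funext p
    have e1 : ρ p = none ↔ p = none := by rw [← ρ.injective.eq_iff (a := p), hρn]
    have e2 : ρ p = pt 0 ↔ p = pt 0 := by rw [← ρ.injective.eq_iff (a := p), hρ0]
    rw [mul_smul, sign_smul, Basic.flip, perm_smul]
    show (if p ∈ d then -orthVec (ρ p) else orthVec (ρ p)) = orthVec p
    simp only [orthVec, e1, e2]
    by_cases hp : p ∈ d
    · rw [if_pos hp, if_neg (fun e : p = none => a1 (e ▸ hp)), if_neg (fun e : p = pt 0 => a0 (e ▸ hp))]
      rfl
    · rw [if_neg hp]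
  · rw [mul_smul, sign_smul, Basic.flip]
    have e : ρ ((σ : Equiv.Perm GolayPt) p) = p := by rw [hρdef]; exact Equiv.symm_apply_apply _ p
    split_ifs <;> rw [perm_smul, e] <;> simp

theorem S_perm {g : Co0} (hg : g ∈ S) : ∃ σ ∈ M22s, AbsPerm g ((σ : M24) : Equiv.Perm GolayPt) := by
  obtain ⟨hG, hw⟩ := mem_S.1 hg
  obtain ⟨hv, -⟩ := mem_G.1 hG
  have hfr : g • frame none = frame none := by rw [← add_eq, smul_add', hv, hw]
  obtain ⟨p, rfl⟩ := exists_mono g (fixesCross_of_fix hfr)
  have key : ∀ v q, |((mono p • v : leechLattice) : Vec) ((p.1 : Equiv.Perm GolayPt) q)| = |(v : Vec) q| := by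
    intro v q
    rw [mono_smul, signedPerm, Equiv.symm_apply_apply]
    split_ifs <;> simp
  refine ⟨p.1, mem_M22s.2 ⟨?_, ?_⟩, key⟩
  · by_contra hne
    have e := key (frame none) none
    rw [hfr, frame_coe, Pi.single_eq_same, Pi.single_eq_of_ne hne] at e
    norm_num at e
  · by_contra hne
    have e := key v0 (pt 0)
    have e' := key (frame none) none
    rw [hv] at e
    change |stdVec ((p.1 : Equiv.Perm GolayPt) (pt 0))| = |stdVec (pt 0)| at e
    have hnn : (p.1 : Equiv.Perm GolayPt) (pt 0) ≠ none := by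
      intro h
      have h1 := key (frame (pt 0)) (pt 0)
      have h2 : (p.1 : Equiv.Perm GolayPt) none = none := by
        by_contra hne2
        rw [hfr, frame_coe, Pi.single_eq_same, Pi.single_eq_of_ne hne2] at e'
        norm_num at e'
      exact pt0_ne_none ((p.1 : Equiv.Perm GolayPt).injective (h.trans h2.symm))
    simp [stdVec, hne, hnn, pt0_ne_none] at e

theorem S_unique {g h : Co0} (hg : g ∈ S) (hh : h ∈ S) {σ : Equiv.Perm GolayPt} (a : AbsPerm g σ)
    (b : AbsPerm h σ) : g = h := by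
  have hk : h⁻¹ * g ∈ S := mul_mem (inv_mem hh) hg
  suffices e : h⁻¹ * g = 1 by
    have := congrArg (fun t => h * t) e
    simpa using this
  have hone : AbsPerm (h⁻¹ * g) 1 := fun v p => by
    have e := b ((h⁻¹ * g) • v) p
    rw [mul_smul, smul_inv_smul, a] at e
    rw [Equiv.Perm.one_apply, mul_smul]
    exact e.symm
  obtain ⟨hG, hw⟩ := mem_S.1 hk
  obtain ⟨hv, hu⟩ := mem_G.1 hG
  have hfr : (h⁻¹ * g) • frame none = frame none := by rw [← add_eq, smul_add', hv, hw]
  obtain ⟨p, hp⟩ := exists_mono _ (fixesCross_of_fix hfr)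
  have hp1 : (p.1 : Equiv.Perm GolayPt) = 1 := by
    refine absPerm_unique (g := mono p) (fun v q => ?_) (hp ▸ hone)
    rw [mono_smul, signedPerm, Equiv.symm_apply_apply]
    split_ifs <;> simp
  rw [← hp]
  refine ext' fun v => Subtype.ext (funext fun q => ?_)
  have hq : q ∉ p.2.1 := by
    intro hq
    have e := congrArg (fun z : leechLattice => (z : Vec) q) hu
    rw [← hp] at e
    simp only [mono_smul, signedPerm, hp1, Equiv.Perm.one_symm, Equiv.Perm.one_apply, if_pos hq] at e
    have hne := u5_ne_zero q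
    omega
  rw [mono_smul, one_smul, signedPerm, if_neg hq, hp1]
  rfl

/-- The lift of an element of the two-point stabiliser. -/
noncomputable def lift (σ : M22s) : S :=
  ⟨(exists_lift σ.1 σ.2).choose, (exists_lift σ.1 σ.2).choose_spec.1⟩

theorem lift_spec (σ : M22s) : AbsPerm (lift σ : Co0) ((σ : M24) : Equiv.Perm GolayPt) :=
  (exists_lift σ.1 σ.2).choose_spec.2

/-- The lift, as a homomorphism. -/
noncomputable def liftHom : M22s →* S := MonoidHom.mk' lift fun σ τ =>
  Subtype.ext (S_unique (lift (σ * τ)).2 (mul_mem (lift σ).2 (lift τ).2) (lift_spec (σ * τ))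
    (absPerm_mul (lift_spec σ) (lift_spec τ)))

theorem liftHom_bijective : Function.Bijective liftHom := by
  refine ⟨fun σ τ e => ?_, fun g => ?_⟩
  · have a := lift_spec σ
    have b := lift_spec τ
    have e' : (lift σ : Co0) = (lift τ : Co0) := congrArg Subtype.val e
    rw [e'] at a
    exact Subtype.ext (Subtype.ext (absPerm_unique a b))
  · obtain ⟨σ, hσ, h⟩ := S_perm g.2
    exact ⟨⟨σ, hσ⟩, Subtype.ext (S_unique (lift ⟨σ, hσ⟩).2 g.2 (lift_spec ⟨σ, hσ⟩) h)⟩

theorem isSimple_S : IsSimpleGroup S :=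
  (MulEquiv.ofBijective liftHom liftHom_bijective).isSimpleGroup_congr.1
    (S0379.result none (pt 0) pt0_ne_none.symm)

theorem card_S : Nat.card S = 443520 :=
  (Nat.card_congr (MulEquiv.ofBijective liftHom liftHom_bijective).toEquiv).symm.trans
    (card_stabilizer_two pt0_ne_none.symm)

/-! ### The other ninety-nine vectors -/

/-- The vector at a point. -/
def pointVec (j : GolayPt) : Vec := fun p => (u5 : Vec) p -
  (if p = none then 4 else if p = j then 4 * (u5 : Vec) j else 0)

theorem u5_one {j : GolayPt} (hj : j ≠ none) : (u5 : Vec) j = 1 ∨ (u5 : Vec) j = -1 := by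
  show five j = 1 ∨ five j = -1
  simp only [five, if_neg hj]
  split_ifs <;> simp

/-- The vector at a point, in the lattice. -/
def pointY (j : GolayPt) (hj : j ≠ none) : leechLattice :=
  ⟨pointVec j, by
    have h := four_two_mem (k := none) (l := j) (Ne.symm hj) (Or.inl rfl) (u5_one hj)
    convert leechLattice.sub_mem u5.2 h using 1
    funext p
    simp only [pointVec, Pi.sub_apply, mul_one]⟩

theorem pointY_apply (j : GolayPt) (hj : j ≠ none) (hj0 : j ≠ pt 0) :
    ((pointY j hj : leechLattice) : Vec) none = 1 ∧ ((pointY j hj : leechLattice) : Vec) (pt 0) = -1 ∧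
      ((pointY j hj : leechLattice) : Vec) j = -3 * (u5 : Vec) j ∧
      ∀ p, p ≠ none → p ≠ j → ((pointY j hj : leechLattice) : Vec) p = (u5 : Vec) p := by
  refine ⟨?_, ?_, ?_, fun p h1 h2 => ?_⟩
  · show pointVec j none = 1
    rw [pointVec, if_pos rfl, u5_facts.2.1]; rfl
  · show pointVec j (pt 0) = -1
    rw [pointVec, if_neg pt0_ne_none, if_neg (Ne.symm hj0), u5_facts.2.2]; rfl
  · show pointVec j j = _
    rw [pointVec, if_neg hj, if_pos rfl]; ring
  · show pointVec j p = _
    rw [pointVec, if_neg h1, if_neg h2, sub_zero]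

theorem dot_pointY (x : Vec) (j : GolayPt) (hj : j ≠ none) :
    dotInt x ((pointY j hj : leechLattice) : Vec) =
      dotInt x (u5 : Vec) - 4 * x none - 4 * (u5 : Vec) j * x j := by
  show ∑ p, x p * pointVec j p = _
  have h : ∑ p, x p * (if p = none then 4 else if p = j then 4 * (u5 : Vec) j else 0) =
      4 * x none + 4 * (u5 : Vec) j * x j := by
    rw [← Finset.sum_subset (subset_univ ({none, j} : Finset GolayPt)) (fun p _ hp => by
      simp only [mem_insert, mem_singleton, not_or] at hp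
      rw [if_neg hp.1, if_neg hp.2, mul_zero]), Finset.sum_pair (Ne.symm hj), if_pos rfl, if_neg hj,
      if_pos rfl]
    ring
  simp only [pointVec, mul_sub, sum_sub_distrib, h]
  unfold dotInt
  ring

theorem pointY_inY (j : GolayPt) (hj : j ≠ none) (hj0 : j ≠ pt 0) : InY (pointY j hj) := by
  obtain ⟨f1, f2, f3⟩ := u5_facts
  obtain ⟨a1, a2, a3, -⟩ := pointY_apply j hj hj0
  have hu : (u5 : Vec) j * (u5 : Vec) j = 1 := by rcases u5_one hj with e | e <;> rw [e] <;> rfl
  refine ⟨?_, ?_, ?_⟩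
  · rw [← dot_self, dot_pointY, a1, a3, dot_comm _ (u5 : Vec), dot_pointY, dot_self, f1, f2]
    linear_combination (8 : ℤ) * hu
  · rw [dot_v0, a1, a2]; rfl
  · rw [dot_pointY, dot_self, f1, f2]
    linear_combination (-4 : ℤ) * hu

set_option maxHeartbeats 1000000 in
theorem abs_sum_le {y : leechLattice} (hn : sqNorm (y : Vec) = 32) :
    ((y : Vec) none % 2 = 0 → ∑ p, |(y : Vec) p| ≤ 16) ∧
      ((y : Vec) none % 2 = 1 → ∑ p, |(y : Vec) p| ≤ 26) := by
  have hb := abs_le_eight hn (by norm_num)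
  obtain ⟨hc1, hc2⟩ := counts hn (by norm_num)
  have hS := sum_fibre (y : Vec) hb fun a => a
  simp only [sum_range_succ, sum_range_zero] at hS
  push_cast at hS
  constructor <;> intro he
  · obtain ⟨hc, n1, n3, n5, n7, -⟩ := even_class y.2 hb he
    have hw := weights_supports hc
    rw [union_card] at hw
    omega
  · obtain ⟨n0, n2, n4, n6, n8⟩ := odd_class y.2 he
    omega

set_option maxHeartbeats 2000000 in
/-- The two kinds of vectors besides `w0`. -/
theorem classify {y : leechLattice} (hy : InY y) (hne : y ≠ w0) :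
    ((y : Vec) none = 1 ∧ ∃ j, ∃ hj : j ≠ none, j ≠ pt 0 ∧ y = pointY j hj) ∨
    ((y : Vec) none = 2 ∧ ∃ o ∈ octads, none ∈ o ∧ pt 0 ∈ o ∧ (y : Vec) (pt 0) = -2 ∧
      ∀ p, p ≠ none → p ≠ pt 0 → (y : Vec) p = if p ∈ o then 2 * (u5 : Vec) p else 0) := by
  classical
  obtain ⟨hn, h0, h24⟩ := hy
  rw [dot_v0] at h0
  have hy0 : (y : Vec) (pt 0) = -(y : Vec) none := by omega
  obtain ⟨f1, f2, f3⟩ := u5_facts
  have hb := abs_le_eight hn (by norm_num)
  -- the sum over the other points
  set R := ((univ : Finset GolayPt).erase none).erase (pt 0) with hR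
  have hmemR : ∀ p, p ∈ R ↔ p ≠ none ∧ p ≠ pt 0 := fun p => by simp [hR, and_comm]
  have split : ∀ f : GolayPt → ℤ, ∑ p, f p = f none + f (pt 0) + ∑ p ∈ R, f p := fun f => by
    rw [← add_sum_erase univ f (mem_univ none), ← add_sum_erase _ f
      (mem_erase.2 ⟨pt0_ne_none, mem_univ _⟩), add_assoc]
  have hsum : ∑ p ∈ R, (u5 : Vec) p * (y : Vec) p = 24 - 6 * (y : Vec) none := by
    have := split fun p => (u5 : Vec) p * (y : Vec) p
    rw [f2, f3, hy0] at this
    rw [dotInt, this] at h24
    omega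
  have hle : ∀ p ∈ R, (u5 : Vec) p * (y : Vec) p ≤ |(y : Vec) p| := fun p hp => by
    rcases u5_one ((hmemR p).1 hp).1 with e | e <;> rw [e] <;>
      rcases abs_cases ((y : Vec) p) with ⟨e', _⟩ | ⟨e', _⟩ <;> omega
  have hrange := range32 w0_inY.1 y (mem_short.2 hn)
  rw [dot_w0, hy0] at hrange
  simp only [mem_insert, mem_singleton] at hrange
  have habs : ∑ p, |(y : Vec) p| = |(y : Vec) none| + |(y : Vec) (pt 0)| + ∑ p ∈ R, |(y : Vec) p| :=
    split fun p => |(y : Vec) p|
  have hRle : 24 - 6 * (y : Vec) none ≤ ∑ p ∈ R, |(y : Vec) p| := hsum ▸ sum_le_sum hle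
  have hS := sum_fibre (y : Vec) hb fun a => a
  simp only [sum_range_succ, sum_range_zero] at hS
  push_cast at hS
  obtain ⟨hc1, hc2⟩ := counts hn (by norm_num)
  rw [hy0, abs_neg] at habs
  have h4 : (y : Vec) none = 4 → False := by
    intro h4
    refine hne ?_
    by_contra hne'
    have := far (u := y) (w := w0) hne'
    rw [hn, w0_inY.1, dot_comm, dot_w0, hy0, h4] at this
    norm_num at this
  rcases Int.emod_two_eq_zero_or_one ((y : Vec) none) with he | he
  · obtain ⟨hc, n1, n3, n5, n7, -⟩ := even_class y.2 hb he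
    have hw := weights_supports hc
    rw [union_card] at hw
    have hle16 : ∑ p, |(y : Vec) p| ≤ 16 := (abs_sum_le hn).1 he
    have hne4 : (y : Vec) none ≠ 4 := h4
    have hy2 : (y : Vec) none = 2 := by
      by_contra h2
      rcases abs_cases ((y : Vec) none) with ⟨e, _⟩ | ⟨e, _⟩ <;> omega
    obtain ⟨o, ho, hyo⟩ := two_shape hn (by rw [hy2]; rfl)
    have hno : none ∈ o := by
      by_contra h; have := hyo none; rw [if_neg h, hy2] at this; norm_num at this
    have h0o : pt 0 ∈ o := by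
      by_contra h; have := hyo (pt 0); rw [if_neg h, hy0, hy2] at this; norm_num at this
    refine Or.inr ⟨hy2, o, ho, hno, h0o, by rw [hy0, hy2], fun p p1 p2 => ?_⟩
    have hRsum : ∑ q ∈ R, |(y : Vec) q| = 12 := by
      rw [sum_congr rfl fun q _ => hyo q, ← sum_filter, sum_const, nsmul_eq_mul,
        show R.filter (fun q => q ∈ o) = (o.erase none).erase (pt 0) by
          ext q; simp [hmemR, and_comm, and_left_comm, and_assoc],
        card_erase_of_mem (mem_erase.2 ⟨pt0_ne_none, h0o⟩), card_erase_of_mem hno, octad_card ho]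
      rfl
    have heq : ∀ q ∈ R, (u5 : Vec) q * (y : Vec) q = |(y : Vec) q| :=
      (sum_eq_sum_iff_of_le hle).1 (by rw [hsum, hRsum, hy2]; rfl)
    have e := heq p ((hmemR p).2 ⟨p1, p2⟩)
    have e2 := hyo p
    by_cases hpo : p ∈ o
    · rw [if_pos hpo] at e2 ⊢
      rcases u5_one p1 with a | a <;> rw [a] at e ⊢ <;> omega
    · rw [if_neg hpo] at e2 ⊢
      exact abs_eq_zero.1 e2
  · have hy1 : (y : Vec) none = 1 := by
      have hle26 : ∑ p, |(y : Vec) p| ≤ 26 := (abs_sum_le hn).2 he
      by_contra h1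
      rcases abs_cases ((y : Vec) none) with ⟨e, _⟩ | ⟨e, _⟩ <;> omega
    obtain ⟨j, hjn, hj0, hyj⟩ := one_shape hn (by rw [hy1]; rfl) (by rw [hy0, hy1]; rfl)
    -- the congruences modulo four agree
    obtain ⟨m, c, a, hm, hc, hx, -⟩ := mem_lattice_iff.1 y.2
    obtain ⟨m', c', b, hm', hc', hu, -⟩ := mem_lattice_iff.1 u5.2
    have x1 := hx none
    have u1 := hu none
    rw [hy1] at x1
    rw [f2] at u1
    have hm1 : m = 1 := by omega
    have hm1' : m' = 1 := by omega
    subst hm1 hm1'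
    have hdiff : ∀ p, p ∈ symmDiff c c' ↔ (y : Vec) p % 4 ≠ (u5 : Vec) p % 4 := by
      intro p
      have e1 := hx p
      have e2 := hu p
      rw [Finset.mem_symmDiff]
      unfold ind at e1 e2
      by_cases p1 : p ∈ c <;> by_cases p2 : p ∈ c' <;>
        simp only [p1, p2, if_true, if_false, not_true_eq_false, not_false_eq_true, and_false, and_true,
          or_self, or_false, false_or, true_iff, false_iff, not_not] at e1 e2 ⊢ <;> omega
    have hsub : symmDiff c c' ⊆ R := fun p hp => by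
      rw [hmemR]
      constructor <;> rintro rfl
      · exact (hdiff none).1 hp (by rw [hy1, f2]; rfl)
      · exact (hdiff (pt 0)).1 hp (by rw [hy0, hy1, f3])
    have hcount : 2 * ((((symmDiff c c').erase j).card : ℤ)) ≤ 6 := by
      have hRsum : ∑ q ∈ R, |(y : Vec) q| = 24 := by
        rw [sum_congr rfl fun q _ => hyj q, sum_ite, sum_const, sum_const, nsmul_eq_mul, nsmul_eq_mul,
          show R.filter (fun q => q = j) = {j} by
            ext q; simp only [mem_filter, hmemR, mem_singleton]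
            exact ⟨And.right, fun h => ⟨h ▸ ⟨hjn, hj0⟩, h⟩⟩,
          show R.filter (fun q => ¬ q = j) = R.erase j by ext q; simp [and_comm],
          card_erase_of_mem ((hmemR j).2 ⟨hjn, hj0⟩), hR,
          card_erase_of_mem (mem_erase.2 ⟨pt0_ne_none, mem_univ _⟩), card_erase_of_mem (mem_univ _),
          card_univ, show Fintype.card GolayPt = 24 by decide]
        rfl
      have hdef : ∑ q ∈ R, (|(y : Vec) q| - (u5 : Vec) q * (y : Vec) q) = 6 := by
        rw [sum_sub_distrib, hRsum, hsum, hy1]; rfl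
      rw [← hdef]
      calc 2 * (((symmDiff c c').erase j).card : ℤ)
          = ∑ q ∈ (symmDiff c c').erase j, (2 : ℤ) := by rw [sum_const, nsmul_eq_mul, mul_comm]
        _ ≤ ∑ q ∈ (symmDiff c c').erase j, (|(y : Vec) q| - (u5 : Vec) q * (y : Vec) q) := by
            refine sum_le_sum fun q hq => ?_
            rw [mem_erase] at hq
            have e1 := hyj q
            rw [if_neg hq.1] at e1
            have e2 := (hdiff q).1 hq.2
            rcases u5_one ((hmemR q).1 (hsub hq.2)).1 with e | e <;> rw [e] at e2 ⊢ <;>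
              rcases abs_cases ((y : Vec) q) with ⟨e', _⟩ | ⟨e', _⟩ <;> omega
        _ ≤ _ := sum_le_sum_of_subset_of_nonneg (fun q hq => hsub (mem_of_mem_erase hq))
            fun q hq _ => sub_nonneg.2 (hle q hq)
    have hzero : symmDiff c c' = ∅ := by
      have hw := weights_supports (symmDiff_mem_supports hc hc')
      have h5 := card_le_card (erase_subset j (symmDiff c c'))
      have h6 := pred_card_le_card_erase (s := symmDiff c c') (a := j)
      exact Finset.card_eq_zero.1 (by omega)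
    refine Or.inl ⟨hy1, j, hjn, hj0, Subtype.ext (funext fun p => ?_)⟩
    obtain ⟨a1, a2, a3, a4⟩ := pointY_apply j hjn hj0
    have hcong : (y : Vec) p % 4 = (u5 : Vec) p % 4 := by
      by_contra hne4
      have := (hdiff p).2 hne4
      rw [hzero] at this
      exact notMem_empty _ this
    have e := hyj p
    by_cases p1 : p = none
    · subst p1; rw [hy1, a1]
    by_cases p2 : p = j
    · subst p2
      rw [if_pos rfl] at e
      rw [a3]
      rcases u5_one hjn with u | u <;> rw [u] at hcong ⊢ <;>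
        rcases abs_eq (by norm_num : (0 : ℤ) ≤ 3) |>.1 e with e' | e' <;> omega
    rw [if_neg p2] at e
    rw [a4 p p1 p2]
    rcases u5_one p1 with u | u <;> rw [u] at hcong ⊢ <;>
      rcases abs_eq (by norm_num : (0 : ℤ) ≤ 1) |>.1 e with e' | e' <;> omega

theorem dot_w0_Y {y : leechLattice} (hy : InY y) : dotInt (w0 : Vec) (y : Vec) = 8 * (y : Vec) none := by
  have h0 := hy.2.1
  rw [dot_v0] at h0
  rw [dot_w0]; omega

/-- An element of `S` moves the point vectors by its permutation. -/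
theorem smul_pointY {g : Co0} (hg : g ∈ S) {σ : Equiv.Perm GolayPt} (hσ : AbsPerm g σ) {j : GolayPt}
    (hj : j ≠ none) (hj0 : j ≠ pt 0) :
    ∃ hk : σ j ≠ none, σ j ≠ pt 0 ∧ g • pointY j hj = pointY (σ j) hk := by
  obtain ⟨a1, -, a3, -⟩ := pointY_apply j hj hj0
  have hY := inY_smul (mem_S.1 hg).1 (pointY_inY j hj hj0)
  have hnone : ((g • pointY j hj : leechLattice) : Vec) none = 1 := by
    have := dot_smul g w0 (pointY j hj)
    rw [(mem_S.1 hg).2, dot_w0_Y hY, dot_w0_Y (pointY_inY j hj hj0), a1] at this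
    omega
  have hne : g • pointY j hj ≠ w0 := fun e => by
    rw [e] at hnone
    exact absurd hnone (by show orthVec none ≠ 1; decide +kernel)
  rcases classify hY hne with ⟨-, k, hk, hk0, e⟩ | ⟨h2, -⟩
  · have h3 := hσ (pointY j hj) j
    rw [e, a3] at h3
    have hkj : σ j = k := by
      by_contra hne'
      obtain ⟨b1, b2, -, b4⟩ := pointY_apply k hk hk0
      rcases u5_one hj with u | u <;> rw [u] at h3 <;>
        (by_cases hn : σ j = none
         · rw [hn, b1] at h3; norm_num at h3
         · rw [b4 _ hn hne'] at h3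
           rcases u5_one hn with u' | u' <;> rw [u'] at h3 <;> norm_num at h3)
    subst hkj
    exact ⟨hk, hk0, e⟩
  · omega

theorem exists_M22 {l l' : List GolayPt} (hl : (none :: pt 0 :: l).Nodup)
    (hl' : (none :: pt 0 :: l').Nodup) (hlen : l.length = l'.length) (h3 : l.length ≤ 3) :
    ∃ σ ∈ M22s, l.map ((σ : M24) : Equiv.Perm GolayPt) = l' := by
  obtain ⟨σ, hσ, e⟩ := exists_map_list (none :: pt 0 :: l) (none :: pt 0 :: l') hl hl'
    (by simp [hlen]) (by simp only [List.length_cons]; omega)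
  simp only [List.map_cons, List.cons.injEq] at e
  exact ⟨⟨σ, hσ⟩, mem_M22s.2 ⟨e.1, e.2.1⟩, e.2.2⟩

theorem S_trans_one {y y' : leechLattice} (hy : InY y) (hy' : InY y') (h : (y : Vec) none = 1)
    (h' : (y' : Vec) none = 1) : ∃ g ∈ S, g • y = y' := by
  have hne : ∀ {z : leechLattice}, (z : Vec) none = 1 → z ≠ w0 := fun {z} hz e => by
    rw [e] at hz; exact absurd hz (by show orthVec none ≠ 1; decide +kernel)
  rcases classify hy (hne h) with ⟨-, j, hj, hj0, rfl⟩ | ⟨a, -⟩
  · rcases classify hy' (hne h') with ⟨-, k, hk, hk0, rfl⟩ | ⟨a, -⟩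
    · obtain ⟨σ, hσ, e⟩ := exists_M22 (l := [j]) (l' := [k])
        (by simp [pt0_ne_none.symm, Ne.symm hj, Ne.symm hj0])
        (by simp [pt0_ne_none.symm, Ne.symm hk, Ne.symm hk0]) rfl (by simp)
      simp only [List.map_cons, List.map_nil, List.cons.injEq, and_true] at e
      obtain ⟨g, hg, hgσ⟩ := exists_lift σ hσ
      obtain ⟨hk', -, e'⟩ := smul_pointY hg hgσ hj hj0
      subst e
      exact ⟨g, hg, e'⟩
    · omega
  · omega

/-- A vector of the second kind is determined by its support. -/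
theorem two_ext {y y' : leechLattice} (hy : InY y) (hy' : InY y') (h : (y : Vec) none = 2)
    (h' : (y' : Vec) none = 2) (he : ∀ p, |(y : Vec) p| = |(y' : Vec) p|) : y = y' := by
  have hne : ∀ {z : leechLattice}, (z : Vec) none = 2 → z ≠ w0 := fun {z} hz e => by
    rw [e] at hz; exact absurd hz (by show orthVec none ≠ 2; decide +kernel)
  rcases classify hy (hne h) with ⟨a, -⟩ | ⟨-, o, -, -, -, a0, ao⟩
  · omega
  rcases classify hy' (hne h') with ⟨a, -⟩ | ⟨-, o', -, -, -, b0, bo⟩
  · omega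
  refine Subtype.ext (funext fun p => ?_)
  by_cases p1 : p = none
  · subst p1; rw [h, h']
  by_cases p2 : p = pt 0
  · subst p2; rw [a0, b0]
  have e := he p
  rw [ao p p1 p2, bo p p1 p2] at e ⊢
  rcases u5_one p1 with u | u <;> rw [u] at e ⊢ <;> split_ifs at e ⊢ <;> first | rfl | norm_num at e

theorem S_trans_two {y y' : leechLattice} (hy : InY y) (hy' : InY y') (h : (y : Vec) none = 2)
    (h' : (y' : Vec) none = 2) : ∃ g ∈ S, g • y = y' := by
  classical
  obtain ⟨o, ho, hyo⟩ := two_shape hy.1 (by rw [h]; rfl)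
  obtain ⟨o', ho', hyo'⟩ := two_shape hy'.1 (by rw [h']; rfl)
  have hin : ∀ {z : leechLattice} {o : Finset GolayPt}, InY z → (z : Vec) none = 2 →
      (∀ p, |(z : Vec) p| = if p ∈ o then 2 else 0) → none ∈ o ∧ pt 0 ∈ o := by
    intro z o hz hz2 hzo
    have := hz.2.1
    rw [dot_v0, hz2] at this
    constructor <;> by_contra hn
    · have := hzo none; rw [if_neg hn, hz2] at this; norm_num at this
    · have e := hzo (pt 0)
      rw [if_neg hn, show (z : Vec) (pt 0) = -2 by omega] at e
      norm_num at e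
  obtain ⟨hno, h0o⟩ := hin hy h hyo
  obtain ⟨hno', h0o'⟩ := hin hy' h' hyo'
  have three : ∀ {o : Finset GolayPt}, o ∈ octads → none ∈ o → pt 0 ∈ o → ∃ s : Finset GolayPt,
      s ⊆ o ∧ s.card = 3 ∧ none ∉ s ∧ pt 0 ∉ s := by
    intro o ho a b
    obtain ⟨s, hs, hc⟩ := Finset.exists_subset_card_eq (s := (o.erase none).erase (pt 0)) (n := 3) (by
      rw [card_erase_of_mem (mem_erase.2 ⟨pt0_ne_none, b⟩), card_erase_of_mem a, octad_card ho]
      norm_num)
    refine ⟨s, fun p hp => mem_of_mem_erase (mem_of_mem_erase (hs hp)), hc, fun h => ?_, fun h => ?_⟩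
    · exact (mem_erase.1 (mem_of_mem_erase (hs h))).1 rfl
    · exact (mem_erase.1 (hs h)).1 rfl
  obtain ⟨s, hs, hsc, hsn, hs0⟩ := three ho hno h0o
  obtain ⟨s', hs', hsc', hsn', hs0'⟩ := three ho' hno' h0o'
  obtain ⟨σ, hσ, e⟩ := exists_M22 (l := s.toList) (l' := s'.toList)
    (by simp [pt0_ne_none.symm, hsn, hs0, Finset.nodup_toList])
    (by simp [pt0_ne_none.symm, hsn', hs0', Finset.nodup_toList])
    (by simp [hsc, hsc']) (by simp [hsc])
  obtain ⟨hσn, hσ0⟩ := mem_M22s.1 hσ
  set τ := ((σ : M24) : Equiv.Perm GolayPt) with hτ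
  have hoe : τ • o = o' := by
    refine octads_eq_of_subset (s := τ • insert none (insert (pt 0) s)) ?_
      (Cfsg.Agent.Golay.M24.smul_mem_octads σ.2 ho) ho'
      (Finset.smul_finset_subset_smul_finset (insert_subset hno (insert_subset h0o hs))) ?_
    · rw [card_smul_finset, card_insert_of_notMem (by simp [pt0_ne_none.symm, hsn]),
        card_insert_of_notMem hs0, hsc]
    · intro p hp
      obtain ⟨q, hq, rfl⟩ := Finset.mem_smul_finset.1 hp
      rw [Equiv.Perm.smul_def]
      rcases mem_insert.1 hq with rfl | hq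
      · rw [hσn]; exact hno'
      rcases mem_insert.1 hq with rfl | hq
      · rw [hσ0]; exact h0o'
      · exact hs' (mem_toList.1 (e ▸ List.mem_map_of_mem (mem_toList.2 hq)))
  obtain ⟨g, hg, hgσ⟩ := exists_lift σ hσ
  refine ⟨g, hg, two_ext (inY_smul (mem_S.1 hg).1 hy) hy' ?_ h' fun p => ?_⟩
  · have := dot_smul g w0 y
    rw [(mem_S.1 hg).2, dot_w0_Y hy, dot_w0_Y (inY_smul (mem_S.1 hg).1 hy)] at this
    omega
  · obtain ⟨q, rfl⟩ := τ.surjective p
    rw [hgσ, hyo, hyo', ← hoe]
    simp only [Cfsg.Agent.Golay.M24.mem_smul_iff]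

theorem one_or_two {y : leechLattice} (hy : InY y) (hne : y ≠ w0) :
    (y : Vec) none = 1 ∨ (y : Vec) none = 2 :=
  (classify hy hne).imp And.left And.left

theorem card_one : {y : leechLattice | InY y ∧ (y : Vec) none = 1}.ncard = 22 := by
  have h22 : (((univ : Finset GolayPt).erase none).erase (pt 0)).card = 22 := by decide
  rw [← h22, ← Set.ncard_coe_finset]
  refine (Set.ncard_congr (fun j hj => pointY j (mem_erase.1 (mem_of_mem_erase (mem_coe.1 hj))).1)
    ?_ ?_ ?_).symm
  · intro j hj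
    obtain ⟨hjn, hj0⟩ := (by simpa using hj : j ≠ none ∧ j ≠ pt 0)
    exact ⟨pointY_inY j hjn hj0, (pointY_apply j hjn hj0).1⟩
  · intro j k hj hk e
    obtain ⟨hjn, hj0⟩ := (by simpa using hj : j ≠ none ∧ j ≠ pt 0)
    obtain ⟨hkn, hk0⟩ := (by simpa using hk : k ≠ none ∧ k ≠ pt 0)
    by_contra hne
    have h := congrArg (fun z : leechLattice => (z : Vec) j) e
    simp only [(pointY_apply j hjn hj0).2.2.1, (pointY_apply k hkn hk0).2.2.2 j hjn hne] at h
    rcases u5_one hjn with u | u <;> rw [u] at h <;> norm_num at h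
  · rintro y ⟨hy, h1⟩
    have hne : y ≠ w0 := fun e => by
      rw [e] at h1; exact absurd h1 (by show orthVec none ≠ 1; decide +kernel)
    rcases classify hy hne with ⟨-, j, hj, hj0, rfl⟩ | ⟨a, -⟩
    · exact ⟨j, by simp [hj, hj0], rfl⟩
    · omega

theorem card_two : {y : leechLattice | InY y ∧ (y : Vec) none = 2}.ncard = 77 := by
  have hfin : {y : leechLattice | InY y}.Finite := Set.finite_of_ncard_ne_zero (by rw [ncard_Y]; norm_num)
  have hw : (w0 : Vec) none = 4 := by show orthVec none = 4; decide +kernel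
  have e : {y : leechLattice | InY y} = insert w0
      ({y : leechLattice | InY y ∧ (y : Vec) none = 1} ∪ {y : leechLattice | InY y ∧ (y : Vec) none = 2}) := by
    ext y
    simp only [Set.mem_ofPred_eq, Set.mem_insert_iff, Set.mem_union]
    constructor
    · intro hy
      by_cases hne : y = w0
      · exact Or.inl hne
      · exact Or.inr ((one_or_two hy hne).imp (fun h => ⟨hy, h⟩) fun h => ⟨hy, h⟩)
    · rintro (rfl | h | h)
      exacts [w0_inY, h.1, h.1]
  have f1 : {y : leechLattice | InY y ∧ (y : Vec) none = 1}.Finite := hfin.subset fun y h => h.1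
  have f2 : {y : leechLattice | InY y ∧ (y : Vec) none = 2}.Finite := hfin.subset fun y h => h.1
  have h := ncard_Y
  rw [e, Set.ncard_insert_of_notMem (by simp [hw]) (f1.union f2), Set.ncard_union_eq
    (Set.disjoint_left.2 fun y h1 h2 => by have := h1.2; have := h2.2; omega) f1 f2, card_one] at h
  omega

/-! ### Simplicity -/

/-- The hundred vectors as a type. -/
def Y : Type := {y : leechLattice // InY y}

/-- The action of `G` on them. -/
instance actionY : MulAction G Y where
  smul g y := ⟨(g : Co0) • y.1, inY_smul g.2 y.2⟩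
  one_smul y := Subtype.ext (one_smul Co0 y.1)
  mul_smul g h y := Subtype.ext (mul_smul (g : Co0) h y.1)

/-- The base point. -/
def y0 : Y := ⟨w0, w0_inY⟩

theorem stab_y0 : MulAction.stabilizer G y0 = S.subgroupOf G := by
  ext g
  rw [MulAction.mem_stabilizer_iff, Subgroup.mem_subgroupOf, mem_S]
  exact ⟨fun h => ⟨g.2, congrArg Subtype.val h⟩, fun h => Subtype.ext h.2⟩

theorem S_le_G : S ≤ G := inf_le_left

theorem isSimple_stab : IsSimpleGroup (MulAction.stabilizer G y0) := by
  rw [stab_y0]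
  exact (Subgroup.subgroupOfEquivOfLe S_le_G).isSimpleGroup_congr.2 isSimple_S

theorem orbit_y0 : MulAction.orbit G y0 = Set.univ := by
  refine Set.eq_univ_of_forall fun y => ?_
  obtain ⟨g, hg, e⟩ := G_transitive w0_inY y.2
  exact ⟨⟨g, hg⟩, Subtype.ext e⟩

theorem card_Y : Nat.card Y = 100 := (Nat.card_coe_set_eq _).trans ncard_Y

theorem card_G : Nat.card G = 44352000 := by
  have h := Subgroup.index_mul_card (MulAction.stabilizer G y0)
  rw [MulAction.index_stabilizer, orbit_y0, Set.ncard_univ, card_Y, stab_y0,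
    Nat.card_congr (Subgroup.subgroupOfEquivOfLe S_le_G).toEquiv, card_S] at h
  omega

theorem faithful {g : G} (h : ∀ y : Y, g • y = y) : g = 1 := by
  have hg : (g : Co0) ∈ S := mem_S.2 ⟨g.2, congrArg Subtype.val (h y0)⟩
  obtain ⟨σ, hσ, hgσ⟩ := S_perm hg
  obtain ⟨hn, h0⟩ := mem_M22s.1 hσ
  have hid : ((σ : M24) : Equiv.Perm GolayPt) = 1 := by
    refine Equiv.ext fun j => ?_
    by_cases hj : j = none
    · subst hj; exact hn
    by_cases hj0 : j = pt 0
    · subst hj0; exact h0
    obtain ⟨hk, hk0, e⟩ := smul_pointY hg hgσ hj hj0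
    have e' : (g : Co0) • pointY j hj = pointY j hj :=
      congrArg Subtype.val (h ⟨_, pointY_inY j hj hj0⟩)
    rw [e'] at e
    by_contra hne
    have h3 := congrArg (fun z : leechLattice => (z : Vec) j) e
    simp only [(pointY_apply j hj hj0).2.2.1,
      (pointY_apply _ hk hk0).2.2.2 j hj (Ne.symm hne)] at h3
    rcases u5_one hj with u | u <;> rw [u] at h3 <;> norm_num at h3
  refine Subtype.ext (S_unique hg (one_mem S) hgσ ?_)
  rw [hid]
  intro v p
  show |(((1 : Co0) • v : leechLattice) : Vec) p| = _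
  rw [one_smul]

/-- A set invariant under the stabiliser has one of eight sizes. -/
theorem invariant_card {O : Set Y} (hO : ∀ g ∈ MulAction.stabilizer G y0, ∀ y ∈ O, g • y ∈ O)
    (h0 : y0 ∈ O) : O.ncard ∈ [1, 23, 78, 100] := by
  classical
  have hfin : Finite Y := Nat.finite_of_card_ne_zero (by rw [card_Y]; norm_num)
  have move : ∀ g ∈ S, ∀ y ∈ O, ∀ z : Y, g • y.1 = z.1 → z ∈ O := fun g hg y hy z e => by
    have := hO ⟨g, S_le_G hg⟩ (by rw [stab_y0]; exact hg) y hy
    convert this
    exact Subtype.ext e.symm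
  let O1 : Set Y := {y | (y.1 : Vec) none = 1}
  let O2 : Set Y := {y | (y.1 : Vec) none = 2}
  have all1 : ∀ y ∈ O, y ∈ O1 → O1 ⊆ O := fun y hy hy1 z hz => by
    obtain ⟨g, hg, e⟩ := S_trans_one y.2 z.2 hy1 hz
    exact move g hg y hy z e
  have all2 : ∀ y ∈ O, y ∈ O2 → O2 ⊆ O := fun y hy hy1 z hz => by
    obtain ⟨g, hg, e⟩ := S_trans_two y.2 z.2 hy1 hz
    exact move g hg y hy z e
  have size : ∀ (n : ℕ) (k : ℤ), {y : leechLattice | InY y ∧ (y : Vec) none = k}.ncard = n →
      {y : Y | (y.1 : Vec) none = k}.ncard = n := by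
    intro n k hn
    rw [← hn, ← Set.ncard_image_of_injective {y : Y | (y.1 : Vec) none = k} Subtype.val_injective]
    refine congrArg Set.ncard (Set.ext fun y => ?_)
    exact ⟨fun ⟨z, hz, e⟩ => e ▸ ⟨z.2, hz⟩, fun ⟨hy, hk⟩ => ⟨⟨y, hy⟩, hk, rfl⟩⟩
  have c1 : O1.ncard = 22 := size 22 1 card_one
  have c2 : O2.ncard = 77 := size 77 2 card_two
  have hw : (w0 : Vec) none = 4 := by show orthVec none = 4; decide +kernel
  have hn1 : y0 ∉ O1 := fun h => by
    have h' : (w0 : Vec) none = 1 := h
    omega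
  have hn2 : y0 ∉ O2 := fun h => by
    have h' : (w0 : Vec) none = 2 := h
    omega
  have hdisj : Disjoint O1 O2 := Set.disjoint_left.2 fun y h1 h2 => by
    have a : (y.1 : Vec) none = 1 := h1
    have b : (y.1 : Vec) none = 2 := h2
    omega
  have cover : ∀ y : Y, y = y0 ∨ y ∈ O1 ∨ y ∈ O2 := fun y => by
    by_cases e : y = y0
    · exact Or.inl e
    · exact Or.inr (one_or_two y.2 fun e' => e (Subtype.ext e'))
  by_cases a : ∃ y ∈ O, y ∈ O1 <;> by_cases b : ∃ y ∈ O, y ∈ O2
  · obtain ⟨y, hy, hy1⟩ := a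
    obtain ⟨z, hz, hz2⟩ := b
    have : O = Set.univ := Set.eq_univ_of_forall fun x => by
      rcases cover x with rfl | h | h
      exacts [h0, all1 y hy hy1 h, all2 z hz hz2 h]
    rw [this, Set.ncard_univ, card_Y]; decide
  · obtain ⟨y, hy, hy1⟩ := a
    have : O = insert y0 O1 := Set.ext fun x => by
      refine ⟨fun hx => ?_, ?_⟩
      · rcases cover x with h | h | h
        exacts [Or.inl h, Or.inr h, absurd ⟨x, hx, h⟩ b]
      · rintro (rfl | h)
        exacts [h0, all1 y hy hy1 h]
    rw [this, Set.ncard_insert_of_notMem hn1, c1]; decide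
  · obtain ⟨y, hy, hy1⟩ := b
    have : O = insert y0 O2 := Set.ext fun x => by
      refine ⟨fun hx => ?_, ?_⟩
      · rcases cover x with h | h | h
        exacts [Or.inl h, absurd ⟨x, hx, h⟩ a, Or.inr h]
      · rintro (rfl | h)
        exacts [h0, all2 y hy hy1 h]
    rw [this, Set.ncard_insert_of_notMem hn2, c2]; decide
  · have : O = {y0} := Set.ext fun x => by
      refine ⟨fun hx => ?_, fun h => by rwa [Set.mem_singleton_iff.1 h]⟩
      rcases cover x with h | h | h
      exacts [h, absurd ⟨x, hx, h⟩ a, absurd ⟨x, hx, h⟩ b]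
    rw [this, Set.ncard_singleton]; decide

theorem isSimple_G : IsSimpleGroup G := by
  classical
  haveI : Finite G := Nat.finite_of_card_ne_zero (by rw [card_G]; norm_num)
  haveI : Finite Y := Nat.finite_of_card_ne_zero (by rw [card_Y]; norm_num)
  haveI : Nontrivial G := Finite.one_lt_card_iff_nontrivial.1 (by rw [card_G]; norm_num)
  haveI := isSimple_stab
  haveI : MulAction.IsPretransitive G Y := ⟨fun a b => by
    obtain ⟨g, hg⟩ : a ∈ MulAction.orbit G y0 := orbit_y0 ▸ Set.mem_univ a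
    obtain ⟨k, hk⟩ : b ∈ MulAction.orbit G y0 := orbit_y0 ▸ Set.mem_univ b
    exact ⟨k * g⁻¹, by rw [← hg, mul_smul, inv_smul_smul]; exact hk⟩⟩
  refine ⟨fun N hN => ?_⟩
  set St := MulAction.stabilizer G y0 with hSt
  set O := MulAction.orbit N y0 with hO
  have hinv : ∀ g ∈ St, ∀ y ∈ O, g • y ∈ O := by
    rintro g hg _ ⟨n, rfl⟩
    refine ⟨⟨g * n * g⁻¹, hN.conj_mem n n.2 g⟩, ?_⟩
    show (g * (n : G) * g⁻¹) • y0 = g • (n : G) • y0
    rw [mul_smul, mul_smul, inv_smul_eq_iff.2 (MulAction.mem_stabilizer_iff.1 hg).symm]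
  have hdvdO : O.ncard ∣ Nat.card G := by
    have := Subgroup.card_subgroup_dvd_card N
    refine dvd_trans ?_ this
    rw [hO, ← MulAction.index_stabilizer]
    exact Subgroup.index_dvd_card _
  have hcardO := invariant_card hinv (MulAction.mem_orbit_self y0)
  rw [card_G] at hdvdO
  simp only [List.mem_cons, List.not_mem_nil, or_false] at hcardO
  rcases hcardO with h | h | h | h
  · -- trivial action
    left
    rw [eq_bot_iff]
    intro n hn
    rw [Subgroup.mem_bot]
    refine faithful fun y => ?_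
    obtain ⟨g, rfl⟩ : y ∈ MulAction.orbit G y0 := orbit_y0 ▸ Set.mem_univ y
    have hmem : g⁻¹ * n * g ∈ N := by simpa using hN.conj_mem n hn g⁻¹
    have : (g⁻¹ * n * g) • y0 = y0 := by
      obtain ⟨a, ha⟩ := Set.ncard_eq_one.1 h
      have h1 : (g⁻¹ * n * g) • y0 ∈ O := ⟨⟨_, hmem⟩, rfl⟩
      have h2 : y0 ∈ O := MulAction.mem_orbit_self y0
      rw [ha, Set.mem_singleton_iff] at h1 h2
      rw [h1, ← h2]
    rw [← mul_smul, show n * g = g * (g⁻¹ * n * g) by group, mul_smul, this]
  · rw [h] at hdvdO; norm_num at hdvdO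
  · rw [h] at hdvdO; norm_num at hdvdO
  · rcases Subgroup.Normal.eq_bot_or_eq_top (H := N.subgroupOf St) inferInstance with hb | ht
    · exfalso
      -- `N` is regular of order 100
      have hst : MulAction.stabilizer N y0 = ⊥ := by
        rw [eq_bot_iff]
        intro n hn
        rw [Subgroup.mem_bot]
        have : (⟨(n : G), hn⟩ : St) ∈ N.subgroupOf St := n.2
        rw [hb, Subgroup.mem_bot] at this
        exact Subtype.ext (congrArg Subtype.val this : (n : G) = 1)
      have hcN : Nat.card N = 100 := by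
        have := Subgroup.index_mul_card (MulAction.stabilizer N y0)
        rw [MulAction.index_stabilizer, ← hO, h, hst, Subgroup.card_bot] at this
        omega
      have hinj : Function.Injective fun n : N => n • y0 := fun a b e => by
        have : b⁻¹ * a ∈ MulAction.stabilizer N y0 := by
          rw [MulAction.mem_stabilizer_iff, mul_smul]
          exact inv_smul_eq_iff.2 e
        rw [hst, Subgroup.mem_bot, inv_mul_eq_one] at this
        exact this.symm
      haveI : Fact (Nat.Prime 5) := ⟨by norm_num⟩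
      have hn5 : Nat.card (Sylow 5 N) = 1 := by
        have h1 := card_sylow_modEq_one 5 N
        have h2 : Nat.card (Sylow 5 N) ∣ 4 := by
          have P : Sylow 5 N := Classical.arbitrary _
          have hP : Nat.card (P : Subgroup N) = 25 := by
            rw [Sylow.card_eq_multiplicity, hcN,
              show (100 : ℕ) = 2 ^ 2 * 5 ^ 2 by norm_num,
              Nat.factorization_mul (by norm_num) (by norm_num),
              Nat.Prime.factorization_pow Nat.prime_two,
              Nat.Prime.factorization_pow (by norm_num : Nat.Prime 5)]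
            simp
          have h3 := P.card_dvd_index
          have h4 := (P : Subgroup N).index_mul_card
          rw [hP, hcN] at h4
          rwa [show (P : Subgroup N).index = 4 by omega] at h3
        have h4 := Nat.le_of_dvd (by norm_num) h2
        unfold Nat.ModEq at h1
        omega
      haveI : Subsingleton (Sylow 5 N) := (Nat.card_eq_one_iff_unique.1 hn5).1
      let P : Sylow 5 N := Classical.arbitrary _
      have hP : Nat.card (P : Subgroup N) = 25 := by
        rw [Sylow.card_eq_multiplicity, hcN,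
          show (100 : ℕ) = 2 ^ 2 * 5 ^ 2 by norm_num,
          Nat.factorization_mul (by norm_num) (by norm_num),
          Nat.Prime.factorization_pow Nat.prime_two,
          Nat.Prime.factorization_pow (by norm_num : Nat.Prime 5)]
        simp
      have hmemP : ∀ n : N, n ∈ (P : Subgroup N) ↔ n ^ 25 = 1 := by
        intro n
        refine ⟨fun hn => ?_, fun hn => ?_⟩
        · have := pow_card_eq_one' (G := (P : Subgroup N)) (x := ⟨n, hn⟩)
          rw [hP] at this
          exact congrArg Subtype.val this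
        · have hp : IsPGroup 5 (Subgroup.zpowers n) := by
            intro ⟨m, hm⟩
            obtain ⟨k, rfl⟩ := Subgroup.mem_zpowers_iff.1 hm
            refine ⟨2, Subtype.ext ?_⟩
            show (n ^ k) ^ (5 ^ 2) = 1
            rw [← zpow_natCast, ← zpow_mul, mul_comm, zpow_mul, zpow_natCast]
            rw [show (5 : ℕ) ^ 2 = 25 by norm_num, hn, one_zpow]
          obtain ⟨Q, hQ⟩ := hp.exists_le_sylow
          rw [Subsingleton.elim P Q]
          exact hQ (Subgroup.mem_zpowers n)
      let T : Set Y := (fun n : N => n • y0) '' ((P : Subgroup N) : Set N)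
      have hT : T.ncard = 25 := by
        rw [Set.ncard_image_of_injective _ hinj, ← Nat.card_coe_set_eq]; exact hP
      have hTinv : ∀ g ∈ St, ∀ y ∈ T, g • y ∈ T := by
        rintro g hg _ ⟨n, hn, rfl⟩
        refine ⟨⟨g * n * g⁻¹, hN.conj_mem n n.2 g⟩, ?_, ?_⟩
        · rw [SetLike.mem_coe, hmemP] at hn ⊢
          apply Subtype.ext
          show (g * (n : G) * g⁻¹) ^ 25 = 1
          have hn' : (n : G) ^ 25 = 1 := congrArg Subtype.val hn
          rw [conj_pow, hn', mul_one, mul_inv_cancel]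
        · show (g * (n : G) * g⁻¹) • y0 = g • (n : G) • y0
          rw [mul_smul, mul_smul, inv_smul_eq_iff.2 (MulAction.mem_stabilizer_iff.1 hg).symm]
      have := invariant_card hTinv ⟨1, one_mem _, one_smul _ _⟩
      rw [hT] at this
      simp at this
    · right
      have hle : St ≤ N := fun g hg => by
        have : (⟨g, hg⟩ : St) ∈ N.subgroupOf St := ht ▸ Subgroup.mem_top _
        exact this
      refine (Subgroup.eq_top_iff' N).2 fun g => ?_
      have : g • y0 ∈ O := by
        have hu : O = Set.univ := Set.eq_of_subset_of_ncard_le (Set.subset_univ _)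
          (by rw [Set.ncard_univ, card_Y, h])
        rw [hu]; exact Set.mem_univ _
      obtain ⟨n, hn⟩ := this
      have hmem : (n : G)⁻¹ * g ∈ St := by
        rw [hSt, MulAction.mem_stabilizer_iff, mul_smul]
        exact inv_smul_eq_iff.2 hn.symm
      have := N.mul_mem n.2 (hle hmem)
      rwa [mul_inv_cancel_left] at this

theorem isHS_G : IsHS G := ⟨isSimple_G, card_G⟩

/-- Every admissible pair gives a group isomorphic to `G`. -/
theorem equiv_G (v w : leechLattice) (hv : sqNorm (v : Vec) = 48) (hw : sqNorm (w : Vec) = 48)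
    (hvw : dotInt (v : Vec) (w : Vec) = -32) :
    Nonempty (↥(MulAction.stabilizer Co0 v ⊓ MulAction.stabilizer Co0 w) ≃* G) := by
  obtain ⟨hs, hsv⟩ := sum_facts hv hw hvw
  obtain ⟨h, h1, h2⟩ := trans_sv (v + w) v v0 u5 hs hv hsv sqNorm_v0 u5_facts.1 dot_v0u5
  have e : (MulAction.stabilizer Co0 v ⊓ MulAction.stabilizer Co0 w).map (MulAut.conj h).toMonoidHom = G := by
    ext g
    simp only [Subgroup.mem_map, Subgroup.mem_inf, MulAction.mem_stabilizer_iff,
      MulEquiv.coe_toMonoidHom, MulAut.conj_apply, mem_G]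
    constructor
    · rintro ⟨k, ⟨k1, k2⟩, rfl⟩
      rw [← h1, ← h2]
      simp only [mul_smul, inv_smul_smul, smul_add', k1, k2, and_self]
    · rintro ⟨g1, g2⟩
      refine ⟨h⁻¹ * g * h, ⟨?_, ?_⟩, by group⟩
      · rw [mul_smul, mul_smul, h2, g2, ← h2, inv_smul_smul]
      · have hwe : w = h⁻¹ • (v0 - u5) := by
          rw [eq_inv_smul_iff, ← h1, ← h2, ← smul_sub', add_sub_cancel_left]
        rw [hwe, mul_smul, mul_smul, smul_inv_smul, smul_sub', g1, g2]
  exact ⟨((Subgroup.equivMapOfInjective _ _ (MulAut.conj h).injective)).trans (MulEquiv.subgroupCongr e)⟩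

end Cfsg.Agent.LeechAut.HS
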