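import Cfsg.Agent.Lib.LeechAut.HS
import Cfsg.Agent.Lib.Golay.PointBlockEqns
import Cfsg.Agent.Lib.Golay.Derived22
import Cfsg.Agent.Lib.Golay.HigmanSimsGraph

/-!
The point-block graph of an S(3, 6, 22) is the graph of the hundred Leech vectors, so the
Higman–Sims group acts on it, transitively.
-/

set_option autoImplicit false
set_option maxRecDepth 10000

namespace Cfsg.Agent.LeechAut.HSGraph

open Cfsg Cfsg.Agent.Golay.Basic Cfsg.Agent.Golay.Design Cfsg.Agent.Leech.Basic
  Cfsg.Agent.Leech.Index Cfsg.Agent.LeechAut.Gens Cfsg.Agent.LeechAut.Basic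
  Cfsg.Agent.LeechAut.Shells Cfsg.Agent.LeechAut.Pairs
  Cfsg.Agent.LeechAut.Triples Cfsg.Agent.LeechAut.Census Cfsg.Agent.LeechAut.HS Finset
open scoped Pointwise

/-- The graph on the hundred vectors. -/
def graph : SimpleGraph Y :=
  SimpleGraph.fromRel fun a b => dotInt (a.1 : Vec) (b.1 : Vec) = 8

theorem graph_adj {a b : Y} : graph.Adj a b ↔ a ≠ b ∧ dotInt (a.1 : Vec) (b.1 : Vec) = 8 := by
  rw [graph, SimpleGraph.fromRel_adj]
  refine and_congr_right fun _ => ⟨fun h => h.elim id fun h => ?_, Or.inl⟩
  rwa [dot_comm] at h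

/-- The group as automorphisms of the graph. -/
def toAut : G →* (graph ≃g graph) where
  toFun g :=
    { toEquiv := MulAction.toPerm g
      map_rel_iff' := by
        intro a b
        simp only [graph_adj, MulAction.toPerm_apply, ne_eq, (MulAction.injective g).eq_iff]
        show ¬a = b ∧ dotInt (((g : Co0) • a.1 : leechLattice) : Vec) (((g : Co0) • b.1 : leechLattice) : Vec) = 8 ↔ _
        rw [dot_smul] }
  map_one' := RelIso.ext fun x => one_smul G x
  map_mul' g h := RelIso.ext fun x => mul_smul g h x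

theorem toAut_apply (g : G) (x : Y) : toAut g x = g • x := rfl

theorem toAut_injective : Function.Injective toAut := by
  intro g h e
  have : h⁻¹ * g = 1 := faithful fun y => by
    have e' : g • y = h • y := by rw [← toAut_apply, ← toAut_apply, e]
    rw [mul_smul, e', inv_smul_smul]
  exact (inv_mul_eq_one.1 this).symm

/-! ### The vectors of the blocks -/

/-- The seed. -/
def seedVec : Vec := fun p => if p = none then 2 else if p = pt 0 then -2 else
  if (13062145 : ℕ).testBit (ix p) then 2 * five p else 0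

/-- The seed, in the lattice. -/
def seed : leechLattice := ⟨seedVec, mem_of_inLat (by decide +kernel)⟩

theorem seed_inY : InY seed := by
  show sqNorm seedVec = 32 ∧ dotInt stdVec seedVec = 0 ∧ dotInt five seedVec = 24
  decide +kernel

theorem seed_abs : ∀ p : GolayPt, |seedVec p| = if p ∈ maskSet 13062145 then 2 else 0 := by
  decide +kernel

theorem exists_block {o : Finset GolayPt} (ho : o ∈ octads) (hno : none ∈ o) (h0o : pt 0 ∈ o) :
    ∃ y : leechLattice, InY y ∧ (y : Vec) none = 2 ∧ ∀ p, |(y : Vec) p| = if p ∈ o then 2 else 0 := by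
  classical
  have hs8 : maskSet 13062145 ∈ octads := mem_octads_iff.2 (by decide +kernel)
  have hsn : none ∈ maskSet 13062145 := mem_maskSet.2 (by decide +kernel)
  have hs0 : pt 0 ∈ maskSet 13062145 := mem_maskSet.2 (by decide +kernel)
  have three : ∀ {o : Finset GolayPt}, o ∈ octads → none ∈ o → pt 0 ∈ o → ∃ s : Finset GolayPt,
      s ⊆ o ∧ s.card = 3 ∧ none ∉ s ∧ pt 0 ∉ s := by
    intro o ho a b
    obtain ⟨s, hs, hc⟩ := Finset.exists_subset_card_eq (s := (o.erase none).erase (pt 0)) (n := 3) (by
      rw [card_erase_of_mem (mem_erase.2 ⟨pt0_ne_none, b⟩), card_erase_of_mem a, octad_card ho]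
      norm_num)
    refine ⟨s, fun p hp => mem_of_mem_erase (mem_of_mem_erase (hs hp)), hc, fun h => ?_, fun h => ?_⟩
    · exact (mem_erase.1 (mem_of_mem_erase (hs h))).1 rfl
    · exact (mem_erase.1 (hs h)).1 rfl
  obtain ⟨s, hs, hsc, hn, h0⟩ := three hs8 hsn hs0
  obtain ⟨s', hs', hsc', hn', h0'⟩ := three ho hno h0o
  obtain ⟨σ, hσ, e⟩ := exists_M22 (l := s.toList) (l' := s'.toList)
    (by simp [pt0_ne_none.symm, hn, h0, Finset.nodup_toList])
    (by simp [pt0_ne_none.symm, hn', h0', Finset.nodup_toList])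
    (by simp [hsc, hsc']) (by simp [hsc])
  obtain ⟨hσn, hσ0⟩ := mem_M22s.1 hσ
  set τ := ((σ : M24) : Equiv.Perm GolayPt) with hτ
  have hoe : τ • maskSet 13062145 = o := by
    refine octads_eq_of_subset (s := τ • insert none (insert (pt 0) s)) ?_
      (Cfsg.Agent.Golay.M24.smul_mem_octads σ.2 hs8) ho
      (Finset.smul_finset_subset_smul_finset (insert_subset hsn (insert_subset hs0 hs))) ?_
    · rw [card_smul_finset, card_insert_of_notMem (by simp [pt0_ne_none.symm, hn]),
        card_insert_of_notMem h0, hsc]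
    · intro p hp
      obtain ⟨q, hq, rfl⟩ := Finset.mem_smul_finset.1 hp
      rw [Equiv.Perm.smul_def]
      rcases mem_insert.1 hq with rfl | hq
      · rw [hσn]; exact hno
      rcases mem_insert.1 hq with rfl | hq
      · rw [hσ0]; exact h0o
      · exact hs' (mem_toList.1 (e ▸ List.mem_map_of_mem (mem_toList.2 hq)))
  obtain ⟨g, hg, hgσ⟩ := exists_lift σ hσ
  have hY := inY_smul (mem_S.1 hg).1 seed_inY
  refine ⟨g • seed, hY, ?_, fun p => ?_⟩
  · have h1 := dot_smul g w0 seed
    rw [(mem_S.1 hg).2, dot_w0_Y hY, dot_w0_Y seed_inY] at h1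
    have h2 : (seed : Vec) none = 2 := by show seedVec none = 2; decide +kernel
    omega
  · obtain ⟨q, rfl⟩ := τ.surjective p
    rw [hgσ]
    show |seedVec q| = _
    rw [seed_abs, ← hoe]
    simp only [Cfsg.Agent.Golay.M24.mem_smul_iff]

/-- The value of a vector of the second kind. -/
theorem block_value {y : leechLattice} (hy : InY y) (h : (y : Vec) none = 2) {o : Finset GolayPt}
    (ho : ∀ p, |(y : Vec) p| = if p ∈ o then 2 else 0) (p : GolayPt) :
    (y : Vec) p = if p ∈ o then (if p = none then 2 else if p = pt 0 then -2 else 2 * (u5 : Vec) p) else 0 := by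
  have hne : y ≠ w0 := fun e => by
    rw [e] at h; exact absurd h (by show orthVec none ≠ 2; decide +kernel)
  rcases classify hy hne with ⟨a, -⟩ | ⟨-, o', -, hn', h0', h0, h'⟩
  · omega
  have e := ho p
  by_cases p1 : p = none
  · subst p1
    rw [h] at e ⊢
    by_cases hp : none ∈ o
    · rw [if_pos hp, if_pos rfl]
    · rw [if_neg hp] at e; norm_num at e
  by_cases p2 : p = pt 0
  · subst p2
    rw [h0] at e ⊢
    by_cases hp : pt 0 ∈ o
    · rw [if_pos hp, if_neg p1, if_pos rfl]
    · rw [if_neg hp] at e; norm_num at e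
  rw [h' p p1 p2] at e ⊢
  rw [if_neg p1, if_neg p2]
  by_cases hp : p ∈ o <;> by_cases hp' : p ∈ o'
  · rw [if_pos hp', if_pos hp]
  · rw [if_neg hp', if_pos hp] at e; norm_num at e
  · rw [if_pos hp', if_neg hp] at e
    rcases u5_one p1 with u | u <;> rw [u] at e <;> norm_num at e
  · rw [if_neg hp', if_neg hp]

theorem dot_w0_one {j : GolayPt} (hj : j ≠ none) (hj0 : j ≠ pt 0) :
    dotInt (w0 : Vec) ((pointY j hj : leechLattice) : Vec) = 8 := by
  rw [dot_w0_Y (pointY_inY j hj hj0), (pointY_apply j hj hj0).1]; rfl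

theorem dot_points {j k : GolayPt} (hj : j ≠ none) (hj0 : j ≠ pt 0) (hk : k ≠ none) (hjk : j ≠ k) :
    dotInt ((pointY j hj : leechLattice) : Vec) ((pointY k hk : leechLattice) : Vec) = 16 := by
  obtain ⟨a1, -, -, a4⟩ := pointY_apply j hj hj0
  rw [dot_pointY, a1, a4 k hk (Ne.symm hjk), dot_comm, (pointY_inY j hj hj0).2.2]
  rcases u5_one hk with u | u <;> rw [u] <;> rfl

theorem dot_point_block {j : GolayPt} (hj : j ≠ none) (hj0 : j ≠ pt 0) {y : leechLattice} (hy : InY y)
    (h : (y : Vec) none = 2) {o : Finset GolayPt} (ho : ∀ p, |(y : Vec) p| = if p ∈ o then 2 else 0) :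
    dotInt ((pointY j hj : leechLattice) : Vec) (y : Vec) = 8 ↔ j ∈ o := by
  rw [dot_comm, dot_pointY, dot_comm, hy.2.2, h, block_value hy h ho j, if_neg hj, if_neg hj0]
  by_cases hjo : j ∈ o
  · rw [if_pos hjo]
    rcases u5_one hj with u | u <;> rw [u] <;> simp [hjo]
  · rw [if_neg hjo]
    simp [hjo]

theorem dot_blocks {y y' : leechLattice} (hy : InY y) (hy' : InY y') (h : (y : Vec) none = 2)
    (h' : (y' : Vec) none = 2) {o o' : Finset GolayPt}
    (ho : ∀ p, |(y : Vec) p| = if p ∈ o then 2 else 0)
    (ho' : ∀ p, |(y' : Vec) p| = if p ∈ o' then 2 else 0) :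
    dotInt (y : Vec) (y' : Vec) = 4 * ((o ∩ o').card : ℤ) := by
  classical
  rw [dotInt, show ((o ∩ o').card : ℤ) = ∑ p, if p ∈ o ∩ o' then 1 else 0 by
    rw [sum_boole, filter_univ_mem], mul_sum]
  refine sum_congr rfl fun p _ => ?_
  rw [block_value hy h ho p, block_value hy' h' ho' p]
  by_cases a : p ∈ o <;> by_cases b : p ∈ o' <;> simp [a, b]
  split_ifs with p1 p2
  · rfl
  · rfl
  · rcases u5_one p1 with u | u <;> rw [u] <;> rfl

variable {α : Type*} [Fintype α] [DecidableEq α]

/-- The point-block graph of an S(3, 6, 22) is the graph of the hundred vectors. -/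
theorem exists_iso (hα : Fintype.card α = 22) {B : Set (Finset α)} (hB : IsSteinerSystem 3 6 B) :
    Nonempty (pointBlockGraph B ≃g graph) := by
  classical
  obtain ⟨e, he0, he1, heB⟩ := Cfsg.Agent.Golay.Derived22.exists_embedding hα hB
  obtain ⟨g, hg, hgl⟩ := exists_map_list [pt 0, pt 1] [none, pt 0] (by decide) (by decide) rfl (by simp)
  simp only [List.map_cons, List.map_nil, List.cons.injEq, and_true] at hgl
  let e' : Option (Option α) ≃ GolayPt := e.trans g
  have en : e' none = none := by show g (e none) = none; rw [he0, hgl.1]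
  have e0 : e' (some none) = pt 0 := by show g (e (some none)) = pt 0; rw [he1, hgl.2]
  let ι : α → GolayPt := fun a => e' (some (some a))
  have ιn : ∀ a, ι a ≠ none := fun a h => by
    rw [← en] at h; exact absurd (e'.injective h) (by simp)
  have ι0 : ∀ a, ι a ≠ pt 0 := fun a h => by
    rw [← e0] at h; exact absurd (e'.injective h) (by simp)
  let oct : Finset α → Finset GolayPt := fun b => (Finset.insertNone (Finset.insertNone b)).image e'
  have hoct : ∀ b : B, oct b ∈ octads ∧ none ∈ oct b ∧ pt 0 ∈ oct b := fun b => by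
    refine ⟨?_, mem_image.2 ⟨none, by simp, en⟩, mem_image.2 ⟨some none, by simp, e0⟩⟩
    have : oct b = g • (Finset.insertNone (Finset.insertNone (b : Finset α))).image e := by
      simp only [oct, e', Cfsg.Agent.Golay.M24.smul_finset_def, Finset.image_image]
      rfl
    rw [this]
    exact Cfsg.Agent.Golay.M24.smul_mem_octads hg ((heB _).1 b.2)
  have hmem : ∀ a (b : Finset α), ι a ∈ oct b ↔ a ∈ b := fun a b => by
    simp only [oct, ι, mem_image, e'.injective.eq_iff, exists_eq_right]
    simp
  have hblock : ∀ b : B, ∃ y : leechLattice, InY y ∧ (y : Vec) none = 2 ∧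
      ∀ p, |(y : Vec) p| = if p ∈ oct b then 2 else 0 := fun b =>
    exists_block (hoct b).1 (hoct b).2.1 (hoct b).2.2
  choose yb hyY hy2 hyo using hblock
  let f : Option (α ⊕ B) → Y := fun x => match x with
    | none => y0
    | some (Sum.inl a) => ⟨pointY (ι a) (ιn a), pointY_inY _ (ιn a) (ι0 a)⟩
    | some (Sum.inr b) => ⟨yb b, hyY b⟩
  have v0' : ((f none).1 : Vec) none = 4 := by show orthVec none = 4; decide +kernel
  have v1' : ∀ a, ((f (some (Sum.inl a))).1 : Vec) none = 1 := fun a =>
    (pointY_apply _ (ιn a) (ι0 a)).1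
  have v2' : ∀ b, ((f (some (Sum.inr b))).1 : Vec) none = 2 := fun b => hy2 b
  have hinj : Function.Injective f := by
    rintro (_ | (a | b)) (_ | (a' | b')) h
    all_goals have hv := congrArg (fun z : Y => (z.1 : Vec) none) h
    all_goals simp only [v0', v1', v2'] at hv
    all_goals first | omega | rfl | skip
    · congr 2
      by_contra hne
      have hne' : ι a ≠ ι a' := fun e => hne (by
        have := e'.injective e
        simpa using this)
      have hd := dot_points (ιn a) (ι0 a) (ιn a') hne'
      have hh : pointY (ι a) (ιn a) = pointY (ι a') (ιn a') := congrArg Subtype.val h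
      rw [← hh, dot_self, (pointY_inY _ (ιn a) (ι0 a)).1] at hd
      norm_num at hd
    · congr 2
      have hh : yb b = yb b' := congrArg Subtype.val h
      have hoo : oct b = oct b' := by
        ext p
        have e1 := hyo b p
        have e2 := hyo b' p
        rw [hh, e2] at e1
        by_cases a1 : p ∈ oct b <;> by_cases a2 : p ∈ oct b' <;> simp [a1, a2] at e1 ⊢
      exact Subtype.ext (Finset.ext fun a => by rw [← hmem, hoo, hmem])
  haveI : Fintype B := Fintype.ofFinite _
  have hcard : Nat.card (Option (α ⊕ B)) = Nat.card Y := by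
    rw [card_Y, Finite.card_option, Nat.card_sum, Nat.card_eq_fintype_card, hα, Nat.card_coe_set_eq,
      Cfsg.Agent.Golay.HigmanSimsGraph.card_block_set hB hα]
  haveI : Finite Y := Nat.finite_of_card_ne_zero (by rw [card_Y]; norm_num)
  have hbij : Function.Bijective f := (Nat.bijective_iff_injective_and_card f).2 ⟨hinj, hcard⟩
  refine ⟨{ toEquiv := Equiv.ofBijective f hbij, map_rel_iff' := ?_ }⟩
  intro x z
  rw [graph_adj]
  have hne : f x ≠ f z ↔ x ≠ z := hinj.ne_iff
  simp only [Equiv.ofBijective_apply, hne, pointBlockGraph, SimpleGraph.fromRel_adj]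
  refine and_congr_right fun hxz => ?_
  rcases x with _ | (a | b) <;> rcases z with _ | (a' | b') <;> simp only [pointBlockRel]
  · exact absurd rfl hxz
  · simpa [f, y0] using dot_w0_one (ιn a') (ι0 a')
  · have := dot_w0_Y (hyY b')
    rw [hy2] at this
    simp [f, y0, this]
  · simpa [f, y0, dot_comm] using dot_w0_one (ιn a) (ι0 a)
  · have hne' : ι a ≠ ι a' := fun e => hxz (by
      have := e'.injective e
      simp only [Option.some.injEq] at this
      rw [this])
    simp [f, dot_points (ιn a) (ι0 a) (ιn a') hne']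
  · rw [or_false]
    exact (dot_point_block (ιn a) (ι0 a) (hyY b') (hy2 b') (hyo b')).trans (hmem a b')
  · have := dot_w0_Y (hyY b)
    rw [hy2] at this
    simp [f, y0, dot_comm, this]
  · rw [false_or]
    show dotInt (yb b : Vec) ((pointY (ι a') (ιn a') : leechLattice) : Vec) = 8 ↔ _
    rw [dot_comm]
    exact (dot_point_block (ιn a') (ι0 a') (hyY b) (hy2 b) (hyo b)).trans (hmem a' b)
  · show dotInt (yb b : Vec) (yb b' : Vec) = 8 ↔ _
    rw [dot_blocks (hyY b) (hyY b') (hy2 b) (hy2 b') (hyo b) (hyo b')]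
    have hI : oct b ∩ oct b' = (Finset.insertNone (Finset.insertNone ((b : Finset α) ∩ b'))).image e' := by
      simp only [oct]
      rw [← Finset.image_inter _ _ e'.injective]
      congr 1
      ext x; rcases x with _ | (_ | x) <;> simp
    rw [hI, card_image_of_injective _ e'.injective, Finset.card_insertNone, Finset.card_insertNone,
      disjoint_comm (a := (b' : Finset α)), or_self, disjoint_iff_inter_eq_empty, ← Finset.card_eq_zero]
    omega

end Cfsg.Agent.LeechAut.HSGraph
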