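import Cfsg.Agent.Lib.LeechAut.Functional
import Cfsg.Agent.Lib.Golay.Trans
import Cfsg.Agent.Lib.Golay.Coset

/-!
The lattice modulo two is irreducible under `Co0`.
-/

set_option autoImplicit false
set_option maxRecDepth 10000

namespace Cfsg.Agent.LeechAut.Irreducible

open Cfsg Cfsg.Agent.Golay.Basic Cfsg.Agent.Golay.Design Cfsg.Agent.Leech.Basic Cfsg.Agent.Leech.Gen
  Cfsg.Agent.Leech.Index Cfsg.Agent.LeechAut.Gens Cfsg.Agent.LeechAut.Basic Cfsg.Agent.LeechAut.Xi
  Cfsg.Agent.LeechAut.Functional Finset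

open scoped Pointwise

theorem high_check :
    ((List.range 4096).all fun a => enc basisMasks a % 4096 == a) = true ∧
    ((List.range 4096).all fun r => (r == 0) || basisMasks.any fun b => pc ((r <<< 12) &&& b) % 2 == 1) = true := by
  decide +kernel

/-- A set outside the code meets some code word oddly. -/
theorem exists_odd_inter {s : Finset GolayPt} (hs : s ∉ codeSets) :
    ∃ e ∈ codeSets, (s ∩ e).card % 2 = 1 := by
  classical
  obtain ⟨hlow, hhigh⟩ := high_check
  simp only [List.all_eq_true, List.mem_range, Bool.or_eq_true, beq_iff_eq, List.any_eq_true] at hlow hhigh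
  set w := enc basisMasks (mask s)
  have hw : isCode w = true := by simp [w, isCode, Cfsg.Agent.Golay.Coset.enc_idem]
  have hwlt : w < 2 ^ 24 :=
    of_decide_eq_true (forall_code (P := fun x => decide (x < 2 ^ 24)) (by decide +kernel) hw)
  set u := mask s ^^^ w
  have hult : u < 2 ^ 24 := Nat.xor_lt_two_pow (mask_lt s) hwlt
  have hu : u % 2 ^ 12 = 0 := by
    have h1 : w % 2 ^ 12 = mask s % 2 ^ 12 := by
      show enc basisMasks (mask s) % 2 ^ 12 = _
      rw [← enc_mod basisMasks (mask s)]
      exact hlow _ (Nat.mod_lt _ (by norm_num))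
    apply Nat.eq_of_testBit_eq
    intro j
    have := congrArg (fun n => n.testBit j) h1
    simp only [Nat.testBit_mod_two_pow] at this
    simp only [u, Nat.testBit_mod_two_pow, Nat.testBit_xor, Nat.zero_testBit]
    by_cases hj : j < 12
    · simp only [hj, decide_true, Bool.true_and] at this ⊢; simp [this]
    · simp [hj]
  have hu0 : u / 4096 ≠ 0 := by
    intro h0
    have hu1 : u = 0 := by omega
    refine hs (mem_supports_iff.2 ?_)
    have : mask s = w := Nat.eq_of_testBit_eq fun j => by
      have := congrArg (fun n => n.testBit j) hu1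
      simp only [u, Nat.testBit_xor, Nat.zero_testBit] at this
      revert this
      cases (mask s).testBit j <;> cases w.testBit j <;> simp
    rw [this]; exact hw
  have hr : u / 4096 < 4096 := by omega
  obtain ⟨b, hb, hodd⟩ := (hhigh _ hr).resolve_left hu0
  rw [show (u / 4096) <<< 12 = u by rw [Nat.shiftLeft_eq]; omega] at hodd
  have hbl : ∀ b ∈ basisMasks, b < 2 ^ 24 ∧ isCode b = true := by decide +kernel
  have hblt := hbl b hb
  have hbc : maskSet b ∈ codeSets := mem_supports_iff.2 (by rw [mask_maskSet hblt.1]; exact hblt.2)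
  have hwc : maskSet w ∈ codeSets := mem_supports_iff.2 (by rw [mask_maskSet hwlt]; exact hw)
  refine ⟨maskSet b, hbc, ?_⟩
  have h2 := two_dvd_inter hwc hbc
  have e : pc (u &&& b) = (symmDiff (s ∩ maskSet b) (maskSet w ∩ maskSet b)).card := by
    rw [card_eq_pc, mask_symmDiff, mask_inter, mask_inter, mask_maskSet hblt.1, mask_maskSet hwlt]
    congr 1
    exact Nat.eq_of_testBit_eq fun j => by
      simp only [u, Nat.testBit_and, Nat.testBit_xor]
      cases (mask s).testBit j <;> cases w.testBit j <;> cases b.testBit j <;> rfl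
  rw [e] at hodd
  have := card_symmDiff_eq (s ∩ maskSet b) (maskSet w ∩ maskSet b)
  omega

/-- The doubles. -/
def IsDouble (x : Vec) : Prop := ∃ z ∈ leechLattice, x = 2 • z

theorem four_mem {w : Vec} (hw : (2 : ℤ) ∣ ∑ i, w i) : (fun i => 4 * w i) ∈ leechLattice :=
  mem_lattice_iff.2 ⟨0, ∅, w, Or.inl rfl, empty_mem, fun i => by simp [ind], by
    rw [← mul_sum]; omega⟩

theorem double_eight {w : Vec} (hw : (2 : ℤ) ∣ ∑ i, w i) : IsDouble fun i => 8 * w i :=
  ⟨_, four_mem hw, funext fun i => by simp; ring⟩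

theorem eight_mem : eightVec ∈ leechLattice := mem_of_inLat (by decide +kernel)

variable {M : AddSubgroup Vec}

/-- Invariant subgroups between twice the lattice and the lattice. -/
structure Closed (M : AddSubgroup Vec) : Prop where
  dbl : ∀ x, IsDouble x → x ∈ M
  le : M ≤ leechLattice
  inv : ∀ (g : Co0) (v : leechLattice), (v : Vec) ∈ M → ((g • v : leechLattice) : Vec) ∈ M

theorem Closed.cut_mem (hM : Closed M) {d : Finset GolayPt} (hd : d ∈ codeSets) {x : Vec} (hx : x ∈ M) :
    cut d x ∈ M := sub_mem hx (hM.inv (sign d hd) ⟨x, hM.le hx⟩ hx)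

theorem cut_apply (d : Finset GolayPt) (x : Vec) (i : GolayPt) :
    cut d x i = 2 * (ind d i * x i) := by
  by_cases h : i ∈ d <;> simp [cut, Basic.flip, ind, h]
  ring

/-- A vector with all entries divisible by four which is not congruent to a multiple of the code. -/
theorem Closed.eight_of_four (hM : Closed M) {w : Vec} (hx : (fun i => 4 * w i) ∈ M)
    (hs : (univ.filter fun i => ¬ (2 : ℤ) ∣ w i) ∉ codeSets) : eightVec ∈ M := by
  classical
  obtain ⟨e, he, hodd⟩ := exists_odd_inter hs
  set u : Vec := fun i => ind e i * w i - if i = none then 1 else 0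
  have hu : (2 : ℤ) ∣ ∑ i, u i := by
    have h2 : ((∑ i, ind e i * w i : ℤ) : ZMod 2) = (((univ.filter fun i => ¬ (2 : ℤ) ∣ w i) ∩ e).card : ℕ) := by
      rw [Int.cast_sum, ← Finset.filter_univ_mem ((univ.filter fun i => ¬ (2 : ℤ) ∣ w i) ∩ e), ← Finset.sum_boole]
      refine Finset.sum_congr rfl fun i _ => ?_
      by_cases hi : i ∈ e
      · by_cases h0 : (2 : ℤ) ∣ w i
        · rw [if_neg (by simp [h0])]
          simpa [ind, hi] using (ZMod.intCast_zmod_eq_zero_iff_dvd (w i) 2).2 h0
        · rw [if_pos (by simp [hi]; omega)]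
          simp only [ind, hi, if_true, one_mul]
          exact (show ∀ z : ZMod 2, z ≠ 0 → z = 1 by decide) _
            fun h => h0 ((ZMod.intCast_zmod_eq_zero_iff_dvd (w i) 2).1 h)
      · simp [ind, hi]
    rw [show ((((univ.filter fun i => ¬ (2 : ℤ) ∣ w i) ∩ e).card : ℕ) : ZMod 2) = 1 from by
      rw [← ZMod.natCast_mod, hodd]; rfl] at h2
    rw [← Int.cast_one, ZMod.intCast_eq_intCast_iff'] at h2
    simp only [u, sum_sub_distrib, sum_ite_eq', mem_univ, if_true]
    push_cast at h2
    omega
  have h := sub_mem (hM.cut_mem he hx) (hM.dbl _ (double_eight hu))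
  convert h using 1
  funext i
  simp only [Pi.sub_apply, cut_apply, eightVec, u]
  by_cases hi : i = none <;> simp [hi] <;> ring

/-- Any member which is not a double gives the frame class. -/
theorem Closed.eight_mem' (hM : Closed M) (hne : ∃ x ∈ M, ¬ IsDouble x) : eightVec ∈ M := by
  classical
  have four : ∀ w : Vec, (fun i => 4 * w i) ∈ M → ¬ IsDouble (fun i => 4 * w i) → eightVec ∈ M := by
    intro w hw hnd
    by_cases hs : (univ.filter fun i => ¬ (2 : ℤ) ∣ w i) ∈ codeSets
    swap
    · exact hM.eight_of_four hw hs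
    obtain ⟨m, c, y, hm, hc, hx, hsum⟩ := mem_lattice_iff.1 (hM.le hw)
    have hw2 : (2 : ℤ) ∣ ∑ i, w i := by
      have := hx none
      rw [← mul_sum] at hsum
      rcases hm with rfl | rfl
      · omega
      · simp only [ind] at this; split_ifs at this <;> omega
    set s := univ.filter fun i => ¬ (2 : ℤ) ∣ w i
    set u : Vec := fun i => w i - if i = none then 2 else 0
    by_cases h4 : (4 : ℤ) ∣ ∑ i, w i
    · refine absurd ⟨fun i => 2 * w i, mem_lattice_iff.2 ⟨0, s, fun i => (w i - ind s i) / 2,
        Or.inl rfl, hs, fun i => ?_, by rw [← mul_sum]; omega⟩, funext fun i => by simp; ring⟩ hnd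
      by_cases hi : (2 : ℤ) ∣ w i <;> simp [ind, s, hi] <;> omega
    · have hmem : (fun i => 2 * u i) ∈ leechLattice := by
        refine mem_lattice_iff.2 ⟨0, s, fun i => (u i - ind s i) / 2, Or.inl rfl, hs, fun i => ?_, ?_⟩
        · simp only [u]
          by_cases hn : i = none <;> by_cases hi : (2 : ℤ) ∣ w i <;> simp [ind, s, hn, hi] <;>
            simp_all <;> omega
        · simp only [u, ← mul_sum, sum_sub_distrib, sum_ite_eq', mem_univ, if_true]
          omega
      have h := sub_mem hw (hM.dbl _ ⟨_, hmem, rfl⟩)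
      convert h using 1
      funext i
      by_cases hi : i = none <;> simp [eightVec, u, hi] <;> ring
  have gen : ∀ x ∈ M, ∀ c y, Shape x 0 c y → c ≠ ∅ → c ≠ univ → eightVec ∈ M := by
    rintro x hxM c y ⟨-, hc, hx, -⟩ hc0 hc1
    obtain ⟨a, ha⟩ := Finset.nonempty_iff_ne_empty.2 hc0
    obtain ⟨b, hb⟩ : ∃ b, b ∉ c := by
      by_contra h; push_neg at h
      exact hc1 (Finset.eq_univ_of_forall h)
    obtain ⟨S, hS, hS5⟩ := Finset.exists_superset_card_eq (s := ({a, b} : Finset GolayPt)) (n := 5)
      ((Finset.card_insert_le _ _).trans (by simp)) (by decide)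
    obtain ⟨d, ⟨hd, hdS⟩, -⟩ := steiner_octads.2 S hS5
    have hdc := octad_mem_supports hd
    have had : a ∈ d := hdS (hS (by simp))
    have hbd : b ∈ d := hdS (hS (by simp))
    refine hM.eight_of_four (w := fun i => ind (c ∩ d) i + 2 * (ind d i * y i)) ?_ ?_
    · convert hM.cut_mem hdc hxM using 1
      funext i
      rw [cut_apply, hx i]
      by_cases h1 : i ∈ c <;> by_cases h2 : i ∈ d <;> simp [ind, h1, h2] <;> ring
    · have e : (univ.filter fun i => ¬ (2 : ℤ) ∣ ind (c ∩ d) i + 2 * (ind d i * y i)) = c ∩ d := by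
        ext i
        rw [Finset.mem_filter]
        simp only [Finset.mem_univ, true_and, ind]
        by_cases h : i ∈ c ∩ d
        · simp only [h, if_true, iff_true]; omega
        · simp only [h, if_false, iff_false]; omega
      rw [e]
      intro hcd
      have hw := weights_supports hcd
      have h0 : 0 < (c ∩ d).card := Finset.card_pos.2 ⟨a, Finset.mem_inter.2 ⟨ha, had⟩⟩
      have h8 : (c ∩ d).card < 8 := by
        rw [← octad_card hd]
        exact Finset.card_lt_card ⟨Finset.inter_subset_right, fun h => hb (Finset.mem_inter.1 (h hbd)).1⟩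
      omega
  obtain ⟨x, hxM, hnd⟩ := hne
  obtain ⟨m, c, y, hm, hc, hx, hs⟩ := mem_lattice_iff.1 (hM.le hxM)
  rcases hm with rfl | rfl
  · by_cases hc0 : c = ∅
    · subst hc0
      have e : x = fun i => 4 * y i := funext fun i => by rw [hx i]; simp [ind]
      subst e
      exact four y hxM hnd
    by_cases hc1 : c = univ
    · subst hc1
      have h2 : IsDouble (2 • oddVec) := ⟨_, oddVec_mem.1, rfl⟩
      have h' := sub_mem hxM (hM.dbl _ h2)
      have e : x - 2 • oddVec = fun i => 4 * (y i + if i = none then 2 else 0) := by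
        funext i
        rw [Pi.sub_apply, Pi.smul_apply, hx i]
        by_cases hi : i = none <;> simp [oddVec, ind, hi] <;> ring
      rw [e] at h'
      refine four _ h' fun ⟨z, hz, ez⟩ => hnd ⟨z + oddVec, add_mem hz oddVec_mem.1, ?_⟩
      rw [nsmul_add, ← ez, ← e, sub_add_cancel]
    exact gen x hxM c y ⟨Or.inl rfl, hc, hx, hs⟩ hc0 hc1
  · obtain ⟨o, ho⟩ : ∃ o, o ∈ octads := ⟨maskSet 5279, mem_octads_iff.2 (by decide +kernel)⟩
    have hoc := octad_mem_supports ho
    have hcm := hM.cut_mem hoc hxM
    refine gen _ hcm o (fun i => ind o i * (ind c i + 2 * y i)) ⟨Or.inl rfl, hoc, fun i => ?_, ?_⟩ ?_ ?_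
    · rw [cut_apply, hx i]; by_cases h : i ∈ o <;> by_cases h' : i ∈ c <;> simp [ind, h, h'] <;> ring
    · obtain ⟨m', c', y', hm', hc', hx', hs'⟩ := mem_lattice_iff.1 (hM.le hcm)
      have := hx' none
      rw [cut_apply] at this
      rcases hm' with rfl | rfl
      · exact hs'
      · omega
    · intro h; have := octad_card ho; simp [h] at this
    · intro h; have := octad_card ho; rw [h, Finset.card_univ, show Fintype.card GolayPt = 24 by decide] at this
      omega

/-- The image of the frame vector. -/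
def starVec : Vec := xiFun eightVec

/-- The octad of two blocks. -/
def blockOctad : ℕ := 8388608 + 4 + 2 + 1 + 16 + 8192 + 65536 + 4194304

theorem star_check : lst starVec = (List.range 24).map (fun i => if i = 23 then 4 else if i < 3 then -4 else 0) ∧
    inLat (pairVec (pt 4) 1) = true ∧
    ((List.range 24).all fun i =>
      (xiFun (pairVec (pt 4) 1) (pt i) - twoInd (maskSet blockOctad) (pt i)) % 4 == 0) = true ∧
    isCode blockOctad = true ∧ pc blockOctad = 8 ∧ blockOctad < 2 ^ 24 ∧
    (∃ b ∈ basisMasks, inLat (twoInd (maskSet b)) = true ∧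
      (xiFun (twoInd (maskSet b)) none) % 2 = 1) := by decide +kernel

/-- An invariant subgroup with a member which is not a double is everything. -/
theorem eq_top (hM : Closed M) (hne : ∃ x ∈ M, ¬ IsDouble x) : M = leechLattice := by
  classical
  obtain ⟨hstar, hp4, hmod, hbc, hb8, hblt, b0, hb0, hb0m, hb0o⟩ := star_check
  simp only [List.all_eq_true, List.mem_range, beq_iff_eq] at hmod
  have h8 := hM.eight_mem' hne
  have hst : starVec ∈ M := hM.inv xi ⟨_, eight_mem⟩ h8
  have hperm : ∀ (σ : Equiv.Perm GolayPt) (hσ : σ ∈ M24) (x : Vec), x ∈ M → (fun i => x (σ i)) ∈ M :=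
    fun σ hσ x hx => hM.inv (perm σ hσ) ⟨x, hM.le hx⟩ hx
  have hstar' : ∀ p, starVec p = if p = none then 4 else
      if p = pt 0 ∨ p = pt 1 ∨ p = pt 2 then -4 else 0 := by
    intro p
    rw [← getD_lst starVec p, hstar]
    revert p; decide +kernel
  have hpair : ∀ i, i ≠ none → ∀ t ∈ [(1 : ℤ), -1], pairVec i t ∈ M := by
    intro i hi
    obtain ⟨s, hs, hs3⟩ := Finset.exists_subset_card_eq (n := 3)
      (s := (univ : Finset GolayPt) \ {none, i}) (by rw [card_sdiff_of_subset (subset_univ _)]; simp [Ne.symm hi])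
    obtain ⟨a, b, c, hab, hac, hbc, rfl⟩ := Finset.card_eq_three.1 hs3
    simp only [insert_subset_iff, singleton_subset_iff, mem_sdiff, mem_univ, true_and, mem_insert,
      mem_singleton, not_or] at hs
    obtain ⟨⟨ha0, hai⟩, ⟨hb0, hbi⟩, ⟨hc0, hci⟩⟩ := hs
    have emb : ∀ p, p ≠ a → p ≠ b → p ≠ c → Function.Injective ![p, a, b, c] := by
      intro p h1 h2 h3 u v
      fin_cases u <;> fin_cases v <;> simp [h1, h2, h3, h1.symm, h2.symm, h3.symm, hab, hac, hbc,
        Ne.symm hab, Ne.symm hac, Ne.symm hbc]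
    have key : ∀ p, p ≠ a → p ≠ b → p ≠ c →
        (fun q => if q = p then (4 : ℤ) else if q = a ∨ q = b ∨ q = c then -4 else 0) ∈ M := by
      intro p h1 h2 h3
      obtain ⟨σ, hσ, hmap⟩ := Cfsg.Agent.Golay.M24.exists_map_tuple (by norm_num : 4 ≤ 5)
        ⟨_, emb p h1 h2 h3⟩ ⟨![none, pt 0, pt 1, pt 2], by decide +kernel⟩
      have e0 : σ p = none := hmap 0
      have e1 : σ a = pt 0 := hmap 1
      have e2 : σ b = pt 1 := hmap 2
      have e3 : σ c = pt 2 := hmap 3
      convert hperm σ hσ _ hst using 1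
      funext q
      simp only [hstar', ← e1, ← e2, ← e3, σ.injective.eq_iff]
      have e : σ q = none ↔ q = p := by rw [← e0, σ.injective.eq_iff]
      simp only [e]
    have h1 := sub_mem (key i (Ne.symm hai) (Ne.symm hbi) (Ne.symm hci))
      (key none (Ne.symm ha0) (Ne.symm hb0) (Ne.symm hc0))
    have hm : pairVec i (-1) ∈ M := by
      convert h1 using 1
      funext q
      simp only [pairVec, Pi.sub_apply]
      by_cases hq : q = none
      · subst hq; simp [Ne.symm hi, Ne.symm ha0, Ne.symm hb0, Ne.symm hc0]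
      · by_cases hqi : q = i
        · subst hqi; simp [hq, Ne.symm hai, Ne.symm hbi, Ne.symm hci]
        · simp [hq, hqi]
    intro t ht
    simp only [List.mem_cons, List.not_mem_nil, or_false] at ht
    rcases ht with rfl | rfl
    · convert add_mem hm h8 using 1
      funext q
      by_cases hq : q = none <;> simp [pairVec, eightVec, hq] <;> ring
    · exact hm
  have h4 := four_mem_of_pairs M hpair
  have h4' : ∀ x ∈ leechLattice, (∀ p, (4 : ℤ) ∣ x p) → x ∈ M := by
    intro x hx hd
    choose w hw using hd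
    obtain ⟨m, c, y, hm, -, hxs, hs⟩ := mem_lattice_iff.1 hx
    have e : x = fun i => 4 * w i := funext hw
    have hpar := hxs none
    rw [e]
    refine h4 w ?_
    rw [Finset.sum_congr rfl fun i _ => hw i, ← mul_sum] at hs
    rw [hw none] at hpar
    rcases hm with rfl | rfl
    · omega
    · unfold ind at hpar; split_ifs at hpar <;> omega
  have htwo0 : twoInd (maskSet blockOctad) ∈ M := by
    have ho : maskSet blockOctad ∈ octads := mem_octads_iff.2 ⟨by rw [mask_maskSet hblt]; exact hbc,
      by rw [card_maskSet]; exact hb8⟩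
    have hv := hpair (pt 4) (by decide) 1 (by simp)
    have hx := hM.inv xi ⟨_, mem_of_inLat hp4⟩ hv
    rw [xi_smul] at hx
    have hrest := h4' _ (sub_mem (hM.le hx) (twoInd_mem ho).1) fun p => by
      have := hmod (ix p) (ix_lt p)
      rw [pt_ix] at this
      exact Int.dvd_of_emod_eq_zero this
    have := sub_mem hx hrest
    rwa [sub_sub_cancel] at this
  have hb : ∀ b ∈ basisMasks, twoInd (maskSet b) ∈ M := by
    intro b hb
    have hb' : maskSet b ∈ octads := mem_octads_iff.2 (by revert b; decide +kernel)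
    have ho : maskSet blockOctad ∈ octads := mem_octads_iff.2 ⟨by rw [mask_maskSet hblt]; exact hbc,
      by rw [card_maskSet]; exact hb8⟩
    obtain ⟨σ, hσ, e⟩ := Cfsg.Agent.Golay.Trans.octads_transitive hb' ho
    convert hperm σ hσ _ htwo0 using 1
    funext i
    simp only [twoInd, ind, ← e, Cfsg.Agent.Golay.M24.mem_smul_iff]
  let K : AddSubgroup Vec :=
    { carrier := {x | x ∈ leechLattice ∧ x - (x none) • oddVec ∈ M}
      zero_mem' := ⟨zero_mem _, by simp⟩
      add_mem' := fun {x y} hx hy => ⟨add_mem hx.1 hy.1, by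
        have e : x + y - ((x + y) none) • oddVec = (x - x none • oddVec) + (y - y none • oddVec) := by
          rw [Pi.add_apply, add_smul]; abel
        rw [e]; exact add_mem hx.2 hy.2⟩
      neg_mem' := fun {x} hx => ⟨neg_mem hx.1, by
        have e : -x - ((-x) none) • oddVec = -(x - x none • oddVec) := by
          rw [Pi.neg_apply, neg_smul]; abel
        rw [e]; exact neg_mem hx.2⟩ }
  have hev : ∀ k : ℤ, (2 : ℤ) ∣ k → k • oddVec ∈ M := by
    rintro k ⟨j, rfl⟩
    exact hM.dbl _ ⟨j • oddVec, zsmul_mem oddVec_mem.1 j, by rw [mul_smul]; rfl⟩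
  have hK : leechLattice ≤ K := by
    refine le_of_gens K ⟨oddVec_mem.1, ?_⟩ (fun i hi t ht => ⟨?_, ?_⟩) fun b hb' => ⟨?_, ?_⟩
    · have : oddVec - oddVec none • oddVec = (4 : ℤ) • oddVec := by
        rw [show oddVec none = (-3 : ℤ) from rfl]; module
      rw [this]; exact hev 4 (by norm_num)
    · exact hM.le (hpair i hi t ht)
    · refine sub_mem (hpair i hi t ht) (hev _ ?_)
      simp only [pairVec, if_neg (Ne.symm hi), if_true, zero_add]
      omega
    · exact hM.le (hb b hb')
    · exact sub_mem (hb b hb') (hev _ (by simp [twoInd]))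
  have hodd : oddVec ∈ M := by
    set u := xiFun (twoInd (maskSet b0))
    have hu : u ∈ M := hM.inv xi ⟨_, mem_of_inLat hb0m⟩ (hb b0 hb0)
    have h := sub_mem hu (hK (hM.le hu)).2
    rw [sub_sub_cancel] at h
    have h' := sub_mem h (hev (u none - 1) (by omega))
    rwa [sub_smul, one_smul, sub_sub_cancel] at h'
  refine le_antisymm hM.le fun x hx => ?_
  have h := add_mem (hK hx).2 (zsmul_mem hodd (x none))
  rwa [sub_add_cancel] at h

end Cfsg.Agent.LeechAut.Irreducible
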