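import Cfsg.Agent.Lib.LeechAut.Cross
import Cfsg.Agent.Lib.LeechAut.MaxData

/-!
The stabiliser of the standard cross is a maximal subgroup of `Co0`.
-/

set_option autoImplicit false
set_option maxRecDepth 10000

namespace Cfsg.Agent.LeechAut.Maximal

open Cfsg Cfsg.Agent.Golay.Basic Cfsg.Agent.Golay.Design Cfsg.Agent.Golay.Trans Cfsg.Agent.Golay.Cert
  Cfsg.Agent.Leech.Basic Cfsg.Agent.Leech.Index Cfsg.Agent.LeechAut.Gens Cfsg.Agent.LeechAut.Basic
  Cfsg.Agent.LeechAut.Xi Cfsg.Agent.LeechAut.Shapes Cfsg.Agent.LeechAut.ShapeData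
  Cfsg.Agent.LeechAut.Shells Cfsg.Agent.LeechAut.Cross Cfsg.Agent.LeechAut.MaxData Finset
open Cfsg.Agent.Golay.M24 (tabAt)
open scoped Pointwise

theorem fixesCross_one : FixesCross 1 := fun v h => by rwa [one_smul]

theorem fixesCross_mul {g h : Co0} (hg : FixesCross g) (hh : FixesCross h) : FixesCross (g * h) :=
  fun v hv => by rw [mul_smul]; exact hg _ (hh v hv)

theorem mono_of_parts (σ : Equiv.Perm GolayPt) (hσ : σ ∈ M24) (c : Finset GolayPt)
    (hc : c ∈ codeSets) : sign c hc * perm σ hσ = mono (⟨σ⁻¹, M24.inv_mem hσ⟩, ⟨c, hc⟩) := by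
  simp [mono]

theorem fixesCross_perm (σ : Equiv.Perm GolayPt) (hσ : σ ∈ M24) : FixesCross (perm σ hσ) := by
  have e : sign ∅ empty_mem = 1 := ext' fun v => Subtype.ext (funext fun i => by
    rw [one_smul]; simp [Basic.flip])
  have h := mono_fixesCross (⟨σ⁻¹, M24.inv_mem hσ⟩, ⟨∅, empty_mem⟩)
  rwa [← mono_of_parts σ hσ ∅ empty_mem, e, one_mul] at h

theorem fixesCross_sign (c : Finset GolayPt) (hc : c ∈ codeSets) : FixesCross (sign c hc) := by
  have e : perm (1 : Equiv.Perm GolayPt) M24.one_mem = 1 := ext' fun v => Subtype.ext (funext fun i => by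
    rw [one_smul]; simp)
  have h := mono_fixesCross (⟨(1 : Equiv.Perm GolayPt)⁻¹, M24.inv_mem M24.one_mem⟩, ⟨c, hc⟩)
  rwa [← mono_of_parts 1 M24.one_mem c hc, e, mul_one] at h

/-- The stabiliser of the standard cross. -/
def crossStab : Subgroup Co0 where
  carrier := {g | FixesCross g}
  one_mem' := fixesCross_one
  mul_mem' := fixesCross_mul
  inv_mem' {g} hg := by
    haveI := finite_Co0
    have hpow : ∀ n : ℕ, FixesCross (g ^ n) := fun n => by
      induction n with
      | zero => rw [pow_zero]; exact fixesCross_one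
      | succ n ih => rw [pow_succ]; exact fixesCross_mul ih hg
    have e : g⁻¹ = g ^ (orderOf g - 1) := by
      refine inv_eq_of_mul_eq_one_right ?_
      rw [← pow_succ', Nat.sub_add_cancel (orderOf_pos g), pow_orderOf_eq_one]
    show FixesCross g⁻¹
    rw [e]; exact hpow _

theorem mem_crossStab {g : Co0} : g ∈ crossStab ↔ FixesCross g := Iff.rfl

theorem perm_mem_crossStab (σ : Equiv.Perm GolayPt) (hσ : σ ∈ M24) : perm σ hσ ∈ crossStab :=
  fixesCross_perm σ hσ

theorem sign_mem_crossStab (c : Finset GolayPt) (hc : c ∈ codeSets) : sign c hc ∈ crossStab :=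
  fixesCross_sign c hc

theorem mem_crossStab_of_fix {g : Co0} (h : g • frame none = frame none) : g ∈ crossStab :=
  fixesCross_of_fix h

theorem to_form {v : leechLattice} {σ : Equiv.Perm GolayPt} (hσ : σ ∈ M24) {A : Vec}
    (hA : (fun p => |(v : Vec) (σ p)|) = A) (hmem : lst A ∈ forms table64) :
    ∃ σ ∈ M24, lst (fun p => |(v : Vec) (σ p)|) ∈ forms table64 :=
  ⟨σ, hσ, by rw [hA]; exact hmem⟩

theorem form64 (v : leechLattice) (h : sqNorm (v : Vec) = 64) :
    ∃ σ ∈ M24, lst (fun p => |(v : Vec) (σ p)|) ∈ forms table64 := by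
  classical
  have hb := abs_le_eight h le_rfl
  obtain ⟨hc1, hc2⟩ := counts h le_rfl
  have h9 := no_nine hb
  rcases Int.emod_two_eq_zero_or_one ((v : Vec) none) with he | he
  · obtain ⟨hc, n1, n3, n5, n7, hpar⟩ := even_class v.2 hb he
    have hw := weights_supports hc
    have hcu := union_card (v : Vec)
    have hcases : ((atVal (v : Vec) 8).card = 1 ∧ (atVal (v : Vec) 2).card = 0 ∧
          (atVal (v : Vec) 4).card = 0 ∧ (atVal (v : Vec) 6).card = 0) ∨
        ((atVal (v : Vec) 4).card = 4 ∧ (atVal (v : Vec) 2).card = 0 ∧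
          (atVal (v : Vec) 6).card = 0 ∧ (atVal (v : Vec) 8).card = 0) ∨
        ((atVal (v : Vec) 2).card = 16 ∧ (atVal (v : Vec) 4).card = 0 ∧
          (atVal (v : Vec) 6).card = 0 ∧ (atVal (v : Vec) 8).card = 0) ∨
        ((atVal (v : Vec) 2).card = 12 ∧ (atVal (v : Vec) 4).card = 1 ∧
          (atVal (v : Vec) 6).card = 0 ∧ (atVal (v : Vec) 8).card = 0) ∨
        ((atVal (v : Vec) 2).card = 8 ∧ (atVal (v : Vec) 4).card = 2 ∧
          (atVal (v : Vec) 6).card = 0 ∧ (atVal (v : Vec) 8).card = 0) ∨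
        ((atVal (v : Vec) 2).card = 7 ∧ (atVal (v : Vec) 6).card = 1 ∧
          (atVal (v : Vec) 4).card = 0 ∧ (atVal (v : Vec) 8).card = 0) := by
      rw [n1, n3, n5, n7] at hc2
      rw [hcu] at hw
      exact shapes64 _ _ _ _ (by omega) hw
    simp only [Finset.card_eq_zero] at n1 n3 n5 n7
    have hodd : ∀ k ∈ [(1 : ℤ), 3, 5, 7], atVal (v : Vec) k = ∅ := by simp [n1, n3, n5, n7]
    rcases hcases with ⟨h8, h2, h4, h6⟩ | ⟨h4, h2, h6, h8⟩ | ⟨h2, h4, h6, h8⟩ | ⟨h2, h4, h6, h8⟩ |
      ⟨h2, h4, h6, h8⟩ | ⟨h2, h6, h4, h8⟩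
    · obtain ⟨σ, hσ, e⟩ := canon_points (x := (v : Vec)) (v := 8) (w := 9) (b := 0) (stdSet 1) ∅
        (disjoint_empty_right _) (by decide) (by norm_num) (by rw [h8]; decide) (by rw [h9]; rfl)
        (fun p hp _ => rest_even hb hodd (by simp [Finset.card_eq_zero.1 h2]) (by simp [Finset.card_eq_zero.1 h4])
          (by simp [Finset.card_eq_zero.1 h6]) hp)
      exact to_form hσ e point_forms.2.2.2.2.1
    · obtain ⟨σ, hσ, e⟩ := canon_points (x := (v : Vec)) (v := 4) (w := 9) (b := 0) (stdSet 4) ∅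
        (disjoint_empty_right _) (by decide) (by norm_num) (by rw [h4]; decide) (by rw [h9]; rfl)
        (fun p hp _ => rest_even hb hodd (by simp [Finset.card_eq_zero.1 h2]) hp
          (by simp [Finset.card_eq_zero.1 h6]) (by simp [Finset.card_eq_zero.1 h8]))
      exact to_form hσ e point_forms.2.2.2.2.2.1
    · simp only [Finset.card_eq_zero] at h4 h6 h8
      have hc' := compl_mem hc
      rw [h6, union_empty] at hc'
      have ho : (atVal (v : Vec) 2)ᶜ ∈ octads := ⟨hc', by
        rw [card_compl, h2, show Fintype.card GolayPt = 24 by decide]⟩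
      obtain ⟨σ, hσ, e⟩ := octads_transitive (o := maskSet 5279) (mem_octads_iff.2 (by decide +kernel)) ho
      have hiff : ∀ p, (5279 : ℕ).testBit (ix p) = true ↔ σ p ∉ atVal (v : Vec) 2 := fun p => by
        rw [← mem_maskSet, ← Cfsg.Agent.Golay.M24.mem_smul_iff σ, e, mem_compl]
      refine to_form hσ (funext fun p => ?_) mask_forms.2.2
      by_cases hp : (5279 : ℕ).testBit (ix p) = true
      · rw [if_pos hp]
        exact rest_even hb hodd ((hiff p).1 hp) (by simp [h4]) (by simp [h6]) (by simp [h8])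
      · rw [if_neg hp]
        exact mem_atVal.1 (by_contra fun h => hp ((hiff p).2 h))
    · obtain ⟨σ, hσ, hiff⟩ := canon_code (m := 165759) hc (Or.inr ⟨by omega, rfl⟩)
      obtain ⟨a, ha⟩ := Finset.card_eq_one.1 h4
      simp only [Finset.card_eq_zero] at h6 h8
      have hav : |(v : Vec) a| = 4 := mem_atVal.1 (ha ▸ mem_singleton_self a)
      have e := code_twos hb hodd hiff (σ⁻¹ a) (σ⁻¹ a) 4 4 (by simp [h6])
        (fun z hz => by rw [ha, mem_singleton] at hz; simp [hz]) h8 (by simpa using hav) (by simpa using hav)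
      refine to_form hσ e (dodecad_point_forms _ ?_)
      by_contra hp
      have := (hiff (σ⁻¹ a)).1 (by simpa using hp)
      rw [h6, union_empty, mem_atVal] at this
      simp at this
      omega
    · obtain ⟨σ, hσ, hiff⟩ := canon_code (m := 5279) hc (Or.inl ⟨by omega, rfl⟩)
      obtain ⟨a, b, hab, ha⟩ := Finset.card_eq_two.1 h4
      simp only [Finset.card_eq_zero] at h6 h8
      have hav : |(v : Vec) a| = 4 := mem_atVal.1 (ha ▸ mem_insert_self a _)
      have hbv : |(v : Vec) b| = 4 := mem_atVal.1 (ha ▸ mem_insert_of_mem (mem_singleton_self b))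
      have e := code_twos hb hodd hiff (σ⁻¹ a) (σ⁻¹ b) 4 4 (by simp [h6])
        (fun z hz => by rw [ha, mem_insert, mem_singleton] at hz; simpa using hz) h8
        (by simpa using hav) (by simpa using hbv)
      have hout : ∀ c, |(v : Vec) c| = 4 → (5279 : ℕ).testBit (ix (σ⁻¹ c)) = false := by
        intro c hc4
        by_contra hp
        have := (hiff (σ⁻¹ c)).1 (by simpa using hp)
        rw [h6, union_empty, mem_atVal] at this
        simp at this
        omega
      exact to_form hσ e (octad_pair_forms _ (hout a hav) _ (hout b hbv)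
        fun e => hab (σ⁻¹.injective e))
    · obtain ⟨σ, hσ, hiff⟩ := canon_code (m := 5279) hc (Or.inl ⟨by omega, rfl⟩)
      obtain ⟨a, ha⟩ := Finset.card_eq_one.1 h6
      simp only [Finset.card_eq_zero] at h4 h8
      have hav : |(v : Vec) a| = 6 := mem_atVal.1 (ha ▸ mem_singleton_self a)
      have e := code_twos hb hodd hiff (σ⁻¹ a) (σ⁻¹ a) 6 6
        (fun z hz => by rw [ha, mem_singleton] at hz; simp [hz]) (by simp [h4]) h8
        (by simpa using hav) (by simpa using hav)
      refine to_form hσ e (octad_six_forms _ ((hiff _).2 ?_))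
      exact mem_union_right _ (mem_atVal.2 (by simpa using hav))
  · obtain ⟨n0, n2, n4, n6, n8⟩ := odd_class v.2 he
    have hcases : ((atVal (v : Vec) 3).card = 5 ∧ (atVal (v : Vec) 5).card = 0 ∧ (atVal (v : Vec) 7).card = 0) ∨
        ((atVal (v : Vec) 5).card = 1 ∧ (atVal (v : Vec) 3).card = 2 ∧ (atVal (v : Vec) 7).card = 0) := by
      omega
    simp only [Finset.card_eq_zero] at n0 n2 n4 n6 n8
    have hev : ∀ k ∈ [(0 : ℤ), 2, 4, 6, 8], atVal (v : Vec) k = ∅ := by simp [n0, n2, n4, n6, n8]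
    rcases hcases with ⟨h3, h5, h7⟩ | ⟨h5, h3, h7⟩
    · obtain ⟨σ, hσ, e⟩ := canon_points (x := (v : Vec)) (v := 3) (w := 9) (b := 1) (stdSet 5) ∅
        (disjoint_empty_right _) (by decide) (by norm_num) (by rw [h3]; decide) (by rw [h9]; rfl)
        (fun p hp _ => rest_odd hb hev hp (by simp [Finset.card_eq_zero.1 h5]) (by simp [Finset.card_eq_zero.1 h7]))
      exact to_form hσ e point_forms.2.2.2.2.2.2.1
    · obtain ⟨σ, hσ, e⟩ := canon_points (x := (v : Vec)) (v := 5) (w := 3) (b := 1) (stdSet 1) {pt 0, pt 1}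
        (by decide +kernel) (by decide) (by norm_num) (by rw [h5]; decide) (by rw [h3]; decide)
        (fun p hp hq => rest_odd hb hev hq hp (by simp [Finset.card_eq_zero.1 h7]))
      exact to_form hσ e point_forms.2.2.2.2.2.2.2

theorem start_of_form {t : List ℤ} {e : Entry} (h : entryOK t e = true) {v : leechLattice}
    (hv : ∀ i < 24, |(v : Vec) (pt i)| = (e.1.getD i 0 : ℤ)) :
    ∃ n ∈ crossStab, ∃ s ∈ (if e.1.getD 0 0 % 2 = 1 then [0] else subs e.2.1),
      lst ((n • v : leechLattice) : Vec) = startL e.1 s := by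
  classical
  have h' := h
  simp only [entryOK, Bool.and_eq_true, List.all_eq_true, List.mem_range, beq_iff_eq, Bool.or_eq_true,
    List.contains_eq_mem, decide_eq_true_eq, List.any_eq_true] at h'
  obtain ⟨⟨⟨hred, hcov⟩, -⟩, -⟩ := h'
  by_cases hodd : e.1.getD 0 0 % 2 = 1
  · obtain ⟨m, c, y, hm, hc, hx, -⟩ := mem_lattice_iff.1 v.2
    have hm1 : m = 1 := by
      have h1 := hv 0 (by norm_num)
      have h2 := hx (pt 0)
      rcases abs_cases ((v : Vec) (pt 0)) with ⟨e1, -⟩ | ⟨e1, -⟩ <;>
        (rw [e1] at h1; unfold ind at h2; split_ifs at h2 <;> omega)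
    subst hm1
    have hsv : lst ((sign c hc • v : leechLattice) : Vec) = startL e.1 0 := by
      refine List.map_congr_left fun i hi => ?_
      have hi' := List.mem_range.1 hi
      have ha := hv i hi'
      have hpar := (hcov i hi').1
      have h2 := hx (pt i)
      rw [sign_smul]
      simp only [Basic.flip, ind] at h2 ⊢
      have : e.1.getD i 0 % 2 = 1 := by omega
      rw [if_pos this]
      rcases abs_cases ((v : Vec) (pt i)) with ⟨e1, -⟩ | ⟨e1, -⟩ <;>
        (rw [e1] at ha; by_cases hc' : pt i ∈ c <;> by_cases h4 : e.1.getD i 0 % 4 = 1 <;>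
          simp only [hc', h4, if_true, if_false] at h2 ⊢ <;> omega)
    exact ⟨_, sign_mem_crossStab c hc, 0, by rw [if_pos hodd]; exact List.mem_singleton.2 rfl, hsv⟩
  · set s := mask (univ.filter fun p => (v : Vec) p < 0)
    obtain ⟨⟨hd, hdlt⟩, hpiv⟩ := red_spec e.2.2.1 s hred
    set s2 := Nat.ofBits fun i : Fin 24 => (red e.2.2.1 s).testBit i.1 && e.1.getD i.1 0 != 0
    have hs2 : s2 ∈ subs e.2.1 := by
      refine subs_mem _ _ fun j hj => ?_
      have hj24 : j < 24 := by
        by_contra hc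
        rw [Nat.testBit_ofBits_ge _ _ (Nat.le_of_not_lt hc)] at hj
        cases hj
      rw [Nat.testBit_ofBits_lt _ _ hj24] at hj
      simp only [Bool.and_eq_true, bne_iff_ne] at hj
      rcases (hcov j hj24).2 with ((h1 | h1) | h1) | ⟨q, hq, rfl⟩
      · exact absurd h1 hodd
      · exact absurd h1 hj.2
      · exact h1
      · rw [hpiv q hq] at hj; exact absurd hj.1 (by simp)
    have hdc : maskSet (s ^^^ red e.2.2.1 s) ∈ codeSets :=
      mem_supports_iff.2 (by rw [mask_maskSet hdlt]; exact hd)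
    have hsv : lst ((sign _ hdc • v : leechLattice) : Vec) = startL e.1 s2 := by
      refine List.map_congr_left fun i hi => ?_
      have hi' := List.mem_range.1 hi
      have ha := hv i hi'
      have hpar := (hcov i hi').1
      rw [sign_smul]
      simp only [Basic.flip, mem_maskSet, ix_pt hi']
      have : ¬ e.1.getD i 0 % 2 = 1 := by omega
      rw [if_neg this, show s2.testBit i = ((red e.2.2.1 s).testBit i && e.1.getD i 0 != 0) from
        Nat.testBit_ofBits_lt _ _ hi']
      have hs : s.testBit i = decide ((v : Vec) (pt i) < 0) := by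
        rw [← ix_pt hi', testBit_mask]; simp [ix_pt hi']
      rw [Nat.testBit_xor, hs]
      generalize e.1.getD i 0 = a at *
      cases hr : (red e.2.2.1 s).testBit i <;>
        rcases abs_cases ((v : Vec) (pt i)) with ⟨e1, e2⟩ | ⟨e1, e2⟩ <;>
        (rw [e1] at ha; by_cases h0 : a = 0 <;>
          by_cases hneg : (v : Vec) (pt i) < 0 <;> simp [h0, hneg] <;> omega)
    exact ⟨_, sign_mem_crossStab _ hdc, s2, by rw [if_neg hodd]; exact hs2, hsv⟩


/-- The element of a step. -/
noncomputable def opG (o : ℕ × ℕ) : Co0 :=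
  if o.1 = 0 then (if h : tabOK o.2 = true then perm (tabPerm o.2) (tabPerm_mem h) else 1)
  else if o.1 = 1 then
    (if h : isCode o.2 = true ∧ o.2 < 2 ^ 24 then
      sign (maskSet o.2) (mem_supports_iff.2 (by rw [mask_maskSet h.2]; exact h.1)) else 1)
  else xi

/-- The element of a list of steps. -/
noncomputable def wordG : List (ℕ × ℕ) → Co0
  | [] => 1
  | o :: os => wordG os * opG o

theorem opG_spec {o : ℕ × ℕ} (h : opOK o = true) (v : leechLattice) :
    lst ((opG o • v : leechLattice) : Vec) = stepL o (lst (v : Vec)) := by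
  unfold opOK at h
  unfold opG stepL
  split_ifs at h ⊢ with h0 h1 h2
  · refine List.map_congr_left fun i hi => ?_
    rw [perm_smul, ← getD_lst (v : Vec) (tabPerm o.2 (pt i)), isTab_tabPerm h,
      ix_pt (List.mem_range.1 hi)]
  · refine List.map_congr_left fun i hi => ?_
    have hi' := List.mem_range.1 hi
    have e : (lst (v : Vec)).getD i 0 = (v : Vec) (pt i) := by
      rw [← getD_lst (v : Vec) (pt i), ix_pt hi']
    rw [sign_smul, e]
    simp only [Basic.flip, mem_maskSet, ix_pt hi']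
  · simp only [Bool.and_eq_true, decide_eq_true_eq] at h
    exact absurd h h2
  · rw [xi_smul, vec_lst]

theorem wordG_spec : ∀ (os : List (ℕ × ℕ)), os.all opOK = true → ∀ v : leechLattice,
    lst ((wordG os • v : leechLattice) : Vec) = runL os (lst (v : Vec))
  | [], _, v => by rw [wordG, one_smul]; rfl
  | o :: os, h, v => by
    simp only [List.all_cons, Bool.and_eq_true] at h
    rw [wordG, mul_smul, wordG_spec os h.2, opG_spec h.1]
    rfl

theorem opG_mem {o : ℕ × ℕ} (h : o.1 < 2) : opG o ∈ crossStab := by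
  unfold opG
  split_ifs
  · exact perm_mem_crossStab _ _
  · exact one_mem _
  · exact sign_mem_crossStab _ _
  · exact one_mem _
  · omega

theorem wordG_mem : ∀ {os : List (ℕ × ℕ)}, (os.all fun o => decide (o.1 < 2)) = true →
    wordG os ∈ crossStab
  | [], _ => one_mem _
  | o :: os, h => by
    simp only [List.all_cons, Bool.and_eq_true, decide_eq_true_eq] at h
    exact mul_mem (wordG_mem h.2) (opG_mem h.1)

theorem wordG_append : ∀ a b : List (ℕ × ℕ), wordG (a ++ b) = wordG b * wordG a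
  | [], b => by simp [wordG]
  | o :: a, b => by rw [List.cons_append, wordG, wordG_append a b, wordG, mul_assoc]

theorem wordG_mem_of {K : Subgroup Co0} (hN : crossStab ≤ K) (hxi : xi ∈ K) :
    ∀ os : List (ℕ × ℕ), wordG os ∈ K
  | [] => one_mem _
  | o :: os => by
    refine mul_mem (wordG_mem_of hN hxi os) ?_
    rcases Nat.lt_or_ge o.1 2 with h | h
    · exact hN (opG_mem h)
    · unfold opG; rw [if_neg (by omega), if_neg (by omega)]; exact hxi

/-- The number of sextet steps. -/
def nxi (os : List (ℕ × ℕ)) : ℕ := os.countP fun o => decide (2 ≤ o.1)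

theorem xi_mem_of_word {K : Subgroup Co0} (hN : crossStab ≤ K) :
    ∀ {os : List (ℕ × ℕ)}, nxi os = 1 → wordG os ∈ K → xi ∈ K
  | [], h, _ => by simp [nxi] at h
  | o :: os, h, hmem => by
    rw [wordG] at hmem
    by_cases ho : 2 ≤ o.1
    · have h0 : (os.all fun p => decide (p.1 < 2)) = true := by
        rw [nxi, List.countP_cons_of_pos (by simp [ho]), Nat.succ_inj, List.countP_eq_zero] at h
        exact List.all_eq_true.2 fun p hp => by simpa using h p hp
      have := mul_mem (inv_mem (hN (wordG_mem h0))) hmem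
      rwa [inv_mul_cancel_left, opG, if_neg (by omega), if_neg (by omega)] at this
    · refine xi_mem_of_word hN (os := os) ?_ ?_
      · rwa [nxi, List.countP_cons_of_neg (by simp [ho])] at h
      · have := mul_mem hmem (inv_mem (hN (opG_mem (o := o) (by omega))))
        rwa [mul_inv_cancel_right] at this

/-- The checks for one pattern of one normal form. -/
def patOK (a : List ℕ) (s : ℕ) (w x : List (ℕ × ℕ)) : Bool :=
  if w.isEmpty then !inLat (vec (startL a s))
  else w.all opOK && (runL w (startL a s) == lst target64) &&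
    if nxi w ≤ 1 then true
    else x.all opOK && (x.all fun o => decide (o.1 < 2)) && decide (3 ≤ x.length) &&
      ((runL ((x.take 2 ++ w) ++ x.drop 2) (startL a s)).map fun z => (z.natAbs : ℤ)) ==
        e64_1.1.map fun n : ℕ => (n : ℤ)

/-- The checks for all normal forms. -/
def maxOK : Bool :=
  table64.length == maxCert.length && (table64.zip maxCert).all fun ex =>
    redOK ex.1.2.2.1 &&
    ((if ex.1.1.getD 0 0 % 2 = 1 then [0] else subs ex.1.2.1).length == ex.1.2.2.2.length) &&
    (ex.1.2.2.2.length == ex.2.length) &&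
    ((if ex.1.1.getD 0 0 % 2 = 1 then [0] else subs ex.1.2.1).zip (ex.1.2.2.2.zip ex.2)).all
      fun swx => patOK ex.1.1 swx.1 swx.2.1 swx.2.2

theorem maxOK_true : maxOK = true := by decide +kernel

theorem e1_words : ∀ w ∈ e64_1.2.2.2, w = [] ∨ nxi w = 1 := by decide +kernel

theorem e1_mem : e64_1 ∈ table64 := by
  simp [table64]

theorem zip_exists {α β : Type*} {l : List α} {l' : List β} (h : l.length = l'.length) {a : α}
    (ha : a ∈ l) : ∃ b, (a, b) ∈ l.zip l' := by
  obtain ⟨k, hk, rfl⟩ := List.getElem_of_mem ha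
  exact ⟨l'[k]'(h ▸ hk), List.mem_iff_getElem.2 ⟨k, by simp [List.length_zip]; omega, by simp⟩⟩

/-- Normalising a vector of squared length 64: a word taking it to `8 e∞`. -/
theorem exists_word {v : leechLattice} {e : Entry} (he : e ∈ table64)
    (hv : ∀ i < 24, |(v : Vec) (pt i)| = (e.1.getD i 0 : ℤ)) :
    ∃ n ∈ crossStab, ∃ w ∈ e.2.2.2, ∃ s : ℕ, ∃ x : List (ℕ × ℕ),
      lst ((n • v : leechLattice) : Vec) = startL e.1 s ∧ w ≠ [] ∧ w.all opOK = true ∧
      patOK e.1 s w x = true ∧ (wordG w * n) • v = frame none := by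
  have hok := maxOK_true
  simp only [maxOK, Bool.and_eq_true, beq_iff_eq, List.all_eq_true] at hok
  obtain ⟨x', hex⟩ := zip_exists hok.1 he
  obtain ⟨⟨⟨hred, hl1⟩, hl2⟩, hall⟩ := hok.2 _ hex
  obtain ⟨n, hn, s, hs, hstart⟩ := start_of_form (t := lst target64)
    (List.all_eq_true.1 table64_ok e he) hv
  obtain ⟨⟨w, x⟩, hsw⟩ := zip_exists (l' := e.2.2.2.zip x')
    (by simp only at hl1 hl2; rw [hl1, List.length_zip]; omega) hs
  have hp := hall _ hsw
  have hw : w ∈ e.2.2.2 := (List.of_mem_zip (List.of_mem_zip hsw).2).1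
  simp only at hp
  have hne : w ≠ [] := fun h0 => by
    rw [patOK, h0] at hp
    simp only [List.isEmpty_nil, if_true] at hp
    rw [← hstart, vec_lst, inLat_of_mem (n • v).2] at hp
    simp at hp
  have hp' := hp
  rw [patOK, if_neg (by simpa using hne)] at hp'
  simp only [Bool.and_eq_true, beq_iff_eq] at hp'
  refine ⟨n, hn, w, hw, s, x, hstart, hne, hp'.1.1, hp, Subtype.ext (lst_injective ?_)⟩
  rw [mul_smul, wordG_spec w hp'.1.1, hstart, hp'.1.2, frame_coe]
  congr 1
  funext p
  by_cases h : p = none <;> simp [target64, h]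

theorem forms_get {v : leechLattice} {σ : Equiv.Perm GolayPt} {hσ : σ ∈ M24} {e : Entry}
    (heq : (e.1.map fun a : ℕ => (a : ℤ)) = lst fun p => |(v : Vec) (σ p)|) :
    ∀ i < 24, |((perm σ hσ • v : leechLattice) : Vec) (pt i)| = (e.1.getD i 0 : ℤ) := by
  intro i hi
  have h1 := getD_lst (fun p => |(v : Vec) (σ p)|) (pt i)
  rw [← heq, ix_pt hi] at h1
  rw [perm_smul, ← h1]
  exact List.getD_map e.1 0 fun a : ℕ => (a : ℤ)

theorem exists_word' (g : Co0) :
    ∃ n ∈ crossStab, ∃ e ∈ table64, ∃ w ∈ e.2.2.2, ∃ s : ℕ, ∃ x : List (ℕ × ℕ),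
      lst ((n • g • frame none : leechLattice) : Vec) = startL e.1 s ∧ w ≠ [] ∧ w.all opOK = true ∧
      patOK e.1 s w x = true ∧ (wordG w * n * g) • frame none = frame none := by
  obtain ⟨σ, hσ, hmem⟩ := form64 (g • frame none) ((sqNorm_smul g _).trans (sqNorm_frame none))
  obtain ⟨e, he, heq⟩ := List.mem_map.1 hmem
  obtain ⟨n, hn, w, hw, s, x, h1, h2, h3, h4, h5⟩ := exists_word he (forms_get (hσ := hσ) heq)
  refine ⟨n * perm σ hσ, mul_mem hn (perm_mem_crossStab σ hσ), e, he, w, hw, s, x, ?_, h2, h3, h4, ?_⟩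
  · rw [mul_smul]; exact h1
  · rw [mul_smul, ← mul_assoc, mul_smul]; exact h5

theorem eq_top_of_xi {K : Subgroup Co0} (hN : crossStab ≤ K) (hxi : xi ∈ K) : K = ⊤ := by
  refine (Subgroup.eq_top_iff' K).2 fun g => ?_
  obtain ⟨n, hn, e, -, w, -, s, x, -, -, -, -, h5⟩ := exists_word' g
  have := mul_mem (inv_mem (mul_mem (wordG_mem_of hN hxi w) (hN hn))) (hN (mem_crossStab_of_fix h5))
  rwa [inv_mul_cancel_left] at this

theorem e1_form_of {g : Co0} {y : List ℤ} (hy : lst ((g • frame none : leechLattice) : Vec) = y)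
    (hform : (y.map fun z => (z.natAbs : ℤ)) = e64_1.1.map fun n : ℕ => (n : ℤ)) :
    ∀ i < 24, |((g • frame none : leechLattice) : Vec) (pt i)| = (e64_1.1.getD i 0 : ℤ) := by
  intro i hi
  have h1 := congrArg (fun l : List ℤ => l.getD i 0) hform
  simp only [← hy, lst, List.map_map] at h1
  rw [List.getD_eq_getElem _ _ (by simpa using hi), List.getElem_map, List.getElem_range] at h1
  rw [Int.abs_eq_natAbs]
  exact h1.trans (List.getD_map e64_1.1 0 fun a : ℕ => (a : ℤ))

theorem xi_mem_of_moved {K : Subgroup Co0} (hN : crossStab ≤ K) {g : Co0} (hg : g ∈ K)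
    (hmove : g ∉ crossStab) : xi ∈ K := by
  obtain ⟨n, hn, e, he, w, hw, s, x, hstart, hne, hop, hpat, hfix⟩ := exists_word' g
  have hw' : wordG w ∈ K := by
    have := mul_mem (hN (mem_crossStab_of_fix hfix)) (inv_mem (mul_mem (hN hn) hg))
    rwa [show wordG w * n * g * (n * g)⁻¹ = wordG w by group] at this
  have hpos : nxi w ≠ 0 := fun h0 => hmove (by
    have h0' : (w.all fun p => decide (p.1 < 2)) = true := by
      rw [nxi, List.countP_eq_zero] at h0
      exact List.all_eq_true.2 fun p hp => by simpa using h0 p hp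
    have := mul_mem (inv_mem (mul_mem (wordG_mem h0') hn)) (mem_crossStab_of_fix hfix)
    rwa [inv_mul_cancel_left] at this)
  by_cases h1 : nxi w ≤ 1
  · exact xi_mem_of_word hN (show nxi w = 1 by omega) hw'
  rw [patOK, if_neg (by simpa using hne), if_neg h1] at hpat
  simp only [Bool.and_eq_true, beq_iff_eq, decide_eq_true_eq] at hpat
  obtain ⟨-, ⟨⟨hxop, hx01⟩, -⟩, hform⟩ := hpat
  have hxt : ((x.take 2).all fun o => decide (o.1 < 2)) = true :=
    List.all_eq_true.2 fun o ho => List.all_eq_true.1 hx01 o (List.mem_of_mem_take ho)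
  have hxd : ((x.drop 2).all fun o => decide (o.1 < 2)) = true :=
    List.all_eq_true.2 fun o ho => List.all_eq_true.1 hx01 o (List.mem_of_mem_drop ho)
  set h := wordG ((x.take 2 ++ w) ++ x.drop 2) * n * g with hh
  have hhK : h ∈ K := by
    rw [hh, wordG_append, wordG_append]
    exact mul_mem (mul_mem (mul_mem (hN (wordG_mem hxd)) (mul_mem hw' (hN (wordG_mem hxt)))) (hN hn)) hg
  have hrun : lst ((h • frame none : leechLattice) : Vec) =
      runL ((x.take 2 ++ w) ++ x.drop 2) (startL e.1 s) := by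
    rw [hh, mul_smul, mul_smul, wordG_spec _ ?_, hstart]
    simp only [List.all_append, Bool.and_eq_true]
    exact ⟨⟨List.all_eq_true.2 fun o ho => List.all_eq_true.1 hxop o (List.mem_of_mem_take ho), hop⟩,
      List.all_eq_true.2 fun o ho => List.all_eq_true.1 hxop o (List.mem_of_mem_drop ho)⟩
  obtain ⟨n', hn', w', hw1, s', x', -, hne', -, -, hfix'⟩ :=
    exists_word (v := h • frame none) e1_mem (e1_form_of hrun hform)
  rw [← mul_smul] at hfix'
  refine xi_mem_of_word hN ((e1_words w' hw1).resolve_left hne') ?_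
  have := mul_mem (hN (mem_crossStab_of_fix hfix')) (inv_mem (mul_mem (hN hn') hhK))
  rwa [show wordG w' * n' * h * (n' * h)⁻¹ = wordG w' by group] at this

theorem xi_notMem : xi ∉ crossStab := by
  intro h
  obtain ⟨i, s, hs, hv⟩ := h (frame none) ⟨none, 8, Or.inl rfl, rfl⟩
  rw [xi_smul, frame_coe] at hv
  have h2 : ∀ i : GolayPt, ∃ p, p ≠ i ∧ xiFun (Pi.single none 8) p ≠ 0 := by decide +kernel
  obtain ⟨p, hp, hp0⟩ := h2 i
  rw [hv, Pi.single_eq_of_ne hp] at hp0
  exact hp0 rfl

theorem isCoatom_crossStab : IsCoatom crossStab := by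
  refine ⟨fun h => xi_notMem (h ▸ Subgroup.mem_top _), fun K hK => ?_⟩
  obtain ⟨g, hg, hg'⟩ := SetLike.exists_of_lt hK
  exact eq_top_of_xi hK.le (xi_mem_of_moved hK.le hg hg')

end Cfsg.Agent.LeechAut.Maximal
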