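import Cfsg.Agent.Lib.LeechAut.Cross

/-!
Pairs of short lattice vectors: any two have a common orthogonal vector of squared length 32, which
brings them to a normal form under `Co0`; transitivity on pairs of given inner product follows.
-/

set_option autoImplicit false
set_option maxRecDepth 10000

namespace Cfsg.Agent.LeechAut.Pairs

open Cfsg Cfsg.Agent.Golay.Basic Cfsg.Agent.Golay.Design Cfsg.Agent.Golay.Trans Cfsg.Agent.Leech.Basic
  Cfsg.Agent.Leech.Index Cfsg.Agent.LeechAut.Gens Cfsg.Agent.LeechAut.Basic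
  Cfsg.Agent.LeechAut.Shapes Cfsg.Agent.LeechAut.ShapeData
  Cfsg.Agent.LeechAut.Shells Cfsg.Agent.LeechAut.Cross Finset
open scoped Pointwise symmDiff

/-- `4` at two points, as a vector. -/
def stdVec : Vec := fun p => if p = none then 4 else if p = pt 0 then 4 else 0

/-- `(4, -4)` at two points, as a vector. -/
def orthVec : Vec := fun p => if p = none then 4 else if p = pt 0 then -4 else 0

/-- The standard vector of squared length 32. -/
def v0 : leechLattice := ⟨stdVec, mem_of_inLat (by decide +kernel)⟩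

/-- The standard orthogonal vector. -/
def w0 : leechLattice := ⟨orthVec, mem_of_inLat (by decide +kernel)⟩

theorem sqNorm_v0 : sqNorm (v0 : Vec) = 32 := by
  show sqNorm stdVec = 32
  decide +kernel

theorem pt0_ne_none : pt 0 ≠ none := by decide

theorem sum_two (a b : ℤ) (x : Vec) :
    ∑ p, (if p = none then a else if p = pt 0 then b else 0) * x p = a * x none + b * x (pt 0) := by
  classical
  rw [← Finset.sum_subset (subset_univ ({none, pt 0} : Finset GolayPt)) (fun p _ hp => by
    simp only [mem_insert, mem_singleton, not_or] at hp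
    rw [if_neg hp.1, if_neg hp.2, zero_mul]), Finset.sum_pair pt0_ne_none.symm]
  simp [pt0_ne_none]

theorem dot_v0 (x : Vec) : dotInt (v0 : Vec) x = 4 * x none + 4 * x (pt 0) := sum_two 4 4 x

theorem dot_w0 (x : Vec) : dotInt (w0 : Vec) x = 4 * x none + -4 * x (pt 0) := sum_two 4 (-4) x

theorem dot_comm (x y : Vec) : dotInt x y = dotInt y x := sum_congr rfl fun i _ => mul_comm _ _

theorem dot_frame (x : Vec) : dotInt x ((frame none : leechLattice) : Vec) = 8 * x none := by
  rw [dotInt, Finset.sum_eq_single none (fun b _ hb => by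
    rw [frame_coe, Pi.single_eq_of_ne hb, mul_zero]) (by simp), frame_coe, Pi.single_eq_same, mul_comm]

theorem add_eq : v0 + w0 = frame none := by
  apply Subtype.ext
  funext p
  show stdVec p + orthVec p = (Pi.single none 8 : Vec) p
  revert p
  decide +kernel

/-! ### Code words with given trace -/

theorem trace_base {B q : ℕ} {E : List (ℕ × ℕ)} (hok : redOK E = true)
    (hB : maskSet B ∈ codeSets) (hcov : ∀ i < 24, B.testBit i = true → i = q ∨ ∃ e ∈ E, e.1 = i)
    {S : Finset GolayPt} (hS : S ⊆ maskSet B) (hev : 2 ∣ S.card) :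
    ∃ c ∈ codeSets, c ∩ maskSet B = S := by
  obtain ⟨⟨hd, hdlt⟩, hpiv⟩ := red_spec E (mask S) hok
  set c := maskSet (mask S ^^^ red E (mask S)) with hcdef
  have hc : c ∈ codeSets := mem_supports_iff.2 (by rw [hcdef, mask_maskSet hdlt]; exact hd)
  refine ⟨c, hc, ?_⟩
  have hsub : (c ∩ maskSet B) ∆ S ⊆ {pt q} := by
    intro p hp
    rw [mem_singleton]
    by_contra hne
    have hpB : p ∈ maskSet B := by
      rcases Finset.mem_symmDiff.1 hp with ⟨h, -⟩ | ⟨h, -⟩
      · exact (mem_inter.1 h).2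
      · exact hS h
    obtain ⟨e, he, hei⟩ := (hcov (ix p) (ix_lt p) (mem_maskSet.1 hpB)).resolve_left fun e =>
      hne (by rw [← e, pt_ix])
    have h0 := hpiv e he
    rw [hei] at h0
    have hiff : p ∈ c ↔ p ∈ S := by
      rw [hcdef, mem_maskSet, Nat.testBit_xor, h0, Bool.xor_false, testBit_mask, decide_eq_true_eq]
    simp only [Finset.mem_symmDiff, mem_inter, hpB, and_true, hiff] at hp
    tauto
  have h1 := card_symmDiff_eq (c ∩ maskSet B) S
  have h2 := two_dvd_inter hc hB
  have h3 := card_le_card hsub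
  rw [card_singleton] at h3
  have h4 : ((c ∩ maskSet B) ∆ S).card = 0 := by omega
  exact symmDiff_eq_bot.1 (Finset.card_eq_zero.1 h4)

/-- Reducing words for the base octad. -/
def octE : List (ℕ × ℕ) :=
  [(0, 13062145), (1, 4845570), (2, 13938692), (3, 7221256), (4, 10170384), (7, 2019456), (10, 11654144)]

/-- Reducing words for the base dodecad. -/
def dodE : List (ℕ × ℕ) :=
  [(0, 13062145), (1, 5709954), (2, 13262980), (3, 7221256), (4, 10170384), (5, 11952160), (6, 15864000),
   (8, 2322816), (9, 8077824), (10, 11469952), (15, 2019456)]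

theorem trace_exists {D : Finset GolayPt} (hD : D ∈ octads ∨ D ∈ dodecads) {S : Finset GolayPt}
    (hS : S ⊆ D) (hev : 2 ∣ S.card) : ∃ c ∈ codeSets, c ∩ D = S := by
  have go : ∀ (B q : ℕ) (E : List (ℕ × ℕ)) (σ : Equiv.Perm GolayPt), σ ∈ M24 → redOK E = true →
      maskSet B ∈ codeSets → (∀ i < 24, B.testBit i = true → i = q ∨ ∃ e ∈ E, e.1 = i) →
      σ • maskSet B = D → ∃ c ∈ codeSets, c ∩ D = S := by
    intro B q E σ hσ hok hB hcov e
    obtain ⟨c, hc, hcS⟩ := trace_base hok hB hcov (S := σ⁻¹ • S)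
      (by rw [← inv_smul_smul σ (maskSet B), e]; exact Finset.smul_finset_subset_smul_finset hS)
      (by rwa [Finset.card_smul_finset])
    exact ⟨σ • c, Cfsg.Agent.Golay.M24.smul_mem_supports hσ hc,
      by rw [← e, ← Finset.smul_finset_inter, hcS, smul_inv_smul]⟩
  rcases hD with ho | hd
  · obtain ⟨σ, hσ, e⟩ := octads_transitive (o := maskSet 5279) (mem_octads_iff.2 (by decide +kernel)) ho
    exact go 5279 12 octE σ hσ (by decide +kernel) (mem_supports_iff.2 (by decide +kernel))
      (by decide +kernel) e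
  · obtain ⟨σ, hσ, e⟩ := dodecads_transitive baseDodecad_mem hd
    exact go 165759 17 dodE σ hσ (by decide +kernel) (mem_supports_iff.2 (by decide +kernel))
      (by decide +kernel) e

/-! ### Normal forms -/

theorem perm_fix {σ : Equiv.Perm GolayPt} (hσ : σ ∈ M24) (h1 : σ none = none) (h2 : σ (pt 0) = pt 0) :
    perm σ hσ • v0 = v0 := by
  apply Subtype.ext
  funext p
  rw [perm_smul]
  show stdVec (σ p) = stdVec p
  have e1 : σ p = none ↔ p = none := by rw [← σ.injective.eq_iff (a := p), h1]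
  have e2 : σ p = pt 0 ↔ p = pt 0 := by rw [← σ.injective.eq_iff (a := p), h2]
  simp only [stdVec, e1, e2]

theorem sign_fix {d : Finset GolayPt} (hd : d ∈ codeSets) (h1 : none ∉ d) (h2 : pt 0 ∉ d) :
    sign d hd • v0 = v0 := by
  apply Subtype.ext
  funext p
  rw [sign_smul]
  show Basic.flip d stdVec p = stdVec p
  by_cases hp : p ∈ d
  · rw [Basic.flip, if_pos hp, stdVec, if_neg (fun e => h1 (by rwa [e] at hp)),
      if_neg (fun e => h2 (by rwa [e] at hp))]
    rfl
  · rw [Basic.flip, if_neg hp]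

theorem avoid_none : ∀ i : GolayPt, i ≠ none →
    ∃ m ∈ basisMasks ++ [0], ∃ m' ∈ basisMasks ++ [0],
      ((m ^^^ m').testBit (ix i) = true) ∧ (m ^^^ m').testBit 23 = false := by decide +kernel

theorem four_shape {a : leechLattice} (h : sqNorm (a : Vec) = 32) (h4 : (a : Vec) none = 4) :
    ∃ i, i ≠ none ∧ |(a : Vec) i| = 4 ∧ ∀ p, p ≠ none → p ≠ i → (a : Vec) p = 0 := by
  classical
  have hb := abs_le_eight h (by norm_num)
  obtain ⟨hc1, hc2⟩ := counts h (by norm_num)
  obtain ⟨hc, n1, n3, n5, n7, -⟩ := even_class a.2 hb (by rw [h4]; rfl)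
  have hw := weights_supports hc
  rw [union_card] at hw
  have hn : none ∈ atVal (a : Vec) 4 := mem_atVal.2 (by rw [h4]; rfl)
  have hpos : 1 ≤ (atVal (a : Vec) 4).card := card_pos.2 ⟨_, hn⟩
  have hcases : (atVal (a : Vec) 4).card = 2 ∧ (atVal (a : Vec) 2).card = 0 ∧
      (atVal (a : Vec) 6).card = 0 ∧ (atVal (a : Vec) 8).card = 0 := by omega
  obtain ⟨h4c, h2, h6, h8⟩ := hcases
  simp only [Finset.card_eq_zero] at h2 h6 h8 n1 n3 n5 n7
  obtain ⟨i, hi⟩ : ∃ i, (atVal (a : Vec) 4).erase none = {i} :=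
    Finset.card_eq_one.1 (by rw [card_erase_of_mem hn, h4c])
  have himem : i ∈ (atVal (a : Vec) 4).erase none := by rw [hi]; exact mem_singleton_self i
  rw [mem_erase, mem_atVal] at himem
  refine ⟨i, himem.1, himem.2, fun p hp hpi => abs_eq_zero.1 ?_⟩
  refine rest_even hb (by simp [n1, n3, n5, n7]) (by simp [h2]) (fun h' => hpi ?_) (by simp [h6])
    (by simp [h8])
  have : p ∈ (atVal (a : Vec) 4).erase none := mem_erase.2 ⟨hp, h'⟩
  rwa [hi, mem_singleton] at this

/-- An orthogonal pair of squared length 32 goes to the standard one. -/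
theorem to_pair0 (v w : leechLattice) (hv : sqNorm (v : Vec) = 32) (hw : sqNorm (w : Vec) = 32)
    (hd : dotInt (v : Vec) (w : Vec) = 0) : ∃ g : Co0, g • v = v0 ∧ g • w = w0 := by
  classical
  obtain ⟨h, hh⟩ := transitive64 (v + w) (frame none)
    (by rw [AddSubgroup.coe_add, sqNorm_add, hv, hd, hw]; norm_num) (sqNorm_frame none)
  have ha : sqNorm ((h • v : leechLattice) : Vec) = 32 := (sqNorm_smul h v).trans hv
  have h4 : ((h • v : leechLattice) : Vec) none = 4 := by
    have e := dot_smul h v (v + w)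
    rw [hh, dot_frame, AddSubgroup.coe_add] at e
    have : dotInt (v : Vec) ((v : Vec) + (w : Vec)) = sqNorm (v : Vec) + dotInt (v : Vec) (w : Vec) := by
      simp only [dotInt, sqNorm, ← sum_add_distrib]
      exact sum_congr rfl fun i _ => by rw [Pi.add_apply]; ring
    rw [this, hv, hd] at e
    omega
  obtain ⟨i, hi, hi4, hrest⟩ := four_shape ha h4
  obtain ⟨m, hm, m', hm', b1, b2⟩ := avoid_none i hi
  have hmc : ∀ m ∈ basisMasks ++ [0], isCode m = true ∧ m < 2 ^ 24 := by decide +kernel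
  have hcode : maskSet (m ^^^ m') ∈ codeSets := mem_supports_iff.2 (by
    rw [mask_maskSet (Nat.xor_lt_two_pow (hmc m hm).2 (hmc m' hm').2)]
    exact isCode_xor (hmc m hm).1 (hmc m' hm').1)
  obtain ⟨σ, hσ, hl⟩ := exists_map_list [none, pt 0] [none, i] (by simp [pt0_ne_none.symm])
    (by simp [Ne.symm hi]) rfl (by simp)
  simp only [List.map_cons, List.map_nil, List.cons.injEq, and_true] at hl
  obtain ⟨hσn, hσ0⟩ := hl
  have hn : (none : GolayPt) ∉ maskSet (m ^^^ m') := by
    rw [mem_maskSet, show ix (none : GolayPt) = 23 from rfl, b2]; simp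
  -- the element, given the sign
  have fin : ∀ s : Co0, s • frame none = frame none →
      (∀ p, ((s • h • v : leechLattice) : Vec) p = if p = none then 4 else if p = i then 4 else 0) →
      ∃ g : Co0, g • v = v0 ∧ g • w = w0 := by
    intro s hs hval
    have e1 : (perm σ hσ * s * h) • v = v0 := by
      apply Subtype.ext
      funext p
      rw [mul_smul, mul_smul, perm_smul, hval]
      show _ = stdVec p
      have a1 : σ p = none ↔ p = none := by rw [← σ.injective.eq_iff (a := p), hσn]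
      have a2 : σ p = i ↔ p = pt 0 := by rw [← σ.injective.eq_iff (a := p), hσ0]
      simp only [stdVec, a1, a2]
    refine ⟨perm σ hσ * s * h, e1, ?_⟩
    have e2 : (perm σ hσ * s * h) • (v + w) = frame none := by
      rw [mul_smul, mul_smul, hh, hs]
      apply Subtype.ext
      funext p
      rw [perm_smul, frame_coe]
      by_cases hp : p = none
      · subst hp; rw [hσn]
      · rw [Pi.single_eq_of_ne hp,
          Pi.single_eq_of_ne (fun e => hp (σ.injective (e.trans hσn.symm)))]
    rw [smul_add', e1, ← add_eq] at e2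
    exact add_left_cancel e2
  rcases abs_eq (by norm_num : (0 : ℤ) ≤ 4) |>.1 hi4 with e | e
  · refine fin 1 (one_smul _ _) fun p => ?_
    rw [one_smul]
    by_cases hp : p = none
    · subst hp; rw [if_pos rfl, h4]
    by_cases hpi : p = i
    · subst hpi; rw [if_neg hp, if_pos rfl, e]
    · rw [if_neg hp, if_neg hpi, hrest p hp hpi]
  · refine fin (sign _ hcode) ?_ fun p => ?_
    · apply Subtype.ext
      funext p
      rw [sign_smul, Basic.flip, frame_coe]
      by_cases hp : p = none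
      · subst hp; rw [if_neg hn]
      · rw [Pi.single_eq_of_ne hp]; simp
    · rw [sign_smul, Basic.flip]
      by_cases hp : p = none
      · subst hp; rw [if_pos rfl, if_neg hn, h4]
      by_cases hpi : p = i
      · subst hpi; rw [if_neg hp, if_pos rfl, if_pos (mem_maskSet.2 b1), e]; rfl
      · rw [if_neg hp, if_neg hpi, hrest p hp hpi]; simp

theorem four_two_mem {k l : GolayPt} (hkl : k ≠ l) {s t : ℤ} (hs : s = 1 ∨ s = -1) (ht : t = 1 ∨ t = -1) :
    (fun p => if p = k then 4 * s else if p = l then 4 * t else 0) ∈ leechLattice := by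
  have h := four_mem_of_pairs leechLattice (fun i hi t ht => mem_of_inLat (by revert i t; decide +kernel))
    (fun p => if p = k then s else if p = l then t else 0) ?_
  · convert h using 1
    funext p
    split_ifs <;> simp
  · rw [← Finset.sum_subset (subset_univ ({k, l} : Finset GolayPt)) (fun p _ hp => by
      simp only [mem_insert, mem_singleton, not_or] at hp
      rw [if_neg hp.1, if_neg hp.2]), Finset.sum_pair hkl, if_pos rfl, if_neg hkl.symm, if_pos rfl]
    omega

/-- Any two short vectors have a common orthogonal vector of squared length 32. -/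
theorem exists_orth (v w : leechLattice) (hv : sqNorm (v : Vec) = 32) (hw : sqNorm (w : Vec) ≤ 64) :
    ∃ z : leechLattice, sqNorm (z : Vec) = 32 ∧ dotInt (v : Vec) (z : Vec) = 0 ∧
      dotInt (w : Vec) (z : Vec) = 0 := by
  classical
  obtain ⟨h, hh⟩ := transitive32 v v0 hv sqNorm_v0
  set x := ((h • w : leechLattice) : Vec) with hx
  have hb := abs_le_eight (x := x) (N := sqNorm (w : Vec)) (sqNorm_smul h w) hw
  obtain ⟨k, hk, l, hl, hkl, e⟩ := Finset.exists_ne_map_eq_of_card_lt_of_maps_to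
    (s := ((univ : Finset GolayPt).erase none).erase (pt 0)) (t := Finset.Icc (0 : ℤ) 8)
    (f := fun p => |x p|)
    (by rw [card_erase_of_mem (mem_erase.2 ⟨pt0_ne_none, mem_univ _⟩), card_erase_of_mem (mem_univ _)]
        decide)
    (fun p _ => mem_Icc.2 ⟨abs_nonneg _, hb p⟩)
  simp only [mem_erase, mem_univ, and_true] at hk hl
  obtain ⟨t, ht, hxt⟩ : ∃ t : ℤ, (t = 1 ∨ t = -1) ∧ x k + t * x l = 0 := by
    rcases abs_eq_abs.1 e with e | e
    · exact ⟨-1, Or.inr rfl, by rw [e]; ring⟩
    · exact ⟨1, Or.inl rfl, by rw [e]; ring⟩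
  set z0 : leechLattice := ⟨_, four_two_mem hkl (Or.inl rfl) ht⟩ with hz0
  have hdot : ∀ y : Vec, dotInt y (z0 : Vec) = 4 * (y k + t * y l) := by
    intro y
    rw [dotInt, ← Finset.sum_subset (subset_univ ({k, l} : Finset GolayPt)) (fun p _ hp => by
      simp only [mem_insert, mem_singleton, not_or] at hp
      simp [hz0, hp.1, hp.2]), Finset.sum_pair hkl]
    simp [hz0, hkl.symm]
    ring
  have hself : ∀ y : Vec, dotInt y y = sqNorm y := fun y => sum_congr rfl fun i _ => (sq (y i)).symm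
  refine ⟨h⁻¹ • z0, ?_, ?_, ?_⟩
  · rw [sqNorm_smul, ← hself, hdot]
    rcases ht with rfl | rfl <;> simp [hz0, hkl.symm]
  · rw [← dot_smul h, hh, smul_inv_smul, hdot]
    show 4 * (stdVec k + t * stdVec l) = 0
    simp [stdVec, hk.1, hk.2, hl.1, hl.2]
  · rw [← dot_smul h, smul_inv_smul, hdot]
    show 4 * (x k + t * x l) = 0
    rw [hxt]; rfl

/-- A pair of short vectors, the first of squared length 32, in normal form. -/
theorem to_std (v w : leechLattice) (hv : sqNorm (v : Vec) = 32) (hw : sqNorm (w : Vec) ≤ 64) :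
    ∃ g : Co0, g • v = v0 ∧ ((g • w : leechLattice) : Vec) none = ((g • w : leechLattice) : Vec) (pt 0) ∧
      8 * ((g • w : leechLattice) : Vec) none = dotInt (v : Vec) (w : Vec) := by
  obtain ⟨z, hz, hvz, hwz⟩ := exists_orth v w hv hw
  obtain ⟨g, gv, gz⟩ := to_pair0 v z hv hz hvz
  refine ⟨g, gv, ?_⟩
  have e1 := dot_smul g v w
  have e2 := dot_smul g z w
  rw [gv, dot_v0] at e1
  rw [gz, dot_w0, dot_comm (z : Vec), hwz] at e2
  constructor <;> omega

theorem flip_mem {x y : leechLattice} (hodd : (x : Vec) none % 2 = 1)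
    (h : ∀ p, |(x : Vec) p| = |(y : Vec) p|) :
    ∃ d, ∃ hd : d ∈ codeSets, sign d hd • x = y ∧ ∀ p, (x : Vec) p = (y : Vec) p → p ∉ d := by
  classical
  obtain ⟨m, c, a, hm, hc, hx, -⟩ := mem_lattice_iff.1 x.2
  obtain ⟨m', c', b, hm', hc', hy, -⟩ := mem_lattice_iff.1 y.2
  have h0 := abs_eq_abs.1 (h none)
  have x0 := hx none
  have y0 := hy none
  have hm1 : m = 1 := by omega
  have hm1' : m' = 1 := by omega
  subst hm1 hm1'
  have hiff : ∀ p, p ∈ c ∆ c' ↔ (x : Vec) p ≠ (y : Vec) p := by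
    intro p
    have e1 := hx p
    have e2 := hy p
    have e3 := abs_eq_abs.1 (h p)
    rw [Finset.mem_symmDiff]
    unfold ind at e1 e2
    by_cases p1 : p ∈ c <;> by_cases p2 : p ∈ c' <;>
      simp only [p1, p2, if_true, if_false, not_true_eq_false, not_false_eq_true, and_false, and_true,
        or_self, or_false, false_or, true_iff, false_iff, not_not] at e1 e2 ⊢ <;> omega
  refine ⟨_, symmDiff_mem_supports hc hc', Subtype.ext (funext fun p => ?_),
    fun p hp hpd => (hiff p).1 hpd hp⟩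
  rw [sign_smul, Basic.flip]
  by_cases hp : p ∈ c ∆ c'
  · rw [if_pos hp]
    rcases abs_eq_abs.1 (h p) with e | e
    · exact absurd e ((hiff p).1 hp)
    · omega
  · rw [if_neg hp]
    exact not_not.1 (mt (hiff p).2 hp)

set_option maxHeartbeats 1000000 in
/-- The shape at inner product `±8`. -/
theorem one_shape {x : leechLattice} (h : sqNorm (x : Vec) = 32) (h1 : |(x : Vec) none| = 1)
    (h0 : |(x : Vec) (pt 0)| = 1) :
    ∃ j, j ≠ none ∧ j ≠ pt 0 ∧ ∀ p, |(x : Vec) p| = if p = j then 3 else 1 := by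
  classical
  have hb := abs_le_eight h (by norm_num)
  obtain ⟨hc1, hc2⟩ := counts h (by norm_num)
  obtain ⟨n0, n2, n4, n6, n8⟩ := odd_class x.2 (by
    rcases abs_eq (by norm_num : (0 : ℤ) ≤ 1) |>.1 h1 with e | e <;> omega)
  have hcases : (atVal (x : Vec) 3).card = 1 ∧ (atVal (x : Vec) 5).card = 0 ∧
      (atVal (x : Vec) 7).card = 0 := by omega
  obtain ⟨h3, h5, h7⟩ := hcases
  obtain ⟨j, hj⟩ := Finset.card_eq_one.1 h3
  simp only [Finset.card_eq_zero] at n0 n2 n4 n6 n8 h5 h7
  have hj3 : |(x : Vec) j| = 3 := mem_atVal.1 (hj ▸ mem_singleton_self j)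
  refine ⟨j, fun e => by rw [e, h1] at hj3; norm_num at hj3,
    fun e => by rw [e, h0] at hj3; norm_num at hj3, fun p => ?_⟩
  by_cases hp : p = j
  · rw [if_pos hp, hp, hj3]
  · rw [if_neg hp]
    exact rest_odd hb (by simp [n0, n2, n4, n6, n8]) (by rw [hj]; simp [hp]) (by simp [h5]) (by simp [h7])

theorem trans_eight {x y : leechLattice} (hx : sqNorm (x : Vec) = 32) (hy : sqNorm (y : Vec) = 32)
    (h1 : |(x : Vec) none| = 1) (hx0 : (x : Vec) none = (x : Vec) (pt 0))
    (hy1 : (y : Vec) none = (x : Vec) none) (hy0 : (y : Vec) none = (y : Vec) (pt 0)) :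
    ∃ n : Co0, n • v0 = v0 ∧ n • x = y := by
  obtain ⟨j, hjn, hj0, hxj⟩ := one_shape hx h1 (by rw [← hx0]; exact h1)
  obtain ⟨j', hjn', hj0', hyj⟩ := one_shape hy (by rw [hy1]; exact h1) (by rw [← hy0, hy1]; exact h1)
  obtain ⟨σ, hσ, hl⟩ := exists_map_list [none, pt 0, j'] [none, pt 0, j]
    (by simp [pt0_ne_none.symm, Ne.symm hjn', Ne.symm hj0'])
    (by simp [pt0_ne_none.symm, Ne.symm hjn, Ne.symm hj0]) rfl (by simp)
  simp only [List.map_cons, List.map_nil, List.cons.injEq, and_true] at hl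
  obtain ⟨hσn, hσ0, hσj⟩ := hl
  have hu : ((perm σ hσ • x : leechLattice) : Vec) none = (x : Vec) none := by rw [perm_smul, hσn]
  obtain ⟨d, hd, he, havoid⟩ := flip_mem (x := perm σ hσ • x) (y := y) (by
      rw [hu]; rcases abs_eq (by norm_num : (0 : ℤ) ≤ 1) |>.1 h1 with e | e <;> omega) fun p => by
    rw [perm_smul, hxj, hyj]
    simp only [← hσj, σ.injective.eq_iff]
  refine ⟨sign d hd * perm σ hσ, ?_, by rw [mul_smul]; exact he⟩
  rw [mul_smul, perm_fix hσ hσn hσ0]
  exact sign_fix hd (havoid _ (by rw [hu, hy1]))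
    (havoid _ (by rw [perm_smul, hσ0, ← hx0, ← hy0, hy1]))

/-- The shape at inner product `±16`. -/
theorem two_shape {x : leechLattice} (h : sqNorm (x : Vec) = 32) (h2 : |(x : Vec) none| = 2) :
    ∃ o ∈ octads, ∀ p, |(x : Vec) p| = if p ∈ o then 2 else 0 := by
  classical
  have hb := abs_le_eight h (by norm_num)
  obtain ⟨hc1, hc2⟩ := counts h (by norm_num)
  obtain ⟨hc, n1, n3, n5, n7, -⟩ := even_class x.2 hb (by
    rcases abs_eq (by norm_num : (0 : ℤ) ≤ 2) |>.1 h2 with e | e <;> omega)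
  have hw := weights_supports hc
  rw [union_card] at hw
  have hpos : 1 ≤ (atVal (x : Vec) 2).card := card_pos.2 ⟨none, mem_atVal.2 h2⟩
  have hcases : (atVal (x : Vec) 2).card = 8 ∧ (atVal (x : Vec) 4).card = 0 ∧
      (atVal (x : Vec) 6).card = 0 ∧ (atVal (x : Vec) 8).card = 0 := by omega
  obtain ⟨h2c, h4, h6, h8⟩ := hcases
  simp only [Finset.card_eq_zero] at h4 h6 h8 n1 n3 n5 n7
  rw [h6, union_empty] at hc
  refine ⟨_, ⟨hc, h2c⟩, fun p => ?_⟩
  by_cases hp : p ∈ atVal (x : Vec) 2
  · rw [if_pos hp]; exact mem_atVal.1 hp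
  · rw [if_neg hp]
    exact rest_even hb (by simp [n1, n3, n5, n7]) hp (by simp [h4]) (by simp [h6]) (by simp [h8])

theorem even_neg_diff {x y : leechLattice} {o : Finset GolayPt}
    (hx : ∀ p, |(x : Vec) p| = if p ∈ o then 2 else 0) (h : ∀ p, |(x : Vec) p| = |(y : Vec) p|)
    (he : (x : Vec) none % 2 = 0) :
    2 ∣ (univ.filter fun p => (x : Vec) p ≠ (y : Vec) p).card := by
  obtain ⟨m, c, a, hm, -, hxs, hs⟩ := mem_lattice_iff.1 x.2
  obtain ⟨m', c', b, hm', -, hys, hs'⟩ := mem_lattice_iff.1 y.2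
  have x0 := hxs none
  have y0 := hys none
  have h0 := abs_eq_abs.1 (h none)
  have hm0 : m = 0 := by omega
  have hm0' : m' = 0 := by omega
  subst hm0 hm0'
  have key : (8 : ℤ) ∣ (∑ p, (x : Vec) p - ∑ p, (y : Vec) p) -
      4 * ((univ.filter fun p => (x : Vec) p ≠ (y : Vec) p).card : ℤ) := by
    rw [← sum_boole, mul_sum, ← sum_sub_distrib, ← sum_sub_distrib]
    refine dvd_sum fun p _ => ?_
    have e1 := hx p
    have e3 := abs_eq_abs.1 (h p)
    by_cases hp : p ∈ o
    · rw [if_pos hp] at e1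
      rcases abs_eq (by norm_num : (0 : ℤ) ≤ 2) |>.1 e1 with e | e <;> rcases e3 with e4 | e4 <;>
        split_ifs <;> omega
    · rw [if_neg hp, abs_eq_zero] at e1
      rw [if_neg (by omega)]
      omega
  omega

theorem trans_sixteen {x y : leechLattice} (hx : sqNorm (x : Vec) = 32) (hy : sqNorm (y : Vec) = 32)
    (h1 : |(x : Vec) none| = 2) (hx0 : (x : Vec) none = (x : Vec) (pt 0))
    (hy1 : (y : Vec) none = (x : Vec) none) (hy0 : (y : Vec) none = (y : Vec) (pt 0)) :
    ∃ n : Co0, n • v0 = v0 ∧ n • x = y := by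
  classical
  obtain ⟨o, ho, hxo⟩ := two_shape hx h1
  obtain ⟨o', ho', hyo⟩ := two_shape hy (by rw [hy1]; exact h1)
  have key : ∀ {z : leechLattice} {o : Finset GolayPt}, |(z : Vec) none| = 2 →
      (z : Vec) none = (z : Vec) (pt 0) → (∀ p, |(z : Vec) p| = if p ∈ o then 2 else 0) →
      none ∈ o ∧ pt 0 ∈ o := by
    intro z o a b c
    constructor <;> by_contra hn
    · have := c none; rw [if_neg hn, a] at this; norm_num at this
    · have := c (pt 0); rw [if_neg hn, ← b, a] at this; norm_num at this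
  obtain ⟨hno, h0o⟩ := key h1 hx0 hxo
  obtain ⟨hno', h0o'⟩ := key (by rw [hy1]; exact h1) hy0 hyo
  have three : ∀ {o : Finset GolayPt}, o ∈ octads → none ∈ o → pt 0 ∈ o → ∃ s : Finset GolayPt,
      s ⊆ o ∧ s.card = 3 ∧ none ∉ s ∧ pt 0 ∉ s := by
    intro o ho a b
    obtain ⟨s, hs, hc⟩ := Finset.exists_subset_card_eq (s := (o.erase none).erase (pt 0)) (n := 3) (by
      rw [card_erase_of_mem (mem_erase.2 ⟨pt0_ne_none, b⟩), card_erase_of_mem a, octad_card ho]
      norm_num)
    refine ⟨s, fun p hp => mem_of_mem_erase (mem_of_mem_erase (hs hp)), hc, fun h => ?_, fun h => ?_⟩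
    · exact (mem_erase.1 (mem_of_mem_erase (hs h))).1 rfl
    · exact (mem_erase.1 (hs h)).1 rfl
  obtain ⟨s, hs, hsc, hsn, hs0⟩ := three ho hno h0o
  obtain ⟨s', hs', hsc', hsn', hs0'⟩ := three ho' hno' h0o'
  obtain ⟨σ, hσ, hl⟩ := exists_map_list (none :: pt 0 :: s'.toList) (none :: pt 0 :: s.toList)
    (by simp [pt0_ne_none.symm, hsn', hs0', Finset.nodup_toList])
    (by simp [pt0_ne_none.symm, hsn, hs0, Finset.nodup_toList])
    (by simp [hsc, hsc']) (by simp [hsc'])
  simp only [List.map_cons, List.cons.injEq] at hl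
  obtain ⟨hσn, hσ0, hσs⟩ := hl
  have hoe : σ • o' = o := by
    refine octads_eq_of_subset (s := σ • insert none (insert (pt 0) s')) ?_
      (Cfsg.Agent.Golay.M24.smul_mem_octads hσ ho') ho
      (Finset.smul_finset_subset_smul_finset (insert_subset hno' (insert_subset h0o' hs'))) ?_
    · rw [card_smul_finset, card_insert_of_notMem (by simp [pt0_ne_none.symm, hsn']),
        card_insert_of_notMem hs0', hsc']
    · intro p hp
      obtain ⟨q, hq, rfl⟩ := Finset.mem_smul_finset.1 hp
      rw [Equiv.Perm.smul_def]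
      rcases mem_insert.1 hq with rfl | hq
      · rw [hσn]; exact hno
      rcases mem_insert.1 hq with rfl | hq
      · rw [hσ0]; exact h0o
      · exact hs (mem_toList.1 (hσs ▸ List.mem_map_of_mem (mem_toList.2 hq)))
  set u := perm σ hσ • x with hu
  have hun : (u : Vec) none = (x : Vec) none := by rw [hu, perm_smul, hσn]
  have hu0 : (u : Vec) (pt 0) = (x : Vec) (pt 0) := by rw [hu, perm_smul, hσ0]
  have habs : ∀ p, |(u : Vec) p| = if p ∈ o' then 2 else 0 := fun p => by
    rw [hu, perm_smul, hxo]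
    simp only [← hoe, Cfsg.Agent.Golay.M24.mem_smul_iff]
  have hsame : ∀ p, |(u : Vec) p| = |(y : Vec) p| := fun p => by rw [habs, hyo]
  set D := univ.filter fun p => (u : Vec) p ≠ (y : Vec) p with hD
  have hDo : D ⊆ o' := by
    intro p hp
    by_contra hpo
    have a := habs p
    have b := hyo p
    rw [if_neg hpo, abs_eq_zero] at a b
    exact (mem_filter.1 hp).2 (a.trans b.symm)
  obtain ⟨d, hd, hdD⟩ := trace_exists (Or.inl ho') hDo (even_neg_diff habs hsame (by
    rw [hun]; rcases abs_eq (by norm_num : (0 : ℤ) ≤ 2) |>.1 h1 with e | e <;> omega))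
  refine ⟨sign d hd * perm σ hσ, ?_, Subtype.ext (funext fun p => ?_)⟩
  · rw [mul_smul, perm_fix hσ hσn hσ0]
    refine sign_fix hd (fun h => ?_) fun h => ?_
    · have : none ∈ D := hdD ▸ mem_inter.2 ⟨h, hno'⟩
      exact (mem_filter.1 this).2 (by rw [hun, hy1])
    · have : pt 0 ∈ D := hdD ▸ mem_inter.2 ⟨h, h0o'⟩
      exact (mem_filter.1 this).2 (by rw [hu0, ← hx0, ← hy0, hy1])
  · rw [mul_smul, ← hu, sign_smul, Basic.flip]
    by_cases hpo : p ∈ o'
    · have hiff : p ∈ d ↔ (u : Vec) p ≠ (y : Vec) p := by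
        rw [← (show p ∈ d ∩ o' ↔ p ∈ d by simp [hpo]), hdD, hD, mem_filter]
        simp
      rcases abs_eq_abs.1 (hsame p) with e | e
      · rw [if_neg (fun h => hiff.1 h e)]; exact e
      · rw [if_pos (hiff.2 (by have := habs p; rw [if_pos hpo] at this; intro e'
                               rcases abs_eq (by norm_num : (0 : ℤ) ≤ 2) |>.1 this with a | a <;> omega))]
        omega
    · have a := habs p
      have b := hyo p
      rw [if_neg hpo, abs_eq_zero] at a b
      rw [a, b]; simp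

/-- Transitivity on pairs of squared length 32 with inner product `±8` or `±16`. -/
theorem trans_pairs (v w v' w' : leechLattice) (hv : sqNorm (v : Vec) = 32) (hw : sqNorm (w : Vec) = 32)
    (hv' : sqNorm (v' : Vec) = 32) (hw' : sqNorm (w' : Vec) = 32)
    (hd : |dotInt (v : Vec) (w : Vec)| = 8 ∨ |dotInt (v : Vec) (w : Vec)| = 16)
    (he : dotInt (v' : Vec) (w' : Vec) = dotInt (v : Vec) (w : Vec)) :
    ∃ g : Co0, g • v = v' ∧ g • w = w' := by
  obtain ⟨g, gv, g0, gd⟩ := to_std v w hv (by omega)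
  obtain ⟨g', gv', g0', gd'⟩ := to_std v' w' hv' (by omega)
  have hsame : ((g' • w' : leechLattice) : Vec) none = ((g • w : leechLattice) : Vec) none := by omega
  obtain ⟨n, nv, nw⟩ : ∃ n : Co0, n • v0 = v0 ∧ n • (g • w) = g' • w' := by
    have habs : |dotInt (v : Vec) (w : Vec)| = 8 * |((g • w : leechLattice) : Vec) none| := by
      rw [← gd, abs_mul]; rfl
    rcases hd with hd | hd
    · exact trans_eight ((sqNorm_smul g w).trans hw) ((sqNorm_smul g' w').trans hw') (by omega) g0 hsame g0'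
    · exact trans_sixteen ((sqNorm_smul g w).trans hw) ((sqNorm_smul g' w').trans hw') (by omega) g0 hsame g0'
  refine ⟨g'⁻¹ * n * g, ?_, ?_⟩
  · rw [mul_smul, mul_smul, gv, nv, ← gv', inv_smul_smul]
  · rw [mul_smul, mul_smul, nw, inv_smul_smul]

end Cfsg.Agent.LeechAut.Pairs
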