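import Cfsg.Agent.Lib.LeechAut.Xi
import Cfsg.Agent.Lib.LeechAut.ShapeData
import Cfsg.Agent.Lib.Golay.Cert

/-!
Soundness of the certificates carrying normal forms of lattice vectors to standard vectors.
-/

set_option autoImplicit false
set_option maxRecDepth 10000

namespace Cfsg.Agent.LeechAut.Shapes

open Cfsg Cfsg.Agent.Golay.Basic Cfsg.Agent.Golay.Design Cfsg.Agent.Golay.Cert Cfsg.Agent.Leech.Basic
  Cfsg.Agent.Leech.Index Cfsg.Agent.LeechAut.Gens Cfsg.Agent.LeechAut.Basic Cfsg.Agent.LeechAut.Xi
  Cfsg.Agent.LeechAut.ShapeData Finset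
open Cfsg.Agent.Golay.M24 (tabAt)

/-- One step on coordinate lists. -/
def stepL (o : ℕ × ℕ) (l : List ℤ) : List ℤ :=
  if o.1 = 0 then (List.range 24).map fun i => l.getD (tabAt o.2 i) 0
  else if o.1 = 1 then (List.range 24).map fun i => if o.2.testBit i then -l.getD i 0 else l.getD i 0
  else lst (xiFun (vec l))

/-- Validity of a step. -/
def opOK (o : ℕ × ℕ) : Bool :=
  if o.1 = 0 then tabOK o.2 else if o.1 = 1 then isCode o.2 && decide (o.2 < 2 ^ 24) else true

/-- The steps, in order. -/
def runL : List (ℕ × ℕ) → List ℤ → List ℤ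
  | [], l => l
  | o :: os, l => runL os (stepL o l)

theorem step_sound {o : ℕ × ℕ} (h : opOK o = true) :
    ∃ g : Co0, ∀ v : leechLattice, lst ((g • v : leechLattice) : Vec) = stepL o (lst (v : Vec)) := by
  unfold opOK at h
  unfold stepL
  split_ifs at h ⊢ with h0 h1
  · refine ⟨perm _ (tabPerm_mem h), fun v => ?_⟩
    refine List.map_congr_left fun i hi => ?_
    rw [perm_smul, ← getD_lst (v : Vec) (tabPerm o.2 (pt i)), isTab_tabPerm h,
      ix_pt (List.mem_range.1 hi)]
  · simp only [Bool.and_eq_true, decide_eq_true_eq] at h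
    have hc : maskSet o.2 ∈ codeSets := mem_supports_iff.2 (by rw [mask_maskSet h.2]; exact h.1)
    refine ⟨sign _ hc, fun v => ?_⟩
    refine List.map_congr_left fun i hi => ?_
    have hi' := List.mem_range.1 hi
    have e : (lst (v : Vec)).getD i 0 = (v : Vec) (pt i) := by
      rw [← getD_lst (v : Vec) (pt i), ix_pt hi']
    rw [sign_smul, e]
    simp only [Basic.flip, mem_maskSet, ix_pt hi']
  · exact ⟨xi, fun v => by rw [xi_smul, vec_lst]⟩

theorem run_sound : ∀ (os : List (ℕ × ℕ)), os.all opOK = true → ∀ v : leechLattice,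
    ∃ g : Co0, lst ((g • v : leechLattice) : Vec) = runL os (lst (v : Vec))
  | [], _, v => ⟨1, by rw [one_smul]; rfl⟩
  | o :: os, h, v => by
    simp only [List.all_cons, Bool.and_eq_true] at h
    obtain ⟨g, hg⟩ := step_sound h.1
    obtain ⟨g', hg'⟩ := run_sound os h.2 (g • v)
    exact ⟨g' * g, by rw [mul_smul, hg', hg v]; rfl⟩

/-- Submasks of a list of positions. -/
def subs : List ℕ → List ℕ
  | [] => [0]
  | f :: fs => subs fs ++ (subs fs).map fun x => 1 <<< f ||| x

theorem subs_mem : ∀ (L : List ℕ) (m : ℕ), (∀ j, m.testBit j = true → j ∈ L) → m ∈ subs L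
  | [], m, h => List.mem_singleton.2 (Nat.eq_of_testBit_eq fun j => by
      rw [Nat.zero_testBit]
      by_contra hc
      exact List.not_mem_nil (h j (by simpa using hc)))
  | f :: fs, m, h => by
    rw [subs, List.mem_append, List.mem_map]
    by_cases hf : m.testBit f = true
    · refine Or.inr ⟨m ^^^ 2 ^ f, subs_mem fs _ fun j hj => ?_, Nat.eq_of_testBit_eq fun j => ?_⟩
      · rw [Nat.testBit_xor, Nat.testBit_two_pow] at hj
        by_cases e : f = j
        · subst e; simp [hf] at hj
        · simp [e] at hj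
          exact (List.mem_cons.1 (h j hj)).resolve_left (Ne.symm e)
      · rw [Nat.testBit_or, Nat.one_shiftLeft, Nat.testBit_xor, Nat.testBit_two_pow]
        by_cases e : f = j
        · subst e; simp [hf]
        · simp [e]
    · refine Or.inl (subs_mem fs m fun j hj => (List.mem_cons.1 (h j hj)).resolve_left ?_)
      rintro rfl
      exact hf hj

/-- Reduction of a sign pattern. -/
def red : List (ℕ × ℕ) → ℕ → ℕ
  | [], s => s
  | (p, w) :: E, s => red E (if s.testBit p then s ^^^ w else s)

/-- The words are code words and each clears its pivot for good. -/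
def redOK : List (ℕ × ℕ) → Bool
  | [] => true
  | (p, w) :: E => isCode w && decide (w < 2 ^ 24) && w.testBit p && (E.all fun q => !q.2.testBit p) &&
      redOK E

theorem red_keep : ∀ (E : List (ℕ × ℕ)) (s p : ℕ), (E.all fun q => !q.2.testBit p) = true →
    (red E s).testBit p = s.testBit p
  | [], _, _, _ => rfl
  | (q, w) :: E, s, p, h => by
    simp only [List.all_cons, Bool.and_eq_true, Bool.not_eq_true'] at h
    rw [red, red_keep E _ p h.2]
    split_ifs <;> simp [Nat.testBit_xor, h.1]

theorem red_spec : ∀ (E : List (ℕ × ℕ)) (s : ℕ), redOK E = true →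
    (isCode (s ^^^ red E s) = true ∧ s ^^^ red E s < 2 ^ 24) ∧
      ∀ q ∈ E, (red E s).testBit q.1 = false
  | [], s, _ => ⟨by rw [red, Nat.xor_self]; exact ⟨by decide, by norm_num⟩, fun _ h => absurd h List.not_mem_nil⟩
  | (p, w) :: E, s, h => by
    simp only [redOK, Bool.and_eq_true, decide_eq_true_eq] at h
    obtain ⟨⟨⟨⟨hw, hwlt⟩, hp⟩, hkeep⟩, hE⟩ := h
    rw [red]
    obtain ⟨⟨h1, h1'⟩, h2⟩ := red_spec E (if s.testBit p then s ^^^ w else s) hE
    refine ⟨?_, fun q hq => ?_⟩
    · by_cases hb : s.testBit p = true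
      · rw [if_pos hb] at h1 h1' ⊢
        rw [show s ^^^ red E (s ^^^ w) = w ^^^ ((s ^^^ w) ^^^ red E (s ^^^ w)) from
          Nat.eq_of_testBit_eq fun j => by
            simp only [Nat.testBit_xor]
            cases s.testBit j <;> cases w.testBit j <;> simp]
        simp only [isCode, beq_iff_eq] at h1 hw ⊢
        exact ⟨by rw [enc_xor, hw, h1], Nat.xor_lt_two_pow hwlt h1'⟩
      · rw [if_neg hb] at h1 h1' ⊢
        exact ⟨h1, h1'⟩
    · rcases List.mem_cons.1 hq with rfl | hq
      · rw [red_keep E _ p hkeep]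
        by_cases hb : s.testBit p = true
        · rw [if_pos hb, Nat.testBit_xor, hb, hp]; rfl
        · rw [if_neg hb]; simpa using hb
      · exact h2 q hq

/-- The signed starting vector. -/
def startL (a : List ℕ) (s : ℕ) : List ℤ :=
  (List.range 24).map fun i =>
    if a.getD i 0 % 2 = 1 then (if a.getD i 0 % 4 = 1 then (a.getD i 0 : ℤ) else -(a.getD i 0 : ℤ))
    else if s.testBit i then -(a.getD i 0 : ℤ) else (a.getD i 0 : ℤ)

/-- The check of one normal form. -/
def entryOK (t : List ℤ) (e : Entry) : Bool :=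
  redOK e.2.2.1 &&
  ((List.range 24).all fun i => e.1.getD i 0 % 2 == e.1.getD 0 0 % 2 &&
    (e.1.getD 0 0 % 2 == 1 || e.1.getD i 0 == 0 || e.2.1.contains i || e.2.2.1.any fun q => q.1 == i)) &&
  e.2.2.2.length == (if e.1.getD 0 0 % 2 = 1 then [0] else subs e.2.1).length &&
  ((List.zip (if e.1.getD 0 0 % 2 = 1 then [0] else subs e.2.1) e.2.2.2).all fun sw =>
    if sw.2.isEmpty then !inLat (vec (startL e.1 sw.1))
    else sw.2.all opOK && runL sw.2 (startL e.1 sw.1) == t)

theorem entry_word {t : List ℤ} {e : Entry} (h : entryOK t e = true) {s : ℕ}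
    (hs : s ∈ (if e.1.getD 0 0 % 2 = 1 then [0] else subs e.2.1)) {v : leechLattice}
    (hv : lst (v : Vec) = startL e.1 s) : ∃ g : Co0, lst ((g • v : leechLattice) : Vec) = t := by
  simp only [entryOK, Bool.and_eq_true, beq_iff_eq] at h
  obtain ⟨⟨-, hlen⟩, hall⟩ := h
  obtain ⟨k, hk, hks⟩ := List.getElem_of_mem hs
  have hmem : (s, e.2.2.2[k]'(by omega)) ∈
      List.zip (if e.1.getD 0 0 % 2 = 1 then [0] else subs e.2.1) e.2.2.2 := by
    refine List.mem_iff_getElem.2 ⟨k, by simp only [List.length_zip]; omega, ?_⟩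
    simp only [List.getElem_zip, hks]
  have := List.all_eq_true.1 hall _ hmem
  split_ifs at this with hemp
  · rw [← hv, vec_lst, Bool.not_eq_true'] at this
    rw [inLat_of_mem v.2] at this
    cases this
  · simp only [Bool.and_eq_true, beq_iff_eq] at this
    obtain ⟨g, hg⟩ := run_sound _ this.1 v
    exact ⟨g, by rw [hg, hv, this.2]⟩

theorem entry_sound {t : List ℤ} {e : Entry} (h : entryOK t e = true) {v : leechLattice}
    (hv : ∀ i < 24, |(v : Vec) (pt i)| = (e.1.getD i 0 : ℤ)) :
    ∃ g : Co0, lst ((g • v : leechLattice) : Vec) = t := by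
  classical
  have h' := h
  simp only [entryOK, Bool.and_eq_true, List.all_eq_true, List.mem_range, beq_iff_eq, Bool.or_eq_true,
    List.contains_eq_mem, decide_eq_true_eq, List.any_eq_true] at h'
  obtain ⟨⟨⟨hred, hcov⟩, -⟩, -⟩ := h'
  by_cases hodd : e.1.getD 0 0 % 2 = 1
  · obtain ⟨m, c, y, hm, hc, hx, -⟩ := mem_lattice_iff.1 v.2
    have hm1 : m = 1 := by
      have h1 := hv 0 (by norm_num)
      have h2 := hx (pt 0)
      rcases abs_cases ((v : Vec) (pt 0)) with ⟨e1, -⟩ | ⟨e1, -⟩ <;>
        (rw [e1] at h1; unfold ind at h2; split_ifs at h2 <;> omega)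
    subst hm1
    have hsv : lst ((sign c hc • v : leechLattice) : Vec) = startL e.1 0 := by
      refine List.map_congr_left fun i hi => ?_
      have hi' := List.mem_range.1 hi
      have ha := hv i hi'
      have hpar := (hcov i hi').1
      have h2 := hx (pt i)
      rw [sign_smul]
      simp only [Basic.flip, ind] at h2 ⊢
      have : e.1.getD i 0 % 2 = 1 := by omega
      rw [if_pos this]
      rcases abs_cases ((v : Vec) (pt i)) with ⟨e1, -⟩ | ⟨e1, -⟩ <;>
        (rw [e1] at ha; by_cases hc' : pt i ∈ c <;> by_cases h4 : e.1.getD i 0 % 4 = 1 <;>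
          simp only [hc', h4, if_true, if_false] at h2 ⊢ <;> omega)
    obtain ⟨g, hg⟩ := entry_word h (s := 0) (by rw [if_pos hodd]; exact List.mem_singleton.2 rfl) hsv
    exact ⟨g * sign c hc, by rw [mul_smul]; exact hg⟩
  · set s := mask (univ.filter fun p => (v : Vec) p < 0)
    obtain ⟨⟨hd, hdlt⟩, hpiv⟩ := red_spec e.2.2.1 s hred
    set s2 := Nat.ofBits fun i : Fin 24 => (red e.2.2.1 s).testBit i.1 && e.1.getD i.1 0 != 0
    have hs2 : s2 ∈ subs e.2.1 := by
      refine subs_mem _ _ fun j hj => ?_
      have hj24 : j < 24 := by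
        by_contra hc
        rw [Nat.testBit_ofBits_ge _ _ (Nat.le_of_not_lt hc)] at hj
        cases hj
      rw [Nat.testBit_ofBits_lt _ _ hj24] at hj
      simp only [Bool.and_eq_true, bne_iff_ne] at hj
      rcases (hcov j hj24).2 with ((h1 | h1) | h1) | ⟨q, hq, rfl⟩
      · exact absurd h1 hodd
      · exact absurd h1 hj.2
      · exact h1
      · rw [hpiv q hq] at hj; exact absurd hj.1 (by simp)
    have hdc : maskSet (s ^^^ red e.2.2.1 s) ∈ codeSets :=
      mem_supports_iff.2 (by rw [mask_maskSet hdlt]; exact hd)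
    have hsv : lst ((sign _ hdc • v : leechLattice) : Vec) = startL e.1 s2 := by
      refine List.map_congr_left fun i hi => ?_
      have hi' := List.mem_range.1 hi
      have ha := hv i hi'
      have hpar := (hcov i hi').1
      rw [sign_smul]
      simp only [Basic.flip, mem_maskSet, ix_pt hi']
      have : ¬ e.1.getD i 0 % 2 = 1 := by omega
      rw [if_neg this, show s2.testBit i = ((red e.2.2.1 s).testBit i && e.1.getD i 0 != 0) from
        Nat.testBit_ofBits_lt _ _ hi']
      have hs : s.testBit i = decide ((v : Vec) (pt i) < 0) := by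
        rw [← ix_pt hi', testBit_mask]; simp [ix_pt hi']
      rw [Nat.testBit_xor, hs]
      generalize e.1.getD i 0 = a at *
      cases hr : (red e.2.2.1 s).testBit i <;>
        rcases abs_cases ((v : Vec) (pt i)) with ⟨e1, e2⟩ | ⟨e1, e2⟩ <;>
        (rw [e1] at ha; by_cases h0 : a = 0 <;>
          by_cases hneg : (v : Vec) (pt i) < 0 <;> simp [h0, hneg] <;> omega)
    obtain ⟨g, hg⟩ := entry_word h (s := s2) (by rw [if_neg hodd]; exact hs2) hsv
    exact ⟨g * sign _ hdc, by rw [mul_smul]; exact hg⟩

/-- Vectors with the absolute values of a checked normal form go to the standard vector. -/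
theorem table_sound {T : List Entry} {t : Vec} (hT : T.all (entryOK (lst t)) = true) {v : leechLattice}
    (hv : (lst fun p => |(v : Vec) p|) ∈ T.map fun e => e.1.map fun a : ℕ => (a : ℤ)) :
    ∃ g : Co0, ((g • v : leechLattice) : Vec) = t := by
  obtain ⟨e, he, heq⟩ := List.mem_map.1 hv
  obtain ⟨g, hg⟩ := entry_sound (List.all_eq_true.1 hT e he) (v := v) fun i hi => by
    have h1 := getD_lst (fun p => |(v : Vec) p|) (pt i)
    rw [← heq, ix_pt hi] at h1
    rw [← h1]
    exact List.getD_map e.1 0 fun a : ℕ => (a : ℤ)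
  exact ⟨g, lst_injective hg⟩

/-- The standard vector of squared length 32. -/
def target32 : Vec := pairVec (pt 0) 1

/-- The standard vector of squared length 48. -/
def target48 : Vec := Cfsg.Agent.Leech.Gen.twoInd (maskSet 165759)

/-- The standard vector of squared length 64. -/
def target64 : Vec := fun p => if p = none then 8 else 0

theorem table32_ok : table32.all (entryOK (lst target32)) = true := by decide +kernel

theorem table48_ok : table48.all (entryOK (lst target48)) = true := by decide +kernel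

theorem table64_ok : table64.all (entryOK (lst target64)) = true := by decide +kernel

end Cfsg.Agent.LeechAut.Shapes
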