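import Cfsg.Agent.Lib.LeechAut.Pairs

/-!
Vectors of squared length 48 next to one of squared length 32 with inner product 16: normal forms,
transitivity and an involution without fixed points on the hundred vectors attached to them.
-/

set_option autoImplicit false
set_option maxRecDepth 10000

namespace Cfsg.Agent.LeechAut.Triples

open Cfsg Cfsg.Agent.Golay.Basic Cfsg.Agent.Golay.Design Cfsg.Agent.Golay.Trans Cfsg.Agent.Leech.Basic
  Cfsg.Agent.Leech.Index Cfsg.Agent.LeechAut.Gens Cfsg.Agent.LeechAut.Basic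
  Cfsg.Agent.LeechAut.Shells Cfsg.Agent.LeechAut.Cross Cfsg.Agent.LeechAut.Pairs Finset
open scoped Pointwise symmDiff

set_option maxHeartbeats 1000000 in
/-- The shapes with `2` at two points. -/
theorem shape48 {x : leechLattice} (h : sqNorm (x : Vec) = 48) (h2 : |(x : Vec) none| = 2)
    (h0 : |(x : Vec) (pt 0)| = 2) :
    (∃ D ∈ dodecads, ∀ p, |(x : Vec) p| = if p ∈ D then 2 else 0) ∨
      ∃ j k, j ≠ none ∧ j ≠ pt 0 ∧ k ≠ none ∧ k ≠ pt 0 ∧ j ≠ k ∧
        |(x : Vec) j| = 4 ∧ |(x : Vec) k| = 2 := by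
  classical
  have hb := abs_le_eight h (by norm_num)
  obtain ⟨hc1, hc2⟩ := counts h (by norm_num)
  obtain ⟨hc, n1, n3, n5, n7, -⟩ := even_class x.2 hb (by
    rcases abs_eq (by norm_num : (0 : ℤ) ≤ 2) |>.1 h2 with e | e <;> omega)
  have hw := weights_supports hc
  rw [union_card] at hw
  have hpos : 1 ≤ (atVal (x : Vec) 2).card := card_pos.2 ⟨none, mem_atVal.2 h2⟩
  have hcases : ((atVal (x : Vec) 2).card = 12 ∧ (atVal (x : Vec) 4).card = 0 ∧
      (atVal (x : Vec) 6).card = 0 ∧ (atVal (x : Vec) 8).card = 0) ∨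
      ((atVal (x : Vec) 2).card = 8 ∧ (atVal (x : Vec) 4).card = 1 ∧
      (atVal (x : Vec) 6).card = 0 ∧ (atVal (x : Vec) 8).card = 0) := by omega
  rcases hcases with ⟨c2, c4, c6, c8⟩ | ⟨c2, c4, c6, c8⟩
  · simp only [Finset.card_eq_zero] at c4 c6 c8 n1 n3 n5 n7
    rw [c6, union_empty] at hc
    refine Or.inl ⟨_, ⟨hc, c2⟩, fun p => ?_⟩
    by_cases hp : p ∈ atVal (x : Vec) 2
    · rw [if_pos hp]; exact mem_atVal.1 hp
    · rw [if_neg hp]
      exact rest_even hb (by simp [n1, n3, n5, n7]) hp (by simp [c4]) (by simp [c6]) (by simp [c8])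
  · obtain ⟨j, hj⟩ := Finset.card_eq_one.1 c4
    have hj4 : |(x : Vec) j| = 4 := mem_atVal.1 (hj ▸ mem_singleton_self j)
    obtain ⟨k, hk⟩ := card_pos.1 (show 0 < (((atVal (x : Vec) 2).erase none).erase (pt 0)).card by
      rw [card_erase_of_mem (mem_erase.2 ⟨pt0_ne_none, mem_atVal.2 h0⟩),
        card_erase_of_mem (mem_atVal.2 h2), c2]
      norm_num)
    simp only [mem_erase, mem_atVal] at hk
    exact Or.inr ⟨j, k, fun e => by rw [e, h2] at hj4; norm_num at hj4,
      fun e => by rw [e, h0] at hj4; norm_num at hj4, hk.2.1, hk.1,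
      fun e => by rw [e, hk.2.2] at hj4; norm_num at hj4, hj4, hk.2.2⟩

theorem exists_sign (a b : ℤ) (h : |a| = b) : ∃ s : ℤ, (s = 1 ∨ s = -1) ∧ s * a = b := by
  rcases abs_cases a with ⟨e, -⟩ | ⟨e, -⟩
  · exact ⟨1, Or.inl rfl, by omega⟩
  · exact ⟨-1, Or.inr rfl, by omega⟩

theorem neg_card_even {x : leechLattice} {D : Finset GolayPt} (hD : D.card = 12)
    (h : ∀ p, |(x : Vec) p| = if p ∈ D then 2 else 0) :
    2 ∣ (univ.filter fun p => (x : Vec) p < 0).card := by
  obtain ⟨m, c, a, hm, -, hx, hs⟩ := mem_lattice_iff.1 x.2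
  have x0 := hx none
  have e0 := h none
  have hm0 : m = 0 := by
    by_cases hp : (none : GolayPt) ∈ D
    · rw [if_pos hp] at e0
      rcases abs_eq (by norm_num : (0 : ℤ) ≤ 2) |>.1 e0 with e | e <;> omega
    · rw [if_neg hp, abs_eq_zero] at e0; omega
  subst hm0
  have key : ∑ p, (x : Vec) p + 4 * ((univ.filter fun p => (x : Vec) p < 0).card : ℤ) =
      2 * (D.card : ℤ) := by
    rw [show (D.card : ℤ) = ∑ p, if p ∈ D then 1 else 0 by rw [sum_boole, filter_univ_mem],
      ← sum_boole, mul_sum, mul_sum, ← sum_add_distrib]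
    refine sum_congr rfl fun p _ => ?_
    have e := h p
    by_cases hp : p ∈ D
    · rw [if_pos hp] at e ⊢
      rcases abs_eq (by norm_num : (0 : ℤ) ≤ 2) |>.1 e with e | e <;> rw [e] <;> norm_num
    · rw [if_neg hp, abs_eq_zero] at e
      rw [if_neg hp, e]; norm_num
  rw [hD] at key
  omega

/-- A vector orthogonal to `v0` with inner product 24. -/
theorem exists_y {x : leechLattice} (h : sqNorm (x : Vec) = 48) (h2 : (x : Vec) none = 2)
    (h0 : (x : Vec) (pt 0) = 2) :
    ∃ y : leechLattice, sqNorm (y : Vec) = 32 ∧ dotInt (v0 : Vec) (y : Vec) = 0 ∧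
      dotInt (x : Vec) (y : Vec) = 24 := by
  classical
  rcases shape48 h (by rw [h2]; rfl) (by rw [h0]; rfl) with ⟨D, hD, hx⟩ |
    ⟨j, k, hjn, hj0, hkn, hk0, hjk, hj, hk⟩
  · have hnD : none ∈ D := by by_contra hn; have := hx none; rw [if_neg hn, h2] at this; norm_num at this
    have h0D : pt 0 ∈ D := by by_contra hn; have := hx (pt 0); rw [if_neg hn, h0] at this; norm_num at this
    obtain ⟨k, hk⟩ := card_pos.1 (show 0 < ((D.erase none).erase (pt 0)).card by
      rw [card_erase_of_mem (mem_erase.2 ⟨pt0_ne_none, h0D⟩), card_erase_of_mem hnD,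
        (mem_dodecads_iff.1 hD).2]
      norm_num)
    simp only [mem_erase] at hk
    obtain ⟨hk0, hkn, hkD⟩ := hk
    set N := univ.filter fun p => (x : Vec) p < 0 with hN
    have hNn : none ∉ N ∆ {k} := by
      simp [Finset.mem_symmDiff, hN, h2, Ne.symm hkn]
    have hN0 : pt 0 ∉ N ∆ {k} := by
      simp [Finset.mem_symmDiff, hN, h0, Ne.symm hk0]
    have hNk : ∀ p, p ∈ N ∆ {k} → p ∈ D := fun p hp => by
      rcases Finset.mem_symmDiff.1 hp with ⟨h1, -⟩ | ⟨h1, -⟩
      · by_contra hn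
        have := hx p
        rw [if_neg hn, abs_eq_zero] at this
        rw [hN, mem_filter] at h1
        omega
      · rwa [mem_singleton.1 h1]
    have hev : 2 ∣ (insert none (N ∆ {k})).card := by
      have e1 := card_symmDiff_eq N {k}
      have e2 := neg_card_even (mem_dodecads_iff.1 hD).2 hx
      rw [← hN] at e2
      rw [card_singleton] at e1
      rw [card_insert_of_notMem hNn]
      omega
    obtain ⟨c, hc, hcS⟩ := trace_exists (Or.inr hD) (insert_subset hnD hNk) hev
    obtain ⟨σ, hσ, hl⟩ := exists_map_list [k] [none] (by simp) (by simp) rfl (by simp)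
    simp only [List.map_cons, List.map_nil, List.cons.injEq, and_true] at hl
    set y := sign c hc • perm σ hσ • (⟨_, Cfsg.Agent.Leech.Gen.oddVec_mem.1⟩ : leechLattice) with hy
    have hyv : ∀ p, (y : Vec) p = (if p ∈ c then -1 else 1) * (if p = k then -3 else 1) := by
      intro p
      rw [hy, sign_smul, Basic.flip, perm_smul]
      show (if p ∈ c then -(Cfsg.Agent.Leech.Gen.oddVec (σ p)) else Cfsg.Agent.Leech.Gen.oddVec (σ p)) = _
      have e : σ p = none ↔ p = k := by rw [← σ.injective.eq_iff (a := p), hl]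
      rw [oddVec_apply]
      simp only [e]
      split_ifs <;> norm_num
    have hcD : ∀ p ∈ D, (p ∈ c ↔ p = none ∨ p ∈ N ∆ {k}) := fun p hp => by
      rw [← (show p ∈ c ∩ D ↔ p ∈ c by simp [hp]), hcS, mem_insert]
    have y_none : (y : Vec) none = -1 := by
      rw [hyv, if_pos ((hcD none hnD).2 (Or.inl rfl)), if_neg (Ne.symm hkn)]; rfl
    have y_zero : (y : Vec) (pt 0) = 1 := by
      rw [hyv, if_neg, if_neg (Ne.symm hk0)]; · rfl
      rw [hcD _ h0D]; simp [pt0_ne_none, hN0]
    refine ⟨y, ?_, by rw [dot_v0, y_none, y_zero]; rfl, ?_⟩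
    · rw [hy, sqNorm_smul, sqNorm_smul]
      show sqNorm Cfsg.Agent.Leech.Gen.oddVec = 32
      exact Cfsg.Agent.Leech.Gen.oddVec_mem.2
    · have key : ∀ p, (x : Vec) p * (y : Vec) p =
          (if p ∈ D then (2 : ℤ) else 0) + (if p = k then 4 else 0) + (if p = none then -4 else 0) := by
        intro p
        have e := hx p
        by_cases hp : p ∈ D
        · rw [if_pos hp] at e ⊢
          by_cases hpn : p = none
          · subst hpn; rw [h2, y_none, if_neg (Ne.symm hkn)]; rfl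
          rw [if_neg hpn, hyv]
          by_cases hpk : p = k
          · subst hpk
            have hiff : p ∈ c ↔ ¬ (x : Vec) p < 0 := by
              rw [hcD p hp, or_iff_right hpn, Finset.mem_symmDiff]; simp [hN]
            rcases abs_eq (by norm_num : (0 : ℤ) ≤ 2) |>.1 e with e | e
            · rw [e, if_pos (hiff.2 (by omega))]; simp
            · rw [e, if_neg (fun h => hiff.1 h (by omega))]; simp
          · have hiff : p ∈ c ↔ (x : Vec) p < 0 := by
              rw [hcD p hp, or_iff_right hpn, Finset.mem_symmDiff]; simp [hN, hpk]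
            rw [if_neg hpk, if_neg hpk]
            rcases abs_eq (by norm_num : (0 : ℤ) ≤ 2) |>.1 e with e | e
            · rw [e, if_neg (fun h => by have := hiff.1 h; omega)]; simp
            · rw [e, if_pos (hiff.2 (by omega))]; simp
        · rw [if_neg hp, abs_eq_zero] at e
          rw [e, if_neg hp, if_neg (fun a : p = k => hp (a.symm ▸ hkD)),
            if_neg (fun a : p = none => hp (a.symm ▸ hnD))]
          simp
      rw [dotInt, sum_congr rfl fun p _ => key p, sum_add_distrib, sum_add_distrib, sum_ite_eq',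
        sum_ite_eq', ← sum_filter, filter_univ_mem, sum_const, (mem_dodecads_iff.1 hD).2]
      simp
  · obtain ⟨s, hs, es⟩ := exists_sign _ _ hj
    obtain ⟨t, ht, et⟩ := exists_sign _ _ hk
    refine ⟨⟨_, four_two_mem hjk hs ht⟩, ?_, ?_, ?_⟩
    · show ∑ p, (if p = j then 4 * s else if p = k then 4 * t else 0) ^ 2 = 32
      rw [← Finset.sum_subset (subset_univ ({j, k} : Finset GolayPt)) (fun p _ hp => by
        simp only [mem_insert, mem_singleton, not_or] at hp
        simp [hp.1, hp.2]), Finset.sum_pair hjk]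
      rcases hs with rfl | rfl <;> rcases ht with rfl | rfl <;> simp [hjk.symm]
    · rw [dot_v0]
      simp [Ne.symm hjn, Ne.symm hkn, Ne.symm hj0, Ne.symm hk0]
    · show ∑ p, (x : Vec) p * (if p = j then 4 * s else if p = k then 4 * t else 0) = 24
      rw [← Finset.sum_subset (subset_univ ({j, k} : Finset GolayPt)) (fun p _ hp => by
        simp only [mem_insert, mem_singleton, not_or] at hp
        simp [hp.1, hp.2]), Finset.sum_pair hjk, if_pos rfl, if_neg hjk.symm, if_pos rfl]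
      linarith

/-- Normal form of a triple: `s`, orthogonal `y`, and `v`. -/
theorem to_five (s v y : leechLattice) (hs : sqNorm (s : Vec) = 32) (hy : sqNorm (y : Vec) = 32)
    (hsv : dotInt (s : Vec) (v : Vec) = 16) (hsy : dotInt (s : Vec) (y : Vec) = 0)
    (hvy : dotInt (v : Vec) (y : Vec) = 24) :
    ∃ g : Co0, g • s = v0 ∧ g • y = w0 ∧ ((g • v : leechLattice) : Vec) none = 5 ∧
      ((g • v : leechLattice) : Vec) (pt 0) = -1 := by
  obtain ⟨g, gs, gy⟩ := to_pair0 s y hs hy hsy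
  have e1 := dot_smul g s v
  have e2 := dot_smul g y v
  rw [gs, dot_v0, hsv] at e1
  rw [gy, dot_w0, dot_comm (y : Vec), hvy] at e2
  exact ⟨g, gs, gy, by omega, by omega⟩

set_option maxHeartbeats 1000000 in
theorem trans_five {x x' : leechLattice} (hx : sqNorm (x : Vec) = 48) (hx' : sqNorm (x' : Vec) = 48)
    (h1 : (x : Vec) none = 5) (h0 : (x : Vec) (pt 0) = -1) (h1' : (x' : Vec) none = 5)
    (h0' : (x' : Vec) (pt 0) = -1) :
    ∃ n : Co0, n • v0 = v0 ∧ n • w0 = w0 ∧ n • x = x' := by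
  classical
  have key : ∀ {x : leechLattice}, sqNorm (x : Vec) = 48 → (x : Vec) none = 5 →
      ∀ p, |(x : Vec) p| = if p = none then 5 else 1 := by
    intro x hx h1
    have hb := abs_le_eight hx (by norm_num)
    obtain ⟨hc1, hc2⟩ := counts hx (by norm_num)
    obtain ⟨n0, n2, n4, n6, n8⟩ := odd_class x.2 (by rw [h1]; rfl)
    have hn : none ∈ atVal (x : Vec) 5 := mem_atVal.2 (by rw [h1]; rfl)
    have hpos : 1 ≤ (atVal (x : Vec) 5).card := card_pos.2 ⟨_, hn⟩
    have hcases : (atVal (x : Vec) 5).card = 1 ∧ (atVal (x : Vec) 3).card = 0 ∧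
        (atVal (x : Vec) 7).card = 0 := by omega
    obtain ⟨c5, c3, c7⟩ := hcases
    simp only [Finset.card_eq_zero] at n0 n2 n4 n6 n8 c3 c7
    intro p
    by_cases hp : p = none
    · subst hp; rw [if_pos rfl, h1]; rfl
    · rw [if_neg hp]
      refine rest_odd hb (by simp [n0, n2, n4, n6, n8]) (by simp [c3]) (fun h => hp ?_) (by simp [c7])
      obtain ⟨a, ha⟩ := Finset.card_eq_one.1 c5
      rw [ha, mem_singleton] at h hn
      rw [h, hn]
  obtain ⟨d, hd, he, havoid⟩ := flip_mem (x := x) (y := x') (by rw [h1]; rfl)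
    (fun p => by rw [key hx h1, key hx' h1'])
  have a1 : none ∉ d := havoid _ (by rw [h1, h1'])
  have a2 : pt 0 ∉ d := havoid _ (by rw [h0, h0'])
  refine ⟨sign d hd, sign_fix hd a1 a2, Subtype.ext (funext fun p => ?_), he⟩
  rw [sign_smul]
  show Basic.flip d orthVec p = orthVec p
  by_cases hp : p ∈ d
  · rw [Basic.flip, if_pos hp, orthVec, if_neg (fun e : p = none => a1 (e ▸ hp)),
      if_neg (fun e : p = pt 0 => a2 (e ▸ hp))]
    rfl
  · rw [Basic.flip, if_neg hp]

/-- The triples `(s, y, v)` form one orbit. -/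
theorem trans_triple (s v y s' v' y' : leechLattice) (hs : sqNorm (s : Vec) = 32) (hv : sqNorm (v : Vec) = 48)
    (hy : sqNorm (y : Vec) = 32) (hsv : dotInt (s : Vec) (v : Vec) = 16)
    (hsy : dotInt (s : Vec) (y : Vec) = 0) (hvy : dotInt (v : Vec) (y : Vec) = 24)
    (hs' : sqNorm (s' : Vec) = 32) (hv' : sqNorm (v' : Vec) = 48)
    (hy' : sqNorm (y' : Vec) = 32) (hsv' : dotInt (s' : Vec) (v' : Vec) = 16)
    (hsy' : dotInt (s' : Vec) (y' : Vec) = 0) (hvy' : dotInt (v' : Vec) (y' : Vec) = 24) :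
    ∃ g : Co0, g • s = s' ∧ g • v = v' ∧ g • y = y' := by
  obtain ⟨g, gs, gy, a, b⟩ := to_five s v y hs hy hsv hsy hvy
  obtain ⟨g', gs', gy', a', b'⟩ := to_five s' v' y' hs' hy' hsv' hsy' hvy'
  obtain ⟨n, ns, ny, nv⟩ := trans_five ((sqNorm_smul g v).trans hv) ((sqNorm_smul g' v').trans hv') a b a' b'
  refine ⟨g'⁻¹ * n * g, ?_, ?_, ?_⟩
  · rw [mul_smul, mul_smul, gs, ns, ← gs', inv_smul_smul]
  · rw [mul_smul, mul_smul, nv, inv_smul_smul]
  · rw [mul_smul, mul_smul, gy, ny, ← gy', inv_smul_smul]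

theorem exists_y' (s v : leechLattice) (hs : sqNorm (s : Vec) = 32) (hv : sqNorm (v : Vec) = 48)
    (hsv : dotInt (s : Vec) (v : Vec) = 16) :
    ∃ y : leechLattice, sqNorm (y : Vec) = 32 ∧ dotInt (s : Vec) (y : Vec) = 0 ∧
      dotInt (v : Vec) (y : Vec) = 24 := by
  obtain ⟨g, gs, g0, gd⟩ := to_std s v hs (by omega)
  rw [hsv] at gd
  obtain ⟨y, hy, h1, h2⟩ := exists_y ((sqNorm_smul g v).trans hv) (by omega) (by omega)
  refine ⟨g⁻¹ • y, (sqNorm_smul g⁻¹ y).trans hy, ?_, ?_⟩
  · rw [← dot_smul g, gs, smul_inv_smul, h1]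
  · rw [← dot_smul g, smul_inv_smul, h2]

/-- The pairs `(s, v)` form one orbit. -/
theorem trans_sv (s v s' v' : leechLattice) (hs : sqNorm (s : Vec) = 32) (hv : sqNorm (v : Vec) = 48)
    (hsv : dotInt (s : Vec) (v : Vec) = 16) (hs' : sqNorm (s' : Vec) = 32) (hv' : sqNorm (v' : Vec) = 48)
    (hsv' : dotInt (s' : Vec) (v' : Vec) = 16) : ∃ g : Co0, g • s = s' ∧ g • v = v' := by
  obtain ⟨y, hy, a, b⟩ := exists_y' s v hs hv hsv
  obtain ⟨y', hy', a', b'⟩ := exists_y' s' v' hs' hv' hsv'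
  obtain ⟨g, h1, h2, -⟩ := trans_triple s v y s' v' y' hs hv hy hsv a b hs' hv' hy' hsv' a' b'
  exact ⟨g, h1, h2⟩

theorem dot_add_left (a b c : Vec) : dotInt (a + b) c = dotInt a c + dotInt b c := by
  simp only [dotInt, Pi.add_apply, add_mul, sum_add_distrib]

theorem dot_self (a : Vec) : dotInt a a = sqNorm a := sum_congr rfl fun i _ => (sq (a i)).symm

/-- The sum of two vectors of squared length 48 with inner product -32. -/
theorem sum_facts {v w : leechLattice} (hv : sqNorm (v : Vec) = 48) (hw : sqNorm (w : Vec) = 48)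
    (hvw : dotInt (v : Vec) (w : Vec) = -32) :
    sqNorm ((v + w : leechLattice) : Vec) = 32 ∧
      dotInt ((v + w : leechLattice) : Vec) (v : Vec) = 16 := by
  rw [AddSubgroup.coe_add, sqNorm_add, dot_add_left, dot_self, dot_comm (w : Vec), hv, hw, hvw]
  norm_num

end Cfsg.Agent.LeechAut.Triples
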